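import Cfsg.Agent.SB.D4.RA1

/-!
# S5765, `PΩ₈⁺(q)`, case `r = 2`: some lift has square `-1` (helper30)
-/

set_option autoImplicit false
set_option linter.unusedSectionVars false
set_option maxHeartbeats 200000

namespace Cfsg.Agent.SB.D4

open QuadraticMap Module Cfsg.Agent.LieClassical.OrthCore Cfsg.Agent.LieClassical.OrthTrans
  Cfsg.Agent.ClassicalGeometry.OrthSemi Cfsg.Agent.ClassicalGeometry.TrialityOct
  Cfsg.Agent.ClassicalGeometry.Triality Cfsg.Agent.H989.OutOrth.Basic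

variable {F : Type} [Field F] [Fintype F]

/-- square `-1` -/
abbrev Ng (a : E8 F) : Prop := Sc (a * a) (-1)

theorem sq_or_ng {a : E8 F} (h : ∃ e, Sc (a * a) e) : a * a = 1 ∨ Ng a := by
  obtain ⟨e, he⟩ := h
  rcases sq_cases he.sq with rfl | rfl
  exacts [Or.inl he.eq_one, Or.inr he]

theorem T3.types {a b c : E8 F} (h : T3 a b c) (ha : ∃ e, Sc (a * a) e) : (a * a = 1 ∧ b * b = 1 ∧ c * c = 1) ∨
    (a * a = 1 ∧ Ng b ∧ Ng c) ∨ (Ng a ∧ b * b = 1 ∧ Ng c) ∨ (Ng a ∧ Ng b ∧ c * c = 1) := by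
  obtain ⟨e, he⟩ := ha
  obtain ⟨d, d', h1, h2, rfl⟩ := (h.mul h).sc he
  rcases sq_cases h1.sq with rfl | rfl <;> rcases sq_cases h2.sq with rfl | rfl
  · rw [one_mul] at he
    exact Or.inl ⟨he.eq_one, h1.eq_one, h2.eq_one⟩
  · rw [one_mul] at he
    exact Or.inr (Or.inr (Or.inl ⟨he, h1.eq_one, h2⟩))
  · rw [mul_one] at he
    exact Or.inr (Or.inr (Or.inr ⟨he, h1, h2.eq_one⟩))
  · rw [neg_mul_neg, one_mul] at he
    exact Or.inr (Or.inl ⟨he.eq_one, h1, h2⟩)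

theorem gam_sign (M : Gam (Q8 F)) {e : F} (he : e * e = 1) (v : V8 F) : M.1 (e • v) = e • M.1 v := by
  rcases sq_cases he with rfl | rfl
  · rw [one_smul, one_smul]
  · rw [neg_one_smul, neg_one_smul, gam_neg]

theorem Sc.conj {a : E8 F} {e : F} (h : Sc a e) (M : Gam (Q8 F)) : Sc (conjE (Q8 F) M a) e := fun x => by
  obtain ⟨y, rfl⟩ := M.1.surjective x
  rw [conjE_apply, h, gam_sign M h.sq]

theorem Ng.conj {a : E8 F} (h : Ng a) (M : Gam (Q8 F)) : Ng (conjE (Q8 F) M a) := by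
  have h1 := Sc.conj h M
  rwa [map_mul] at h1

theorem Pc.conj {a b : E8 F} (h : Pc a b) (M : Gam (Q8 F)) : Pc (conjE (Q8 F) M a) (conjE (Q8 F) M b) := by
  obtain ⟨e, he⟩ := h
  have h1 := he.conj M
  rw [map_mul, map_inv, map_mul, map_mul] at h1
  exact ⟨e, h1⟩

theorem conjE_sq {M : Gam (Q8 F)} {a : E8 F} : conjE (Q8 F) M a * conjE (Q8 F) M a = 1 ↔ a * a = 1 := by
  rw [← map_mul, MulEquiv.map_eq_one_iff]

theorem Ng.mul {a b : E8 F} (ha : Ng a) (hb : Ng b) (h : a * b = b * a) : a * b * (a * b) = 1 := by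
  have h1 := Sc.mul ha hb
  rw [neg_mul_neg, one_mul] at h1
  rw [← h1.eq_one, mul_assoc, ← mul_assoc b, ← h, mul_assoc, ← mul_assoc]

theorem Ng.apply {a : E8 F} (ha : Ng a) (v : V8 F) : a.1 (a.1 v) = -v := by
  rw [← e8_mul, ha, neg_one_smul]

theorem Ng.nsc (h2 : (2 : F) ≠ 0) {a : E8 F} (ha : Ng a) : ¬ ∃ d, Sc a d := fun ⟨_, hd⟩ =>
  not_neg h2 ha (Sc.eq_one (hd.sq ▸ hd.mul hd))

theorem L3' (h2 : (2 : F) ≠ 0) {a b c a' b' c' J : E8 F} (h : T3 a b c) (h' : T3 a' b' c') (ha : a * a = 1)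
    (ha' : a' * a' = 1) (hb : Ng b) (hb' : Ng b') (hp : Pc a a') (hJ : Ng J) (h1 : Pc a J) (h1' : Pc a' J) :
    a * a' = a' * a ∧ b * b' = b' * b ∧ c * c' = c' * c :=
  have h3 := L1 h2 h ha hb hp
  have h4 := L3 h2 h h' ha ha' hb hb' h3 hJ (L1 h2 h ha hb h1) (L1 h2 h' ha' hb' h1')
  ⟨h3, h4, h.rot.rot.comm h'.rot.rot h3 h4⟩

theorem comm_of_types (h2 : (2 : F) ≠ 0) {a b c a' b' c' J₁ J₂ : E8 F} (h : T3 a b c) (h' : T3 a' b' c')
    (ht : (a * a = 1 ∧ Ng b ∧ Ng c) ∨ (Ng a ∧ b * b = 1 ∧ Ng c) ∨ (Ng a ∧ Ng b ∧ c * c = 1))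
    (ht' : (a' * a' = 1 ∧ Ng b' ∧ Ng c') ∨ (Ng a' ∧ b' * b' = 1 ∧ Ng c') ∨ (Ng a' ∧ Ng b' ∧ c' * c' = 1))
    (hp : Pc a a') (hJ₁ : Ng J₁) (k1 : Pc b J₁) (k1' : Pc b' J₁) (hJ₂ : Ng J₂) (k2 : Pc c J₂) (k2' : Pc c' J₂) :
    a * a' = a' * a := by
  obtain ⟨hpb, hpc⟩ := hp.rot h h'
  rcases ht with ⟨h1, h3, -⟩ | ht
  · exact L1 h2 h h1 h3 hp
  rcases ht' with ⟨h1, h3, -⟩ | ht'
  · exact (L1 h2 h' h1 h3 hp.symm).symm
  rcases ht with ⟨h1, h3, h4⟩ | ⟨h1, h3, h4⟩ <;> rcases ht' with ⟨h1', h3', h4'⟩ | ⟨h1', h3', h4'⟩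
  · exact (L3' h2 h.rot h'.rot h3 h3' h4 h4' hpb hJ₁ k1 k1').2.2
  · exact h.comm h' (L1 h2 h.rot h3 h4 hpb) (L1 h2 h'.rot.rot h4' h1' hpc.symm).symm
  · exact h.comm h' (L1 h2 h'.rot h3' h4' hpb.symm).symm (L1 h2 h.rot.rot h4 h1 hpc)
  · exact (L3' h2 h.rot.rot h'.rot.rot h4 h4' h1 h1' hpc hJ₂ k2 k2').2.1

/-- the lifts are involutions -/
def Sq (x : G8 F) : Prop := ∀ a : E8 F, (a : G8 F) = x → a * a = 1

theorem sq_mk {a : E8 F} : Sq (a : G8 F) ↔ a * a = 1 := by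
  refine ⟨fun h => h a rfl, fun h b hb => e8_ext fun x => ?_⟩
  obtain ⟨e, he, h1⟩ := mk_eq_iff.1 hb.symm
  rw [e8_mul, h1, h1, map_smul, smul_smul, he, one_smul, ← e8_mul, h]

/-- the lifts commute -/
def Cm (x : G8 F) : Subgroup (G8 F) where
  carrier := {y | ∀ a b : E8 F, (a : G8 F) = x → (b : G8 F) = y → a * b = b * a}
  one_mem' := fun a b _ hb => by
    obtain ⟨e, he⟩ := mk_eq_one_iff.1 hb
    exact e8_ext fun v => by rw [e8_mul, e8_mul, he, he, map_smul]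
  mul_mem' := fun {y y'} hy hy' a b ha hb => by
    obtain ⟨c, rfl⟩ := QuotientGroup.mk_surjective y
    have h1 : Commute a c := hy a c ha rfl
    have h2 : Commute a (c⁻¹ * b) := hy' a _ ha (by rw [QuotientGroup.mk_mul, QuotientGroup.mk_inv, hb]; group)
    simpa using (h1.mul_right h2).eq
  inv_mem' := fun {y} hy a b ha hb => by
    have h1 : Commute a b⁻¹ := hy a _ ha (by rw [QuotientGroup.mk_inv, hb, inv_inv])
    simpa using h1.inv_right.eq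

theorem Cm_symm {x y : G8 F} (h : y ∈ Cm x) : x ∈ Cm y := fun a b ha hb => (h b a hb ha).symm

/-- all `S`-conjugates lift to involutions -/
def Zt (S : Subgroup (MulAut (G8 F))) (x : G8 F) : Prop := ∀ s ∈ S, Sq (s x)

theorem Zt.map {S : Subgroup (MulAut (G8 F))} {x : G8 F} (h : Zt S x) {s : MulAut (G8 F)} (hs : s ∈ S) : Zt S (s x) :=
  fun t ht => h (t * s) (mul_mem ht hs)

theorem Zt.of_map {S : Subgroup (MulAut (G8 F))} {x : G8 F} {s : MulAut (G8 F)} (hs : s ∈ S) (h : Zt S (s x)) :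
    Zt S x := by simpa using h.map (inv_mem hs)

theorem small_sq (h3 : Nat.card F ≤ 3) {c : F} (hc : c ≠ 0) : c * c = 1 := by
  have h1 := FiniteField.pow_card_sub_one_eq_one c hc
  have h2 : 1 < Fintype.card F := Fintype.one_lt_card
  rw [Nat.card_eq_fintype_card] at h3
  obtain h4 | h4 : Fintype.card F - 1 = 1 ∨ Fintype.card F - 1 = 2 := by omega
  · rw [h4, pow_one] at h1
    rw [h1, one_mul]
  · rwa [h4, pow_two] at h1

namespace Cx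

variable {S : Subgroup (MulAut (G8 F))} {X : Subgroup (G8 F)} (h : Cx S X 2)
include h

theorem two_ne : (2 : F) ≠ 0 := by simpa using h.char

theorem sq_sc {a : E8 F} (ha : (a : G8 F) ∈ X) : ∃ e, Sc (a * a) e :=
  mk_eq_one_iff.1 (by rw [QuotientGroup.mk_mul, ← pow_two]; exact h.pow _ ha)

theorem pc {a b : E8 F} (ha : (a : G8 F) ∈ X) (hb : (b : G8 F) ∈ X) : Pc a b :=
  mk_eq_one_iff.1 (by
    rw [QuotientGroup.mk_mul, QuotientGroup.mk_inv, QuotientGroup.mk_mul, QuotientGroup.mk_mul, h.comm _ ha _ hb,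
      mul_inv_cancel])

theorem zt_iff {a b c : E8 F} (ht : T3 a b c) : Zt S (a : G8 F) ↔ a * a = 1 ∧ b * b = 1 ∧ c * c = 1 := by
  constructor
  · intro hz
    obtain ⟨α, hα, M, hM⟩ := h.t1
    have h1 := sq_mk.1 (hz 1 (one_mem _))
    have h2 := hz α hα
    rw [hM a b c ht, sq_mk, conjE_sq] at h2
    exact ⟨h1, h2, ht.sq_third h1 h2⟩
  · rintro ⟨h1, h2, h3⟩ s -
    obtain ⟨M, rfl | hM | hM⟩ := cosets s
    · rwa [Psi_mk, sq_mk, conjE_sq]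
    · rwa [hM a b c ht, sq_mk, conjE_sq]
    · rwa [hM a b c ht, sq_mk, conjE_sq]

theorem types {a b c : E8 F} (ht : T3 a b c) (ha : (a : G8 F) ∈ X) (hz : ¬ Zt S (a : G8 F)) :
    (a * a = 1 ∧ Ng b ∧ Ng c) ∨ (Ng a ∧ b * b = 1 ∧ Ng c) ∨ (Ng a ∧ Ng b ∧ c * c = 1) :=
  (ht.types (h.sq_sc ha)).resolve_left fun h1 => hz ((h.zt_iff ht).2 h1)

theorem cm_of_inv {p : G8 F → Prop} (hp : ∀ s ∈ S, ∀ x, p x → p (s x)) {z : G8 F} (hz : z ∈ X) (hz1 : z ≠ 1)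
    (h0 : ∀ x ∈ X, p x → ∀ s ∈ S, s z ∈ Cm (s x)) : ∀ y ∈ X, ∀ x ∈ X, p x → ∀ s ∈ S, s y ∈ Cm (s x) := by
  let Y : Subgroup (G8 F) := X ⊓ ⨅ x ∈ X, ⨅ _ : p x, ⨅ s ∈ S, (Cm (s x)).comap s.toMonoidHom
  have hY : ∀ y, y ∈ Y ↔ y ∈ X ∧ ∀ x ∈ X, p x → ∀ s ∈ S, s y ∈ Cm (s x) := fun y => by
    simp only [Y, Subgroup.mem_inf, Subgroup.mem_iInf, Subgroup.mem_comap]
    rfl
  rcases h.min Y inf_le_left (fun t ht y hy => (hY _).2 ⟨h.inv t ht y ((hY y).1 hy).1, fun x hx hpx s hs => by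
    have h1 := ((hY y).1 hy).2 (t⁻¹ x) (h.inv _ (inv_mem ht) x hx) (hp _ (inv_mem ht) x hpx) (s * t) (mul_mem hs ht)
    simpa using h1⟩) with h1 | h1
  · have h2 := (hY z).2 ⟨hz, h0⟩
    rw [h1, Subgroup.mem_bot] at h2
    exact (hz1 h2).elim
  · exact fun y hy => ((hY y).1 (h1 ▸ hy)).2

variable {J : E8 F} (hJ : (J : G8 F) ∈ X) (hN : Ng J)
include hJ hN

theorem not_zt : ¬ Zt S (J : G8 F) := fun h1 => not_neg h.two_ne hN (sq_mk.1 (h1 1 (one_mem _)))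

theorem cm_of_not_zt {x y : G8 F} (hx : x ∈ X) (hy : y ∈ X) (hx' : ¬ Zt S x) (hy' : ¬ Zt S y) : y ∈ Cm x := by
  rintro a a' rfl rfl
  obtain ⟨b, c, ht⟩ := exists_T3 a
  obtain ⟨b', c', ht'⟩ := exists_T3 a'
  obtain ⟨M, hM⟩ := h.sym1
  obtain ⟨N, hN'⟩ := h.sym2
  have k : ∀ (M : Gam (Q8 F)) (b : E8 F), ((conjE (Q8 F) M b : E8 F) : G8 F) ∈ X → Pc b (conjE (Q8 F) M⁻¹ J) :=
    fun M b hb => by
      have h1 := (h.pc hb hJ).conj M⁻¹
      rwa [conjE_inv_conjE] at h1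
  exact comm_of_types h.two_ne ht ht' (h.types ht hx hx') (h.types ht' hy hy') (h.pc hx hy) (hN.conj M⁻¹)
    (k M b ((hM _ _ _ ht).1 hx)) (k M b' ((hM _ _ _ ht').1 hy)) (hN.conj N⁻¹) (k N c ((hN' _ _ _ ht).1 hx))
    (k N c' ((hN' _ _ _ ht').1 hy))

theorem cm_all {x y : G8 F} (hx : x ∈ X) (hy : y ∈ X) : y ∈ Cm x := by
  have h0 : (J : G8 F) ≠ 1 := fun h1 => hN.nsc h.two_ne (mk_eq_one_iff.1 h1)
  have h1 := h.cm_of_inv (p := fun x => ¬ Zt S x) (fun s hs x hx h1 => hx (h1.of_map hs)) hJ h0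
    fun x hx hz s hs => h.cm_of_not_zt hJ hN (h.inv s hs x hx) (h.inv s hs _ hJ) (fun h1 => hz (h1.of_map hs))
      fun h1 => h.not_zt hJ hN (h1.of_map hs)
  exact h.cm_of_inv (p := fun _ => True) (fun _ _ _ _ => trivial) hJ h0
    (fun x hx _ s hs => Cm_symm (h1 x hx _ hJ (h.not_zt hJ hN) s hs)) y hy x hx trivial 1 (one_mem _)

theorem comm_two {a b : E8 F} (ha : (a : G8 F) ∈ X) (hb : (b : G8 F) ∈ X) : a * b = b * a :=
  h.cm_all hJ hN ha hb a b rfl rfl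

theorem zt_triv {y : G8 F} (hy : y ∈ X) (hz : Zt S y) : y = 1 := by
  let Z : Subgroup (G8 F) :=
    { carrier := {y | y ∈ X ∧ Zt S y}
      one_mem' := ⟨one_mem _, fun s _ => by rw [map_one]; exact (sq_mk (a := 1)).2 (one_mul 1)⟩
      mul_mem' := fun {u v} hu hv => ⟨mul_mem hu.1 hv.1, fun s hs => by
        obtain ⟨a, ha⟩ := QuotientGroup.mk_surjective (s u)
        obtain ⟨b, hb⟩ := QuotientGroup.mk_surjective (s v)
        have h1 := h.comm_two hJ hN (ha ▸ h.inv s hs u hu.1) (hb ▸ h.inv s hs v hv.1)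
        rw [map_mul, ← ha, ← hb, ← QuotientGroup.mk_mul, sq_mk, mul_assoc, ← mul_assoc b, ← h1, mul_assoc,
          hv.2 s hs b hb, mul_one, hu.2 s hs a ha]⟩
      inv_mem' := fun {u} hu => ⟨inv_mem hu.1, fun s hs a ha => by
        have h1 := hu.2 s hs a⁻¹ (by rw [QuotientGroup.mk_inv, ha, map_inv, inv_inv])
        rwa [← mul_inv_rev, inv_eq_one] at h1⟩ }
  rcases h.min Z (fun _ hu => hu.1) (fun s hs u hu => ⟨h.inv s hs u hu.1, hu.2.map hs⟩) with h1 | h1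
  · have h2 : y ∈ Z := ⟨hy, hz⟩
    rwa [h1, Subgroup.mem_bot] at h2
  · have h2 : (J : G8 F) ∈ Z := h1 ▸ hJ
    exact (h.not_zt hJ hN h2.2).elim

theorem exists_invol : ∃ a b c : E8 F, T3 a b c ∧ (a : G8 F) ∈ X ∧ a * a = 1 ∧ Ng b := by
  have k : ∀ a : E8 F, (a : G8 F) ∈ X → ¬ Zt S (a : G8 F) → a * a = 1 →
      ∃ a b c : E8 F, T3 a b c ∧ (a : G8 F) ∈ X ∧ a * a = 1 ∧ Ng b := fun a ha hz h1 => by
    obtain ⟨b, c, ht⟩ := exists_T3 a
    rcases h.types ht ha hz with h2 | h2 | h2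
    · exact ⟨a, b, c, ht, ha, h1, h2.2.1⟩
    · exact (not_neg h.two_ne h2.1 h1).elim
    · exact (not_neg h.two_ne h2.1 h1).elim
  obtain ⟨b, c, ht⟩ := exists_T3 J
  rcases h.types ht hJ (h.not_zt hJ hN) with h2 | h2 | h2
  · exact (not_neg h.two_ne hN h2.1).elim
  · obtain ⟨α, hα, M, hM⟩ := h.t1
    exact k _ (hM _ _ _ ht ▸ h.inv α hα _ hJ) (fun h1 => h.not_zt hJ hN (Zt.of_map hα (hM _ _ _ ht ▸ h1)))
      (conjE_sq.2 h2.2.1)
  · obtain ⟨α, hα, M, hM⟩ := h.t2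
    exact k _ (hM _ _ _ ht ▸ h.inv α hα _ hJ) (fun h1 => h.not_zt hJ hN (Zt.of_map hα (hM _ _ _ ht ▸ h1)))
      (conjE_sq.2 h2.2.2)

theorem invol_cases {a b c : E8 F} (ht : T3 a b c) (ha : (a : G8 F) ∈ X) (ha1 : a * a = 1) (hb : Ng b) {y : E8 F}
    (hy : (y : G8 F) ∈ X) (hy1 : y * y = 1) : (∃ d, Sc y d) ∨ ∃ d, Sc (y * a) d := by
  by_cases hz : Zt S (y : G8 F)
  · exact Or.inl (mk_eq_one_iff.1 (h.zt_triv hJ hN hy hz))
  obtain ⟨y₁, y₂, hty⟩ := exists_T3 y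
  have h1 : Ng y₁ := by
    rcases h.types hty hy hz with h2 | h2 | h2
    · exact h2.2.1
    · exact (not_neg h.two_ne h2.1 hy1).elim
    · exact h2.2.1
  obtain ⟨M, hM⟩ := h.sym1
  have h2 := h.comm_two hJ hN ((hM _ _ _ hty).1 hy) ((hM _ _ _ ht).1 ha)
  rw [← map_mul, ← map_mul] at h2
  have h3 := h1.mul hb ((conjE (Q8 F) M).injective h2)
  have h4 : y * a * (y * a) = 1 := by
    rw [mul_assoc, ← mul_assoc a, ← h.comm_two hJ hN hy ha, mul_assoc, ha1, mul_one, hy1]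
  exact Or.inr (mk_eq_one_iff.1 (h.zt_triv hJ hN (mul_mem hy ha)
    ((h.zt_iff (hty.mul ht)).2 ⟨h4, h3, (hty.mul ht).sq_third h4 h3⟩)))

end Cx

theorem case_two_II (G : Geo) {S : Subgroup (MulAut (G8 F))} {X : Subgroup (G8 F)} (h : Cx S X 2)
    (hx : ∃ a : E8 F, (a : G8 F) ∈ X ∧ a * a ≠ 1) : Kill3 (LL S) := by
  obtain ⟨J, hJ, hJ1⟩ := hx
  have hN : Ng J := (sq_or_ng (h.sq_sc hJ)).resolve_left hJ1
  have h2 := h.two_ne
  obtain ⟨a, b, c, ht, ha, ha1, hb⟩ := h.exists_invol hJ hN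
  have haJ := h.comm_two hJ hN ha hJ
  obtain ⟨e, he, hP, hW⟩ := exists_two h2 ht ha1 hb hN haJ
  have he' : -e * -e = 1 := by rwa [neg_mul_neg]
  have hJO := E_le_O J.2
  have hJW : ∀ f : F, ∀ x ∈ Eg a f, J.1 x ∈ Eg a f := fun _ _ => Eg_comm haJ
  have hJJ : ∀ x, J.1 (J.1 x) = (0 : F) • J.1 x - x := fun x => by rw [hN.apply, zero_smul, zero_sub]
  have h04 : (0 : F) ^ 2 ≠ 4 := fun h1 => mul_ne_zero h2 h2 (by linear_combination -h1)
  have actI : ∀ y : E8 F, (y : G8 F) ∈ X → y * y = 1 → ∃ d : F, d * d = 1 ∧ ∀ w ∈ Eg a (-e), y.1 w = d • w := by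
    intro y hy hy1
    rcases h.invol_cases hJ hN ht ha ha1 hb hy hy1 with ⟨d, hd⟩ | ⟨d, hd⟩
    · exact ⟨d, hd.sq, fun w _ => hd w⟩
    · refine ⟨d * -e, by linear_combination e * e * hd.sq + he, fun w hw => ?_⟩
      rw [mul_smul, ← mem_Eg.1 hw, ← hd, e8_mul, e8_invol ha1]
  have actN : ∀ y : E8 F, (y : G8 F) ∈ X → Ng y → ∃ d : F, d * d = 1 ∧ ∀ w ∈ Eg a (-e), y.1 w = d • J.1 w := by
    intro y hy hy1
    obtain ⟨d, hd, h1⟩ := actI (y * J) (mul_mem hy hJ) (hy1.mul hN (h.comm_two hJ hN hy hJ))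
    refine ⟨-d, by rwa [neg_mul_neg], fun w hw => ?_⟩
    rw [neg_smul, ← h1 _ (hJW _ w hw), e8_mul, hN.apply, map_neg, neg_neg]
  have act : ∀ x ∈ X, ∃ y : E8 F, (y : G8 F) = x ∧ ∃ d : F, d * d = 1 ∧
      ((∀ w ∈ Eg a (-e), y.1 w = d • w) ∨ ∀ w ∈ Eg a (-e), y.1 w = d • J.1 w) := by
    intro x hx
    obtain ⟨y, rfl⟩ := QuotientGroup.mk_surjective x
    rcases sq_or_ng (h.sq_sc hx) with h1 | h1
    · exact ⟨y, rfl, (actI y hx h1).imp fun _ hd => ⟨hd.1, Or.inl hd.2⟩⟩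
    · exact ⟨y, rfl, (actN y hx h1).imp fun _ hd => ⟨hd.1, Or.inr hd.2⟩⟩
  by_cases hq : 4 ≤ Nat.card F
  · obtain ⟨u, hu, v, hv, k1, k2, k3, k4, k5⟩ := G.u2 F (V8 F) (Q8 F) (Eg a (-e)) J.1 0 (by omega) (Eg_nd h2 ha1 he')
      hJO (hJW _) (fun x _ => hJJ x) h04
    refine (h.no_sl2 G.sl2 hq k1 ((mem_O.1 hJO u).trans k1) k2 ((mem_O.1 hJO v).trans k2) k3 k4 k5 fun x hx => ?_).elim
    obtain ⟨y, hy, d, hd, h1⟩ := act x hx
    have k : ∀ w ∈ Eg a (-e), wd (Q8 F) (y.1 w) (y.1 (J.1 w)) = wd (Q8 F) w (J.1 w) := fun w hw => by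
      rcases h1 with h1 | h1
      · rw [h1 w hw, h1 _ (hJW _ w hw), wd_smul hd]
      · rw [h1 w hw, h1 _ (hJW _ w hw), wd_smul hd, wd_rot (hJJ w)]
    exact ⟨y, hy, k u hu, k v hv⟩
  have hq3 : Nat.card F ≤ 3 := by omega
  have hc : ∀ t : F, t ^ 2 - 0 * t + 1 ≠ 0 := fun t h1 => by
    by_cases h0 : t = 0
    · rw [h0] at h1
      simp at h1
    · exact h2 (by linear_combination h1 - small_sq hq3 h0)
  refine G.c F (V8 F) (Q8 F) (LL S) (Eg a (-e)) (Eg a e) J.1 0 nondeg8' hq3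
    (fun x hx y hy => (polar_comm _ _ _).trans (Eg_orth h2 he hy hx)) (by rw [sup_comm, Eg_sup h2 ha1 he]) hW hP
    (fun x hx h0 => by_contra fun hx0 => ?_) hJO (hJW _) (fun x _ => hJJ x) hc (fun M hM => ?_) fun u hu hu0 => ?_
  · have h1 : LinearIndependent F ![x, J.1 x] := by
      rw [LinearIndependent.pair_iff' hx0]
      intro t h1
      have h3 := hN.apply x
      rw [← h1, map_smul, ← h1, smul_smul, ← neg_one_smul F x] at h3
      exact hc t (by linear_combination smul_left_injective F hx0 h3)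
    have h3 := (Eg_nd h2 ha1 he).two_mul_le (U := Submodule.span F (Set.range ![x, J.1 x]))
      (Submodule.span_le.2 (by
        rintro _ ⟨i, rfl⟩
        fin_cases i
        exacts [hx, hJW _ x hx])) fun y hy z hz => polar_of_ts (fun w hw => by
          rw [Matrix.range_cons, Matrix.range_cons, Matrix.range_empty, Set.union_empty, Set.singleton_union,
            Submodule.mem_span_pair] at hw
          obtain ⟨s, t, rfl⟩ := hw
          rw [Q_add, QuadraticMap.map_smul, QuadraticMap.map_smul, polar_smul_left, polar_smul_right, mem_O.1 hJO,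
            polar_rot hJO (hJJ x) h04, h0]
          simp) hy hz
    rw [finrank_span_eq_card h1, Fintype.card_fin] at h3
    omega
  · have h1 : ∃ d : F, d * d = 1 ∧ ∀ f : F, f * f = 1 → ∀ x ∈ Eg a f, M.1 x ∈ Eg a (d * f) := by
      rcases h.invol_cases hJ hN ht ha ha1 hb (h.conjE_mem hM ha) (conjE_sq.2 ha1) with ⟨d, hd⟩ | ⟨d, hd⟩
      · have h3 := hd.conj M⁻¹
        rw [conjE_inv_conjE] at h3
        obtain ⟨d', -, h4, -, -⟩ := ht.sc h3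
        exact (hb.nsc h2 ⟨d', h4⟩).elim
      · refine ⟨d, hd.sq, fun f hf x hx => mem_Eg.2 ?_⟩
        have h3 := hd (a.1 (M.1 x))
        rw [e8_mul, e8_invol ha1, conjE_apply, mem_Eg.1 hx, gam_sign M hf] at h3
        rw [mul_smul, h3, smul_smul, hd.sq, one_smul]
    obtain ⟨d, hd, h1⟩ := h1
    rcases sq_cases hd with rfl | rfl
    · simp only [one_mul] at h1
      refine ⟨h1 _ he', h1 _ he, ?_⟩
      obtain ⟨d, hd, h3⟩ := actN _ (h.conjE_mem hM hJ) (hN.conj M)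
      rcases sq_cases hd with rfl | rfl
      · exact Or.inl fun x hx => by rw [← conjE_apply, h3 _ (h1 _ he' x hx), one_smul]
      · exact Or.inr fun x hx => by
          rw [← conjE_apply, h3 _ (h1 _ he' x hx), neg_one_smul, map_neg, hN.apply, neg_neg]
    · have h3 := finrank_le_of_maps M (h1 _ he')
      rw [neg_mul_neg, one_mul] at h3
      omega
  · refine h.rot_mem hu0 (mem_O.1 hJO u) fun x hx => ?_
    obtain ⟨y, hy, d, hd, h1⟩ := act x hx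
    have hd0 : d ≠ 0 := left_ne_zero_of_mul_eq_one hd
    refine ⟨y, hy, ?_⟩
    rcases h1 with h1 | h1
    · rw [h1 u hu, h1 _ (hJW _ u hu), rr_smul hd0, rr_smul hd0]
    · rw [h1 u hu, h1 _ (hJW _ u hu), rr_smul hd0, rr_smul hd0, rr_rot hJO (hJJ u) h04 hu0]

end Cfsg.Agent.SB.D4
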