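import Cfsg.Agent.SB.D4.Odd

/-!
# S5765, `PΩ₈⁺(q)`: primes dividing `q² ± q + 1` (helper97)
-/

set_option autoImplicit false
set_option linter.unusedSectionVars false

namespace Cfsg.Agent.SB.D4

open QuadraticMap Module Cfsg.Agent.LieClassical.QuadForms Cfsg.Agent.LieClassical.OrthCore
  Cfsg.Agent.LieClassical.OrthTrans Cfsg.Agent.ClassicalGeometry.OrthSemi Cfsg.Agent.ClassicalGeometry.OrthAut1
  Cfsg.Agent.ClassicalGeometry.TrialityOct Cfsg.Agent.ClassicalGeometry.Triality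
  Cfsg.Agent.H989.OutOrth.Basic Cfsg.Agent.H989.OutOrth.Tri Cfsg.Agent.H786.FC

variable {F : Type} [Field F]

theorem Tr.lin {a b c : GL8 F} (h : Tr a b c) {f g : V8 F →ₗ[F] V8 F} (h' : ∀ x y, a (pm x y) = pm (f x) (g y)) :
    ∃ e : F, e ≠ 0 ∧ (∀ x, b x = e • f x) ∧ ∀ x, c x = e⁻¹ • g x := by
  have h1 : Q8 F (one8 F) ≠ 0 := by rw [norm_one8]; exact one_ne_zero
  have hf : Function.Injective f := by
    rw [← LinearMap.ker_eq_bot, eq_bot_iff]
    intro x hx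
    have h2 := h' x (one8 F)
    rw [LinearMap.mem_ker.1 hx, zero_pm, LinearEquiv.map_eq_zero_iff] at h2
    exact pr_injective h1 (h2.trans (map_zero _).symm)
  have hg : Function.Injective g := by
    rw [← LinearMap.ker_eq_bot, eq_bot_iff]
    intro x hx
    have h2 := h' (one8 F) x
    rw [LinearMap.mem_ker.1 hx, pm_zero, LinearEquiv.map_eq_zero_iff] at h2
    exact pl_injective h1 (h2.trans (map_zero _).symm)
  exact Tr.unique (b := LinearEquiv.ofInjectiveEndo f hf) (c := LinearEquiv.ofInjectiveEndo g hg) h' h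

/-- the triality images of a long root element -/
theorem siegel_pm {e w : V8 F} (he : Q8 F e = 0) (hw : Q8 F w = 0) (hew : polar (Q8 F) e w = 0) (x y : V8 F) :
    siegel (Q8 F) e w he hew (pm x y) = pm (x + pm (pm e x) w) (y - pm e (pm y w)) := by
  have h1 := pm_lin_left (pm e x) y w
  have h2 := pm_lin_right x (pm y w) e
  have h3 : pm (pm e x) w = - pm (pm w x) e := by
    rw [eq_neg_iff_add_eq_zero, pm_lin_left, hew, zero_smul]
  have h4 : pm e (pm y w) = - pm w (pm y e) := by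
    rw [eq_neg_iff_add_eq_zero, pm_lin_right, hew, zero_smul]
  have h5 := pm_lin_left (pm w x) (pm e (pm y w)) e
  have h6 : polar (Q8 F) (pm w x) (pm e (pm y w)) = 0 := by
    rw [h4, polar_neg_right, polar_comm, polar_pm, polar_comm, polar_pm, pm_pm_left, hw, zero_smul, polar_zero_right,
      neg_zero]
  rw [pm_pm_left, he, zero_smul, zero_pm, add_zero, h6, zero_smul] at h5
  rw [polar_pm] at h1
  rw [← polar_pm, polar_comm] at h2
  rw [siegel_apply, hw, zero_mul, zero_smul, sub_zero, add_pm, pm_sub, pm_sub, ← h1, ← h2]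
  nth_rw 3 [h3]
  rw [neg_pm, h5]
  abel

variable [Fintype F]

/-- the elements acting as scalars on `C` -/
def scOn (C : Submodule F (V8 F)) : Subgroup (E8 F) where
  carrier := {a | ∃ l : F, ∀ v ∈ C, a.1 v = l • v}
  mul_mem' := by
    rintro a b ⟨l, hl⟩ ⟨l', hl'⟩
    refine ⟨l' * l, fun v hv => ?_⟩
    show a.1 (b.1 v) = _
    rw [hl' v hv, map_smul, hl v hv, smul_smul]
  one_mem' := ⟨1, fun v _ => (one_smul F v).symm⟩
  inv_mem' := by
    rintro a ⟨l, hl⟩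
    refine ⟨l⁻¹, fun v hv => a.1.injective ?_⟩
    rw [map_smul, hl v hv, smul_smul]
    refine (a.1.apply_symm_apply v).trans ?_
    by_cases h0 : l = 0
    · have h1 := hl v hv
      rw [h0, zero_smul, LinearEquiv.map_eq_zero_iff] at h1
      rw [h1, smul_zero]
    · rw [inv_mul_cancel₀ h0, one_smul]

namespace Cx

variable {S : Subgroup (MulAut (G8 F))} {X : Subgroup (G8 F)} {r : ℕ} (h : Cx S X r) (ho : Odd r)
include h

theorem core {H : Subgroup (G8 F)} (hH : H ≠ ⊤) {g : G8 F} (hg : ∀ s ∈ S, s g ∈ H) : MulAut.conj g ∈ S := by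
  have hm : ∀ y, y ∈ (⨅ s : S, H.comap s.1.toMonoidHom) ↔ ∀ s ∈ S, s y ∈ H := fun y => by
    simp [Subgroup.mem_iInf]
  refine h.le_of_inv (H := ⨅ s : S, H.comap s.1.toMonoidHom) (fun e => hH (eq_top_iff.2 fun y _ => ?_))
    (fun s hs y hy => (hm _).2 fun s' hs' => (hm y).1 hy (s' * s) (mul_mem hs' hs)) ((hm g).2 hg)
  exact (hm y).1 (e ▸ Subgroup.mem_top y) 1 (one_mem S)

include ho

theorem fx_dim {x : GL8 F} (hx : x ∈ h.Y ho) (hx1 : x ≠ 1) : ∃ m, finrank F (Fx (Subgroup.zpowers x)) + m = 8 ∧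
    Even m ∧ m ≠ 0 ∧ orderOf (Nat.card F : ZMod r) ∣ m := by
  have := finite_sub (Subgroup.zpowers x)
  have hle := (Subgroup.zpowers_le (H := h.Y ho)).2 hx
  have hN := nd_Fx nondeg8' h.prime h.char (hle.trans (h.Y_le ho)) fun a ha => h.Y_pow ho a (hle ha)
  obtain ⟨m, hm, hk⟩ := order_dvd_one h.prime h.char (h.Y_pow ho x hx) (U := ⊤) fun _ _ => trivial
  rw [top_inf_eq, finrank_top, finrank8] at hm
  have h1 := finrank_prp nondeg8' (Fx (Subgroup.zpowers x))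
  have h2 := even_of_fpf h.prime ho (h.Y_le ho hx) (h.Y_pow ho x hx) (hN.nd_prp nondeg8')
    (fun v hv => prp_inv (h.Y_le ho hx) (fun w hw => by rwa [mem_Fx_zpowers.1 hw]) hv)
    fun v hv hv' => hN v (mem_Fx_zpowers.2 hv') (mem_prp.1 hv)
  rw [finrank8] at h1
  refine ⟨m, hm.symm, by rwa [show m = finrank F (prp (Q8 F) (Fx (Subgroup.zpowers x))) by omega], ?_, hk⟩
  rintro rfl
  have h3 : Fx (Subgroup.zpowers x) = ⊤ := Submodule.eq_top_of_finrank_eq (by rw [finrank8]; omega)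
  exact hx1 (LinearEquiv.ext fun v => mem_Fx_zpowers.1 (h3 ▸ Submodule.mem_top))

theorem fx_inv {x g : GL8 F} (hx : x ∈ h.Y ho) (hg : g ∈ h.Y ho) {v : V8 F} (hv : v ∈ Fx (Subgroup.zpowers x)) :
    g v ∈ Fx (Subgroup.zpowers x) := by
  rw [mem_Fx_zpowers] at hv ⊢
  rw [comm_apply (h.Y_comm ho) hx hg, hv]

theorem ty1_fx {s : MulAut (G8 F)} (hs : s ∈ S) {M : Gam (Q8 F)} (hM : Ty1 s M) {v : V8 F} :
    M.1 v ∈ Fx (h.Y ho) ↔ ∀ a b c : E8 F, T3 a b c → a.1 ∈ h.Y ho → b ^ r = 1 → b.1 v = v := by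
  have key : ∀ a b c : E8 F, T3 a b c → a ^ r = 1 → b ^ r = 1 → (a.1 ∈ h.Y ho ↔ conjLin M b.1 ∈ h.Y ho) :=
    fun a b c ht ha hb => h.conjE_mem_Y ho ha hb (by rw [← hM a b c ht, h.mem_iff hs])
  refine ⟨fun hv a b c ht ha hb => M.1.injective ?_, fun hv => mem_Fx.2 ?_⟩
  · rw [← conjLin_apply', mem_Fx.1 hv _ ((key a b c ht ((h.coe_mem_Y ho).1 ha).2 hb).1 ha)]
  · rintro _ ⟨a', rfl, ha', hr⟩
    have h1 : conjE (Q8 F) M⁻¹ a' ^ r = 1 := by rw [← map_pow, hr, map_one]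
    obtain ⟨c, a, ht, -, ha⟩ := exists_T3_odd ho h1
    have h2 := hv a _ c ht.rot.rot ((key a _ c ht.rot.rot ha h1).2 (by
      rw [← coe_conjE, conjE_conjE_inv]; exact ⟨a', rfl, ha', hr⟩)) h1
    rw [← conjE_conjE_inv M a', conjE_apply, h2]

theorem ty2_fx {s : MulAut (G8 F)} (hs : s ∈ S) {M : Gam (Q8 F)} (hM : Ty2 s M) {v : V8 F} :
    M.1 v ∈ Fx (h.Y ho) ↔ ∀ a b c : E8 F, T3 a b c → a.1 ∈ h.Y ho → c ^ r = 1 → c.1 v = v := by
  have key : ∀ a b c : E8 F, T3 a b c → a ^ r = 1 → c ^ r = 1 → (a.1 ∈ h.Y ho ↔ conjLin M c.1 ∈ h.Y ho) :=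
    fun a b c ht ha hb => h.conjE_mem_Y ho ha hb (by rw [← hM a b c ht, h.mem_iff hs])
  refine ⟨fun hv a b c ht ha hb => M.1.injective ?_, fun hv => mem_Fx.2 ?_⟩
  · rw [← conjLin_apply', mem_Fx.1 hv _ ((key a b c ht ((h.coe_mem_Y ho).1 ha).2 hb).1 ha)]
  · rintro _ ⟨a', rfl, ha', hr⟩
    have h1 : conjE (Q8 F) M⁻¹ a' ^ r = 1 := by rw [← map_pow, hr, map_one]
    obtain ⟨a, b, ht, ha, -⟩ := exists_T3_odd ho h1
    have h2 := hv a b _ ht.rot ((key a b _ ht.rot ha h1).2 (by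
      rw [← coe_conjE, conjE_conjE_inv]; exact ⟨a', rfl, ha', hr⟩)) h1
    rw [← conjE_conjE_inv M a', conjE_apply, h2]

theorem L_fx {M : Gam (Q8 F)} (hM : M ∈ LL S) {v : V8 F} (hv : v ∈ Fx (h.Y ho)) : M.1 v ∈ Fx (h.Y ho) :=
  mem_Fx.2 fun g hg => by
    rw [← conjLin_inv_left M g, conjLin_apply', mem_Fx.1 hv _ (h.Y_conj ho _ (inv_mem hM) g hg)]

theorem three (h3 : 3 ∣ orderOf (Nat.card F : ZMod r)) : False := by
  have hdim : ∀ x ∈ h.Y ho, x ≠ 1 → finrank F (Fx (Subgroup.zpowers x)) = 2 := fun x hx hx1 => by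
    obtain ⟨m, h1, ⟨n, rfl⟩, h2, h4⟩ := h.fx_dim ho hx hx1
    have := h3.trans h4
    omega
  obtain ⟨x, hx, hx1⟩ := h.Y_ne ho
  have hC : Fx (Subgroup.zpowers x) = Fx (h.Y ho) := by
    obtain ⟨m, h1, h2⟩ := order_dvd h.prime h.char (h.Y_pow ho) (U := Fx (Subgroup.zpowers x))
      fun g hg v hv => h.fx_inv ho hx hg hv
    have h4 := h3.trans h2
    have h5 := hdim x hx hx1
    refine le_antisymm (inf_eq_left.1 (Submodule.eq_of_le_of_finrank_eq inf_le_left (by omega))) fun v hv => ?_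
    exact mem_Fx_zpowers.2 (mem_Fx.1 hv x hx)
  have hN := h.nd_FxY ho
  have hC2 := hdim x hx hx1
  rw [hC] at hC2
  set C := Fx (h.Y ho)
  have hW := finrank_prp nondeg8' C
  rw [finrank8] at hW
  obtain ⟨c₀, hc₀, hc₀'⟩ := hN.exists_nonsing (by rintro e; rw [e, finrank_bot] at hC2; omega)
  obtain ⟨e, heW, he0, he⟩ := LieClassical.OrthFinite.exists_sing_mem (Q := Q8 F) (prp (Q8 F) C) (by omega)
  obtain ⟨s₁, hs₁, M₁, hM₁⟩ := h.t1
  obtain ⟨s₂, hs₂, M₂, hM₂⟩ := h.t2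
  have hb₀ := (h.ty1_fx ho hs₁ hM₁ (v := M₁⁻¹.1 c₀)).1 ((apply_inv M₁.1 c₀).symm ▸ hc₀)
  have hd₀ := (h.ty2_fx ho hs₂ hM₂ (v := M₂⁻¹.1 c₀)).1 ((apply_inv M₂.1 c₀).symm ▸ hc₀)
  have hb₀' := Q_ne M₁⁻¹ hc₀'
  have hd₀' := Q_ne M₂⁻¹ hc₀'
  generalize M₁⁻¹.1 c₀ = b₀ at hb₀ hb₀'
  generalize M₂⁻¹.1 c₀ = d₀ at hd₀ hd₀'
  have hy : Q8 F (pm e b₀) = 0 := by rw [norm_pm, he, zero_mul]
  have hR := finrank_pr hy fun e0 => he0 (pr_injective hb₀' (e0.trans (map_zero _).symm))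
  have hR2 := Submodule.finrank_sup_add_finrank_inf_eq (LinearMap.range (pr (pm e b₀))) (prp (Q8 F) C)
  have hR3 := (LinearMap.range (pr (pm e b₀)) ⊔ prp (Q8 F) C).finrank_le
  rw [finrank8] at hR3
  obtain ⟨w, ⟨⟨t, ht⟩, hwW⟩, hwe⟩ := exists_indep2 (U := LinearMap.range (pr (pm e b₀)) ⊓ prp (Q8 F) C) (by omega)
    (e := e)
  have hw : Q8 F w = 0 := by rw [← ht, pr_apply, norm_pm, hy, mul_zero]
  have hyw : pm (pm e b₀) w = 0 := by rw [← ht, pr_apply, pm_pm_right, hy, zero_smul]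
  have hew : polar (Q8 F) e w = 0 := by
    have h1 := polar_pm b₀ (pm e b₀) w
    rw [hyw, pm_pm_right, polar_smul_left, polar_zero_right] at h1
    exact (smul_eq_zero.1 h1).resolve_left hb₀'
  let u : E8 F := ⟨siegel (Q8 F) e w he hew, siegel_mem_E he hew⟩
  have hu : ∀ v, u.1 v = v + polar (Q8 F) e v • w - polar (Q8 F) w v • e := fun v => by
    show siegel (Q8 F) e w he hew v = _
    rw [siegel_apply, hw, zero_mul, zero_smul, sub_zero]
  have hu0 : ∀ v, polar (Q8 F) e v = 0 → polar (Q8 F) w v = 0 → u.1 v = v := fun v h1 h2 => by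
    rw [hu, h1, h2, zero_smul, zero_smul, add_zero, sub_zero]
  have huC : ∀ v ∈ C, u.1 v = v := fun v hv => hu0 v (mem_prp.1 heW v hv) (mem_prp.1 hwW v hv)
  have hpm := siegel_pm he hw hew
  obtain ⟨b, c, hT⟩ := exists_T3 u
  obtain ⟨ε, -, hb, hc⟩ := Tr.lin hT (f := LinearMap.id + pr w ∘ₗ pl e) (g := LinearMap.id - pl e ∘ₗ pr w) hpm
  have hfix : ∀ v v', (∀ a b c : E8 F, T3 a b c → a.1 ∈ h.Y ho → b ^ r = 1 → b.1 v = v) →
      (∀ a b c : E8 F, T3 a b c → a.1 ∈ h.Y ho → c ^ r = 1 → c.1 v' = v') →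
      pm (v + pm (pm e v) w) (v' - pm e (pm v' w)) = pm v v' := fun v v' h1 h2 => by
    rw [← hpm]
    refine huC _ (mem_Fx.2 ?_)
    rintro _ ⟨a, rfl, ha, ha'⟩
    obtain ⟨b, c, ht, hb, hc⟩ := exists_T3_odd ho ha'
    rw [ht, h1 a b c ht ⟨a, rfl, ha, ha'⟩ hb, h2 a b c ht ⟨a, rfl, ha, ha'⟩ hc]
  have hg : ∀ v', (∀ a b c : E8 F, T3 a b c → a.1 ∈ h.Y ho → c ^ r = 1 → c.1 v' = v') →
      v' - pm e (pm v' w) = v' := fun v' h2 => by
    have h1 := hfix b₀ v' hb₀ h2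
    rw [hyw, add_zero] at h1
    exact pl_injective hb₀' h1
  have hf : ∀ v, (∀ a b c : E8 F, T3 a b c → a.1 ∈ h.Y ho → b ^ r = 1 → b.1 v = v) →
      v + pm (pm e v) w = v := fun v h2 => by
    have h1 := hfix v d₀ h2 hd₀
    rw [hg d₀ hd₀] at h1
    exact pr_injective hd₀' h1
  have huS : og u ∈ LL S := by
    rw [Subgroup.mem_comap, Psi_og]
    refine h.core (H := (scOn C).map (QuotientGroup.mk' _)) (fun e1 => ?_) fun s hs => ?_
    · obtain ⟨w', hw', h1⟩ := hN.exists_one hc₀ (by rintro rfl; exact hc₀' (map_zero _))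
      have h2 := mem_prp.1 heW w' hw'
      obtain ⟨a, ⟨l, hl⟩, ha⟩ : ((⟨siegel (Q8 F) e w' he h2, siegel_mem_E he h2⟩ : E8 F) : G8 F) ∈
        (scOn C).map (QuotientGroup.mk' _) := e1 ▸ Subgroup.mem_top _
      obtain ⟨d, -, hd⟩ := mk_eq_iff.1 ha
      have h4 : siegel (Q8 F) e w' he h2 c₀ = _ := hd c₀
      rw [siegel_apply, mem_prp.1 heW c₀ hc₀, polar_comm, h1, hl c₀ hc₀] at h4
      refine he0 (hN e ?_ (mem_prp.1 heW))
      rw [show e = c₀ - d • l • c₀ by rw [← h4]; simp]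
      exact sub_mem hc₀ (C.smul_mem _ (C.smul_mem _ hc₀))
    · have key : ∀ (M : Gam (Q8 F)) (z : E8 F) (l : F), (∀ v, M.1 v ∈ C → z.1 v = l • v) →
          ((conjE (Q8 F) M z : E8 F) : G8 F) ∈ (scOn C).map (QuotientGroup.mk' _) := fun M z l hz => by
        obtain ⟨σ, hσ⟩ := gam_smul M
        refine ⟨_, ⟨σ l, fun v hv => ?_⟩, rfl⟩
        obtain ⟨v, rfl⟩ := M.1.surjective v
        rw [conjE_apply, hz v hv, hσ]
      obtain ⟨M, hM | hM | hM⟩ := cosets s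
      · have hM' : M ∈ LL S := by rwa [Subgroup.mem_comap, hM]
        rw [← hM]
        refine key M u 1 fun v hv => ?_
        rw [one_smul]
        exact huC v ((inv_apply M.1 v) ▸ h.L_fx ho (inv_mem hM') hv)
      · rw [hM u b c hT]
        refine key M b ε fun v hv => ?_
        rw [hb]
        exact congrArg _ (hf v ((h.ty1_fx ho hs hM).1 hv))
      · rw [hM u b c hT]
        refine key M c ε⁻¹ fun v hv => ?_
        rw [hc]
        exact congrArg _ (hg v ((h.ty2_fx ho hs hM).1 hv))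
  have hz : u.1 * x * u.1⁻¹ * x⁻¹ ∈ h.Y ho := mul_mem (h.Y_conj ho _ huS x hx) (inv_mem hx)
  have hz1 : u.1 * x * u.1⁻¹ * x⁻¹ = 1 := by
    by_contra h1
    have h2 := finrank_prp nondeg8' (Submodule.span F (Set.range ![e, w, x e, x w]))
    have h4 : finrank F (Submodule.span F (Set.range ![e, w, x e, x w])) ≤ 4 := finrank_range_le_card _
    have h5 : prp (Q8 F) (Submodule.span F (Set.range ![e, w, x e, x w])) ≤
        Fx (Subgroup.zpowers (u.1 * x * u.1⁻¹ * x⁻¹)) := fun v hv => by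
      have h6 : ∀ i, polar (Q8 F) (![e, w, x e, x w] i) v = 0 := fun i =>
        (polar_comm _ _ _).trans (mem_prp.1 hv _ (Submodule.subset_span ⟨i, rfl⟩))
      have h7 := hu0 (x⁻¹ v) ((polar_inv (h.Y_le ho hx) e v).symm.trans (h6 2))
        ((polar_inv (h.Y_le ho hx) w v).symm.trans (h6 3))
      rw [mem_Fx_zpowers]
      show u.1 (x (u.1.symm (x⁻¹ v))) = v
      rw [u.1.symm_apply_eq.2 h7.symm]
      exact (congrArg u.1 (x.apply_symm_apply v)).trans (hu0 v (h6 0) (h6 1))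
    have h8 := Submodule.finrank_mono h5
    rw [hdim _ hz h1] at h8
    rw [finrank8] at h2
    omega
  rw [mul_inv_eq_one, mul_inv_eq_iff_eq_mul] at hz1
  have hU : LinearMap.range (u.1.toLinearMap - 1) ≤ Submodule.span F (Set.range ![e, w]) := by
    rintro _ ⟨v, rfl⟩
    show u.1 v - v ∈ _
    rw [hu, add_sub_assoc, add_sub_cancel_left]
    exact sub_mem (Submodule.smul_mem _ _ (Submodule.subset_span ⟨1, rfl⟩))
      (Submodule.smul_mem _ _ (Submodule.subset_span ⟨0, rfl⟩))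
  obtain ⟨m, h1, h2⟩ := order_dvd_one h.prime h.char (h.Y_pow ho x hx) (U := LinearMap.range (u.1.toLinearMap - 1)) (by
    rintro _ ⟨v, rfl⟩
    refine ⟨x v, ?_⟩
    show u.1 (x v) - x v = x (u.1 v - v)
    rw [map_sub]
    exact congrArg (· - x v) (LinearEquiv.congr_fun hz1 v))
  have h4 : finrank F (LinearMap.range (u.1.toLinearMap - 1)) ≤ 2 :=
    (Submodule.finrank_mono hU).trans (finrank_range_le_card _)
  have h5 := h3.trans h2
  have h6 := inf_eq_left.1 (Submodule.eq_of_le_of_finrank_eq (inf_le_left (b := Fx (Subgroup.zpowers x)))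
    (show _ = finrank F (LinearMap.range (u.1.toLinearMap - 1)) by omega))
  obtain ⟨v, hv⟩ := nondeg8'.exists_polar_eq he0 1
  have h7 : u.1 v - v ∈ C := hC ▸ h6 ⟨v, rfl⟩
  rw [hu, add_sub_assoc, add_sub_cancel_left, hv, one_smul] at h7
  exact hwe _ (sub_eq_zero.1 (hN _ h7 (mem_prp.1 (sub_mem hwW (Submodule.smul_mem _ _ heW)))))

end Cx

end Cfsg.Agent.SB.D4
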