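import Cfsg.Agent.SB.D4.K1
import Cfsg.Agent.SB.D4.K3

/-!
# S5765, `PΩ₈⁺(q)`: `q = 2`, `r = 3`; the case of odd `r` (helper97)
-/

set_option autoImplicit false
set_option linter.unusedSectionVars false
set_option linter.unusedSimpArgs false

namespace Cfsg.Agent.SB.D4

open QuadraticMap Module Cfsg.Agent.LieClassical.QuadForms Cfsg.Agent.LieClassical.OrthCore
  Cfsg.Agent.LieClassical.OrthTrans Cfsg.Agent.ClassicalGeometry.OrthSemi Cfsg.Agent.ClassicalGeometry.OrthAut1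
  Cfsg.Agent.ClassicalGeometry.TrialityOct Cfsg.Agent.ClassicalGeometry.Triality
  Cfsg.Agent.H989.OutOrth.Basic Cfsg.Agent.H989.OutOrth.Tri Cfsg.Agent.H786.FC

section gen

variable {F V : Type} [Field F] [AddCommGroup V] [Module F V] {Q : QuadraticForm F V}
  {Y : Subgroup (V ≃ₗ[F] V)}

variable (Q) in
/-- a basis of an anisotropic plane -/
structure Pl (a b : V) (t : F) : Prop where
  ne : Q a ≠ 0
  eq : Q b = Q a
  pol : polar Q a b = t * Q a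
  t4 : t ^ 2 ≠ 4
  nr : ∀ c : F, c ^ 2 - t * c + 1 ≠ 0

namespace Pl

variable {a b : V} {t : F} (h : Pl Q a b t)
include h

theorem zero {α β : F} (h0 : Q (α • a + β • b) = 0) : α = 0 ∧ β = 0 := by
  rw [Q_add, QuadraticMap.map_smul, QuadraticMap.map_smul, polar_smul_left, polar_smul_right, h.eq, h.pol] at h0
  simp only [smul_eq_mul] at h0
  have h1 : α * α + β * β + α * β * t = 0 := mul_right_cancel₀ h.ne (by linear_combination h0)
  have h2 : β = 0 := by_contra fun hβ => h.nr (-α / β) (by field_simp; linear_combination h1)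
  rw [h2] at h1
  exact ⟨by simpa using h1, h2⟩

theorem finrank_eq : finrank F (Submodule.span F {a, b}) = 2 := by
  have h1 : LinearIndependent F ![a, b] := LinearIndependent.pair_iff.2 fun s t e => h.zero (by rw [e, map_zero])
  have h2 := finrank_span_eq_card h1
  rwa [Matrix.range_cons_cons_empty] at h2

theorem aniso : Aniso Q (Submodule.span F {a, b}) := fun x hx h0 => by
  obtain ⟨α, β, rfl⟩ := Submodule.mem_span_pair.1 hx
  obtain ⟨rfl, rfl⟩ := h.zero h0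
  simp

theorem nd : Nd Q (Submodule.span F {a, b}) := fun x hx h0 => by
  obtain ⟨α, β, rfl⟩ := Submodule.mem_span_pair.1 hx
  have h1 := h0 a (Submodule.subset_span (by simp))
  have h2 := h0 b (Submodule.subset_span (by simp))
  simp only [polar_add_left, polar_smul_left, polar_self', polar_comm _ b a, h.pol, h.eq, smul_eq_mul] at h1 h2
  have h3 := mul_ne_zero (sub_ne_zero.2 h.t4) h.ne
  have h4 : α = 0 := mul_right_cancel₀ h3 (by linear_combination t * h2 - 2 * h1)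
  have h5 : β = 0 := mul_right_cancel₀ h3 (by linear_combination t * h1 - 2 * h2)
  simp [h4, h5]

theorem eq_span [FiniteDimensional F V] {P : Submodule F V} (hP : finrank F P = 2) (ha : a ∈ P) (hb : b ∈ P) :
    Submodule.span F {a, b} = P :=
  Submodule.eq_of_le_of_finrank_eq (Submodule.span_le.2 (by rintro _ (rfl | rfl); exacts [ha, hb]))
    (h.finrank_eq.trans hP.symm)

end Pl

theorem pl_of_rel {x : V ≃ₗ[F] V} (hx : x ∈ O Q) {u : V} {t : F} (h : x (x u) = t • x u - u) (ht : t ^ 2 ≠ 4)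
    (hn : ∀ c : F, c ^ 2 - t * c + 1 ≠ 0) (hu : Q u ≠ 0) : Pl Q u (x u) t :=
  ⟨hu, mem_O.1 hx u, polar_rot hx h ht, ht, hn⟩

theorem aniso_of_rel [FiniteDimensional F V] {x : V ≃ₗ[F] V} (hx : x ∈ O Q) {P : Submodule F V} (hP : finrank F P = 2)
    (hN : Nd Q P) (hi : ∀ v ∈ P, x v ∈ P) {t : F} (h : ∀ v ∈ P, x (x v) = t • x v - v) (ht : t ^ 2 ≠ 4)
    (hn : ∀ c : F, c ^ 2 - t * c + 1 ≠ 0) : Aniso Q P := by
  obtain ⟨u, hu, hu'⟩ := hN.exists_nonsing (by rintro rfl; simp at hP)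
  have h1 := pl_of_rel hx (h u hu) ht hn hu'
  rw [← h1.eq_span hP hu (hi u hu)]
  exact h1.aniso

variable (Q) in
/-- the orthogonal sum of two anisotropic planes -/
structure Sp2 (W P P' : Submodule F V) : Prop where
  d : finrank F P = 2
  d' : finrank F P' = 2
  a : Aniso Q P
  a' : Aniso Q P'
  o : P ≤ prp Q P'
  s : P ⊔ P' = W

theorem sp2_of [FiniteDimensional F V] (hQ : Nondeg Q) {W P : Submodule F V} (h4 : finrank F W = 4)
    (hP : P ≤ W) (h2 : finrank F P = 2) (hN : Nd Q P) (hA : Aniso Q P)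
    (hA' : finrank F ↥(W ⊓ prp Q P) = 2 → Aniso Q (W ⊓ prp Q P)) : Sp2 Q W (W ⊓ prp Q P) P := by
  have h1 := hN.finrank_inf_prp hQ hP
  have h3 : finrank F ↥(W ⊓ prp Q P) = 2 := by omega
  exact ⟨h3, h2, hA' h3, hA, inf_le_right, by rw [sup_comm, hN.sup_inf_prp hQ hP]⟩

theorem Gen.sp2 [FiniteDimensional F V] (hQ : Nondeg Q) (hO : Y ≤ O Q) {W : Submodule F V} {x : V ≃ₗ[F] V} {t : F}
    (hG : Gen Y W x t) (hn : ∀ c : F, c ^ 2 - t * c + 1 ≠ 0) (h4 : finrank F W = 4) (hN : Nd Q W) :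
    ∃ P P', Sp2 Q W P P' ∧ ∀ v ∈ P', x v ∈ P' := by
  obtain ⟨u, hu, hu'⟩ := hN.exists_nonsing (by rintro rfl; simp at h4)
  have h1 := pl_of_rel (hO hG.mem) (hG.rel u hu) hG.ne hn hu'
  have h2 : Submodule.span F {u, x u} ≤ W := Submodule.span_le.2 (by rintro _ (rfl | rfl); exacts [hu, hG.inv u hu])
  have h3 : ∀ v ∈ Submodule.span F {u, x u}, x v ∈ Submodule.span F {u, x u} := fun v hv => by
    obtain ⟨α, β, rfl⟩ := Submodule.mem_span_pair.1 hv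
    refine Submodule.mem_span_pair.2 ⟨-β, α + β * t, ?_⟩
    rw [map_add, map_smul, map_smul, hG.rel u hu]
    module
  exact ⟨_, _, sp2_of hQ h4 h2 h1.finrank_eq h1.nd h1.aniso fun h5 => aniso_of_rel (hO hG.mem) h5
    (h1.nd.nd_inf_prp hQ h2 hN) (fun v hv => ⟨hG.inv v hv.1, prp_inv (hO hG.mem) h3 hv.2⟩)
    (fun v hv => hG.rel v hv.1) hG.ne hn, h3⟩

theorem sp2_of_ts [FiniteDimensional F V] (hQ : Nondeg Q) (h2 : (2 : F) = 0) (hn : ∀ c : F, c ^ 2 - 1 * c + 1 ≠ 0)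
    {W : Submodule F V} (h4 : finrank F W = 4) (hN : Nd Q W) (hT : HasTS Q W) : ∃ P P', Sp2 Q W P P' := by
  obtain ⟨e, he, e', he', f, hf, f', hf', k1, k2, k3, k4, k5, k6, k7, k8, k9, k10⟩ := opp hN hT
  have ht : (1 : F) ^ 2 ≠ 4 := fun e => one_ne_zero (α := F) (by linear_combination e + 2 * h2)
  have h11 : (1 : F) + 1 = 0 := one_add_one_eq_two.trans h2
  have hp : ∀ x y, polar Q x y = polar Q y x := polar_comm _
  have h1 : Pl Q (e + f) (e' + f' + e) 1 := ⟨by simp [Q_add, k1, k3, k7], by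
    simp [Q_add, polar_add_left, *, hp e' e, hp f' e], by
    simp [Q_add, polar_add_left, polar_add_right, *, hp f e', hp f e], ht, hn⟩
  have h3 : Pl Q (e' + f') (e + f + e') 1 := ⟨by simp [Q_add, k2, k4, k8], by
    simp [Q_add, polar_add_left, *, hp f e'], by
    simp [Q_add, polar_add_left, polar_add_right, *, hp e' e, hp f' e, hp f' f, hp f' e'], ht, hn⟩
  refine ⟨_, _, sp2_of hQ h4 (Submodule.span_le.2 ?_) h1.finrank_eq h1.nd h1.aniso fun h5 => ?_⟩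
  · rintro _ (rfl | rfl)
    exacts [add_mem he hf, add_mem (add_mem he' hf') he]
  have key : ∀ v, polar Q v (e + f) = 0 → polar Q v (e' + f' + e) = 0 →
      v ∈ prp Q (Submodule.span F {e + f, e' + f' + e}) := fun v h6 h7 => mem_prp.2 fun y hy => by
    obtain ⟨α, β, rfl⟩ := Submodule.mem_span_pair.1 hy
    rw [polar_add_right, polar_smul_right, polar_smul_right, h6, h7, smul_zero, smul_zero, add_zero]
  rw [← h3.eq_span h5 ⟨add_mem he' hf', key _ ?_ ?_⟩ ⟨add_mem (add_mem he hf) he', key _ ?_ ?_⟩]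
  · exact h3.aniso
  all_goals simp [polar_add_left, polar_add_right, *, hp e' e, hp f' e, hp f' f, hp f' e', hp f e, hp f e']

theorem dec4 [FiniteDimensional F V] (hQ : Nondeg Q) {W P₀ P₁ P₂ P₃ : Submodule F V} (hW : Nd Q W)
    (h : Sp2 Q (prp Q W) P₀ P₁) (h' : Sp2 Q W P₂ P₃) : Dec Q ![P₀, P₁, P₂, P₃] := by
  have h0 : P₀ ≤ prp Q W := h.s ▸ le_sup_left
  have h1 : P₁ ≤ prp Q W := h.s ▸ le_sup_right
  have h2 : P₂ ≤ W := h'.s ▸ le_sup_left
  have h3 : P₃ ≤ W := h'.s ▸ le_sup_right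
  have sw : ∀ {A B : Submodule F V}, A ≤ prp Q B → B ≤ prp Q A := fun hA => (le_prp_prp _).trans (prp_anti hA)
  refine ⟨fun i j hij x hx => mem_prp.1 ((?_ : _ ≤ prp Q _) hx), ?_⟩
  · fin_cases i <;> fin_cases j
    exacts [(hij rfl).elim, h.o, h0.trans (prp_anti h2), h0.trans (prp_anti h3),
      sw h.o, (hij rfl).elim, h1.trans (prp_anti h2), h1.trans (prp_anti h3),
      sw (h0.trans (prp_anti h2)), sw (h1.trans (prp_anti h2)), (hij rfl).elim, h'.o,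
      sw (h0.trans (prp_anti h3)), sw (h1.trans (prp_anti h3)), sw h'.o, (hij rfl).elim]
  · rw [eq_top_iff, ← hW.sup_prp hQ]
    exact sup_le (h'.s.ge.trans (sup_le (le_iSup ![P₀, P₁, P₂, P₃] 2) (le_iSup ![P₀, P₁, P₂, P₃] 3)))
      (h.s.ge.trans (sup_le (le_iSup ![P₀, P₁, P₂, P₃] 0) (le_iSup ![P₀, P₁, P₂, P₃] 1)))

theorem zero_or_one [Finite F] (hq : Nat.card F = 2) (c : F) : c = 0 ∨ c = 1 := by
  obtain ⟨y, -, hy⟩ := (Nat.card_eq_two_iff' (0 : F)).1 hq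
  by_cases h : c = 0
  · exact Or.inl h
  · exact Or.inr ((hy c h).trans (hy 1 one_ne_zero).symm)

theorem two_eq_zero [Finite F] (hq : Nat.card F = 2) : (2 : F) = 0 :=
  (zero_or_one hq 2).resolve_right fun e => one_ne_zero (α := F) (by linear_combination e)

theorem no_root [Finite F] (hq : Nat.card F = 2) (c : F) : c ^ 2 - 1 * c + 1 ≠ 0 := by
  rcases zero_or_one hq c with rfl | rfl <;> simp

theorem eq_one_of_ne [Finite F] (hq : Nat.card F = 2) {t : F} (ht : t ^ 2 ≠ 4) : t = 1 :=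
  (zero_or_one hq t).resolve_left fun e => ht (by rw [e]; linear_combination (-2) * two_eq_zero hq)

end gen

variable {F : Type} [Field F] [Fintype F]

namespace Cx

variable {S : Subgroup (MulAut (G8 F))} {X : Subgroup (G8 F)} {r : ℕ} (h : Cx S X r) (ho : Odd r)
  (hk : orderOf (Nat.card F : ZMod r) ∣ 2)
include h ho hk

theorem dvd_sq : r ∣ Nat.card F ^ 2 - 1 := by
  rw [← ZMod.natCast_eq_zero_iff, Nat.cast_sub (Nat.one_le_pow _ _ Nat.card_pos), Nat.cast_pow, Nat.cast_one,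
    orderOf_dvd_iff_pow_eq_one.1 hk, sub_self]

theorem ne_three : Nat.card F ≠ 3 := fun e => by
  have h1 := h.dvd_sq ho hk
  rw [e] at h1
  rw [(Nat.prime_dvd_prime_iff_eq h.prime Nat.prime_two).1 (h.prime.dvd_of_dvd_pow (n := 3) h1)] at ho
  exact absurd ho (by decide)

variable (hq : Nat.card F = 2)
include hq

theorem r_three : r = 3 := by
  have h1 := h.dvd_sq ho hk
  rw [hq] at h1
  exact (Nat.prime_dvd_prime_iff_eq h.prime Nat.prime_three).1 h1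

theorem ex_gen1 {θ : h.Y ho → F} (hθ : ¬ Bl (h.Y ho) θ ≤ Fx (h.Y ho)) : ∃ x, Gen (h.Y ho) (Bl (h.Y ho) θ) x 1 := by
  obtain ⟨x, t, hG⟩ := h.ex_gen ho hθ
  exact ⟨x, eq_one_of_ne hq hG.ne ▸ hG⟩

theorem four_dvd_bl {e : V8 F} (he : Q8 F e = 0) (he0 : e ≠ 0) (heC : e ∈ Fx (h.Y ho)) {θ : h.Y ho → F}
    (hθ : ¬ Bl (h.Y ho) θ ≤ Fx (h.Y ho)) : 4 ∣ finrank F (Bl (h.Y ho) θ) := by
  obtain ⟨U, -, h2, h3⟩ := h.half ho hk he he0 heC
  obtain ⟨x, hG⟩ := h.ex_gen1 ho hk hq hθ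
  obtain ⟨m, h4, h5⟩ := order_dvd_one h.prime h.char (h.Y_pow ho x hG.mem) (U := U ⊓ Bl (h.Y ho) θ)
    fun v hv => ⟨h2 x hG.mem v hv.1, hG.inv v hv.2⟩
  have h6 : U ⊓ Bl (h.Y ho) θ ⊓ Fx (Subgroup.zpowers x) = ⊥ :=
    eq_bot_iff.2 fun v hv => hG.fpf v hv.1.2 (mem_Fx_zpowers.1 hv.2)
  rw [h6, finrank_bot, zero_add] at h4
  have h7 : orderOf (Nat.card F : ZMod r) = 2 := by
    refine ((Nat.dvd_prime Nat.prime_two).1 hk).resolve_left fun e => ?_
    obtain rfl := h.r_three ho hk hq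
    rw [orderOf_eq_one_iff, hq] at e
    exact absurd e (by decide)
  have h8 := h3 θ
  rw [h7] at h5
  omega

theorem aniso_bl {θ θ' : h.Y ho → F} (hθ : ¬ Bl (h.Y ho) θ ≤ Fx (h.Y ho)) (h4 : ¬ 4 ∣ finrank F (Bl (h.Y ho) θ))
    (h2 : finrank F (Bl (h.Y ho) θ') = 2) : Aniso (Q8 F) (Bl (h.Y ho) θ') := by
  by_cases h' : Bl (h.Y ho) θ' ≤ Fx (h.Y ho)
  · exact fun e he h0 => by_contra fun h1 => h4 (h.four_dvd_bl ho hk hq h0 h1 (h' he) hθ)
  · obtain ⟨x, hG⟩ := h.ex_gen1 ho hk hq h'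
    exact aniso_of_rel (h.Y_le ho hG.mem) h2 ((h.dec ho hk).nd nondeg8' θ') hG.inv hG.rel hG.ne (no_root hq)

theorem eq_block {P : Submodule F (V8 F)} (h2 : finrank F P = 2) (hP : ∀ g ∈ h.Y ho, ∀ v ∈ P, g v ∈ P)
    (hb : ∀ θ, P ⊓ Bl (h.Y ho) θ ≠ ⊥ → Bl (h.Y ho) θ ≤ P) : ∃ θ, Bl (h.Y ho) θ = P := by
  have := finite_sub (h.Y ho)
  have h1 := le_iSup_Bl (h.Y_comm ho) (h.sym_card ho hk) hP
  by_contra hc
  push Not at hc
  have h3 : ∀ θ, P ⊓ Bl (h.Y ho) θ = ⊥ := fun θ => by_contra fun h3 => hc θ (by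
    have h4 := Submodule.finrank_mono (hb θ h3)
    have h5 : finrank F (Bl (h.Y ho) θ) ≠ 0 := fun e => h3 (by rw [Submodule.finrank_eq_zero.1 e, inf_bot_eq])
    obtain ⟨m, hm⟩ := h.bl_even ho hk θ
    exact Submodule.eq_of_le_of_finrank_eq (hb θ h3) (by omega))
  simp only [h3, iSup_bot, le_bot_iff] at h1
  rw [h1, finrank_bot] at h2
  omega

theorem eight {θ : h.Y ho → F} (h8 : finrank F (Bl (h.Y ho) θ) = 8) : False := by
  have hT : Bl (h.Y ho) θ = ⊤ := Submodule.eq_top_of_finrank_eq (h8.trans finrank8.symm)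
  have hrel : ∀ g ∈ h.Y ho, g ≠ 1 → ∀ v, g (g v) = g v - v := fun g hg h1 v => by
    have h2 : ∀ v, g (g v) = θ ⟨g, hg⟩ • g v - v := fun v => Bl_rel (hT ▸ Submodule.mem_top) ⟨g, hg⟩
    rw [h2, eq_one_of_ne hq fun e => h1 (LinearEquiv.ext fun v =>
      fix_of_sq h.prime ho h.char (h.Y_pow ho g hg) e (h2 v)), one_smul]
  obtain ⟨_, ⟨a, rfl, ha, ha'⟩, ha1⟩ := h.Y_ne ho
  obtain ⟨b, c, ht, hb, hc⟩ := exists_T3_odd ho ha'
  have hb1 : b ≠ 1 := by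
    rintro rfl
    obtain ⟨d, d', -, h1, -⟩ := ht.rot.sc Sc.one
    exact ha1 (congrArg Subtype.val (odd_sc ho h1 ha'))
  have hc1 : c ≠ 1 := by
    rintro rfl
    obtain ⟨d, d', h1, -⟩ := ht.rot.rot.sc Sc.one
    exact ha1 (congrArg Subtype.val (odd_sc ho h1 ha'))
  have key : ∀ (M : Gam (Q8 F)) (z : E8 F), z ≠ 1 → conjLin M z.1 ∈ h.Y ho → ∀ v, z.1 (z.1 v) = z.1 v - v :=
    fun M z h1 h2 v => by
      have h3 := hrel _ h2 (fun e => h1 ((conjE (Q8 F) M).injective ((Subtype.ext e).trans (map_one _).symm))) (M.1 v)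
      obtain ⟨σ, c, hM⟩ := M.2
      rw [conjLin_apply', conjLin_apply', ← hM.sub] at h3
      exact M.1.injective h3
  obtain ⟨M₁, hM₁⟩ := h.sym1
  obtain ⟨M₂, hM₂⟩ := h.sym2
  have k1 := key M₁ b hb1 ((h.conjE_mem_Y ho ha' hb (hM₁ a b c ht)).1 ⟨a, rfl, ha, ha'⟩)
  have k2 := key M₂ c hc1 ((h.conjE_mem_Y ho ha' hc (hM₂ a b c ht)).1 ⟨a, rfl, ha, ha'⟩)
  have k3 : Tr 1 b.1 c.1⁻¹ := fun x y => by
    obtain ⟨y, rfl⟩ := c.1.surjective y
    have k4 := hrel _ ⟨a, rfl, ha, ha'⟩ ha1 (pm x y)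
    rw [ht, ht, k1, k2, sub_pm, pm_sub, pm_sub] at k4
    rw [show c.1⁻¹ (c.1 y) = y from c.1.symm_apply_apply y]
    show pm x (c.1 y) = _
    have k5 : (2 : F) • (pm x y - pm (b.1 x) y) = 0 := by rw [two_eq_zero hq, zero_smul]
    linear_combination (norm := module) k5 - k4
  obtain ⟨e, -, k4, -⟩ := Tr.unique Tr.one k3
  exact hb1 (odd_sc ho k4 hb)

theorem six (G : Geo) {θ : h.Y ho → F} (h6 : finrank F (Bl (h.Y ho) θ) = 6) : Kill3 (LL S) := by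
  have hD := h.dec ho hk
  have hN := hD.nd nondeg8' θ
  have hθ : ¬ Bl (h.Y ho) θ ≤ Fx (h.Y ho) := fun hθ => by
    obtain ⟨e, heC, he0, he⟩ := LieClassical.OrthFinite.exists_sing_mem (Q := Q8 F) (Bl (h.Y ho) θ) (by omega)
    obtain ⟨θ', hθ'⟩ := h.ex_block ho hk
    have h1 := h.four_dvd_bl ho hk hq he he0 (hθ heC) hθ'
    have h2 := hD.add_le nondeg8' (i := θ) (j := θ') (by rintro rfl; exact hθ' hθ)
    have h3 : finrank F (Bl (h.Y ho) θ') ≠ 0 := fun e => hθ' (Submodule.finrank_eq_zero.1 e ▸ bot_le)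
    rw [finrank8] at h2
    omega
  obtain ⟨x, hG⟩ := h.ex_gen1 ho hk hq hθ
  have hP := finrank_prp nondeg8' (Bl (h.Y ho) θ)
  rw [finrank8] at hP
  obtain ⟨θ', hθ'⟩ := h.eq_block ho hk hq (P := prp (Q8 F) (Bl (h.Y ho) θ)) (by omega)
    (fun g hg v hv => prp_inv (h.Y_le ho hg) (fun w hw => Bl_inv (h.Y_comm ho) θ hg hw) hv) fun θ' h1 =>
      hD.le_prp (by rintro rfl; exact h1 (by rw [inf_comm, hN.inf_prp]))
  refine G.c F (V8 F) (Q8 F) _ (Bl (h.Y ho) θ) (prp (Q8 F) (Bl (h.Y ho) θ)) x 1 nondeg8' (by omega)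
    (fun x hx y hy => (polar_comm _ _ _).trans (mem_prp.1 hy x hx)) (hN.sup_prp nondeg8') h6 (by omega)
    (hθ' ▸ h.aniso_bl ho hk hq hθ (by omega) (by rw [hθ']; omega)) (h.Y_le ho hG.mem) hG.inv hG.rel (no_root hq)
    (fun M hM => ?_) fun u hu hu' => h.gen_rot ho hG hu hu'
  have hW : ∀ v ∈ Bl (h.Y ho) θ, M.1 v ∈ Bl (h.Y ho) θ := by
    obtain ⟨θ'', h1⟩ := prm_Bl (h.Y_conj ho) M hM θ
    by_cases h2 : θ = θ''
    · exact h2 ▸ h1
    · have h3 := finrank_le_of_maps M h1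
      have h4 := hD.add_le nondeg8' h2
      rw [finrank8] at h4
      omega
  refine ⟨hW, fun v hv => gam_prp M hW le_rfl hv, ?_⟩
  obtain ⟨j, hj⟩ := hG.pow _ (h.Y_conj ho M hM x hG.mem)
  have h3 : x ^ 3 = 1 := h.r_three ho hk hq ▸ h.Y_pow ho x hG.mem
  have h4 : ∀ v ∈ Bl (h.Y ho) θ, M.1 (x v) = (x ^ (j % 3)) (M.1 v) := fun v hv => by
    rw [← conjLin_apply', hj _ (hW v hv), ← pow_eq_pow_mod j h3]
  obtain h5 | h5 | h5 : j % 3 = 0 ∨ j % 3 = 1 ∨ j % 3 = 2 := by omega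
  · rw [h5] at h4
    exact (hθ fun v hv => hG.fpf v hv (M.1.injective (h4 v hv)) ▸ zero_mem _).elim
  · rw [h5, pow_one] at h4
    exact Or.inl h4
  · rw [h5] at h4
    exact Or.inr fun v hv => by rw [h4 v hv, ← LinearEquiv.mul_apply, ← pow_succ', h3]; rfl

theorem four_two (G : Geo) {θ : h.Y ho → F} (hθ : ¬ Bl (h.Y ho) θ ≤ Fx (h.Y ho))
    (h4 : finrank F (Bl (h.Y ho) θ) = 4) : Kill3 (LL S) := by
  have := finite_sub (h.Y ho)
  have hD := h.dec ho hk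
  have hN := hD.nd nondeg8' θ
  obtain ⟨x, hG⟩ := h.ex_gen1 ho hk hq hθ
  have hP := finrank_prp nondeg8' (Bl (h.Y ho) θ)
  rw [finrank8] at hP
  have hinv : ∀ θ, ∀ g ∈ h.Y ho, ∀ v ∈ prp (Q8 F) (Bl (h.Y ho) θ), g v ∈ prp (Q8 F) (Bl (h.Y ho) θ) :=
    fun θ g hg v hv => prp_inv (h.Y_le ho hg) (fun w hw => Bl_inv (h.Y_comm ho) θ hg hw) hv
  obtain ⟨P₂, P₃, h23, h3⟩ := hG.sp2 nondeg8' (h.Y_le ho) (no_root hq) h4 hN
  obtain ⟨P₀, P₁, h01⟩ : ∃ P₀ P₁, Sp2 (Q8 F) (prp (Q8 F) (Bl (h.Y ho) θ)) P₀ P₁ := by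
    by_cases hC : prp (Q8 F) (Bl (h.Y ho) θ) ≤ Fx (h.Y ho)
    · have h1 : Fx (h.Y ho) = prp (Q8 F) (Bl (h.Y ho) θ) := by
        refine le_antisymm ?_ hC
        rw [Fx_eq_Bl h.char (h.Y_pow ho)] at hθ ⊢
        exact hD.le_prp (by rintro rfl; exact hθ le_rfl)
      exact sp2_of_ts nondeg8' (two_eq_zero hq) (no_root hq) (by omega) (hN.nd_prp nondeg8')
        (h1 ▸ h.fx_ts ho hk (by rw [h1]; omega))
    obtain ⟨θ', h1⟩ : ∃ θ', ¬ prp (Q8 F) (Bl (h.Y ho) θ) ⊓ Bl (h.Y ho) θ' ≤ Fx (h.Y ho) := by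
      by_contra hc
      push Not at hc
      exact hC ((le_iSup_Bl (h.Y_comm ho) (h.sym_card ho hk) (hinv θ)).trans (iSup_le hc))
    have hθ' : ¬ Bl (h.Y ho) θ' ≤ Fx (h.Y ho) := fun e => h1 (inf_le_right.trans e)
    have h2 := hD.le_prp (i := θ') (j := θ) (by rintro rfl; exact h1 (by rw [inf_comm, hN.inf_prp]; exact bot_le))
    have hN' := hD.nd nondeg8' θ'
    have h5 := Submodule.finrank_mono h2
    have h6 : finrank F (Bl (h.Y ho) θ') ≠ 0 := fun e => hθ' (Submodule.finrank_eq_zero.1 e ▸ bot_le)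
    obtain ⟨m, hm⟩ := h.bl_even ho hk θ'
    by_cases h7 : finrank F (Bl (h.Y ho) θ') = 4
    · obtain ⟨x', hG'⟩ := h.ex_gen1 ho hk hq hθ'
      obtain ⟨P₀, P₁, h01, -⟩ := hG'.sp2 nondeg8' (h.Y_le ho) (no_root hq) h7 hN'
      exact ⟨P₀, P₁, Submodule.eq_of_le_of_finrank_eq h2 (by omega) ▸ h01⟩
    · refine ⟨_, _, sp2_of nondeg8' (by omega) h2 (by omega) hN' (h.aniso_bl ho hk hq hθ' (by omega) (by omega))
        fun h8 => ?_⟩
      obtain ⟨θ'', e⟩ := h.eq_block ho hk hq h8 (fun g hg v hv => ⟨hinv θ g hg v hv.1, hinv θ' g hg v hv.2⟩)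
        fun θ'' h9 => le_inf
          (hD.le_prp (by rintro rfl; exact h9 (by rw [inf_right_comm, inf_comm _ (Bl _ _), hN.inf_prp, bot_inf_eq])))
          (hD.le_prp (by rintro rfl; exact h9 (by rw [inf_assoc, inf_comm _ (Bl _ _), hN'.inf_prp, inf_bot_eq])))
      exact e ▸ h.aniso_bl ho hk hq hθ' (by omega) (e ▸ h8)
  refine G.d2 F (V8 F) (Q8 F) _ ![P₀, P₁, P₂, P₃] nondeg8' hq (dec4 nondeg8' hN h01 h23) (fun i => ?_) (fun i => ?_)
    (fun M hM => ?_) fun a ha b hb ha0 hb0 => ?_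
  · fin_cases i
    exacts [h01.d, h01.d', h23.d, h23.d']
  · fin_cases i
    exacts [h01.a, h01.a', h23.a, h23.a']
  · show ∀ i, ∃ j, ∀ v ∈ ![P₀ ⊔ P₁, P₂ ⊔ P₃] i, M.1 v ∈ ![P₀ ⊔ P₁, P₂ ⊔ P₃] j
    rw [h01.s, h23.s, Fin.forall_fin_two]
    obtain ⟨θ', h1⟩ := prm_Bl (h.Y_conj ho) M hM θ
    by_cases h2 : θ' = θ
    · subst h2
      exact ⟨⟨0, fun v hv => gam_prp M h1 le_rfl hv⟩, ⟨1, h1⟩⟩
    · have h5 : ∀ v ∈ Bl (h.Y ho) θ, M.1 v ∈ prp (Q8 F) (Bl (h.Y ho) θ) := fun v hv => hD.le_prp h2 (h1 v hv)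
      exact ⟨⟨1, fun v hv => (prp_prp nondeg8' (Bl (h.Y ho) θ)).le (gam_prp M h5 (by omega) hv)⟩, ⟨0, h5⟩⟩
  · have h5 : P₃ ≤ Bl (h.Y ho) θ := h23.s ▸ le_sup_right
    have ha' : Q8 F a ≠ 0 := fun e => ha0 (h23.a' a ha e)
    have h6 := pl_of_rel (h.Y_le ho hG.mem) (hG.rel a (h5 ha)) hG.ne (no_root hq) ha'
    have h7 := h.gen_rot ho hG (h5 ha) ha'
    obtain ⟨α, β, rfl⟩ := Submodule.mem_span_pair.1 ((h6.eq_span h23.d' ha (h3 a ha)).ge hb)
    rcases zero_or_one hq α with rfl | rfl <;> rcases zero_or_one hq β with rfl | rfl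
    · simp at hb0
    · rwa [zero_smul, one_smul, zero_add]
    · rw [zero_smul, one_smul, add_zero, rr_mul_self]
      exact one_mem _
    · have h8 := mul_mem h7 (h.gen_rot ho hG (hG.inv a (h5 ha)) (h6.eq ▸ ha'))
      rw [mul_assoc, ← mul_assoc (rr _ (x a)), rr_mul_self, one_mul, hG.rel a (h5 ha)] at h8
      have h9 : (2 : F) • a = 0 := by rw [two_eq_zero hq, zero_smul]
      rwa [show (1 : F) • a + (1 : F) • x a = (1 : F) • x a - a by linear_combination (norm := module) h9]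

theorem two (G : Geo) : Kill3 (LL S) := by
  obtain ⟨θ, hθ⟩ := h.ex_block ho hk
  have hθ0 : finrank F (Bl (h.Y ho) θ) ≠ 0 := fun e => hθ (Submodule.finrank_eq_zero.1 e ▸ bot_le)
  by_cases h2 : ∀ θ, finrank F (Bl (h.Y ho) θ) ≤ 2
  · exact h.planes ho hk G h2 (Or.inr fun θ' h' => h.aniso_bl ho hk hq hθ (by have := h2 θ; omega) h')
  push Not at h2
  obtain ⟨θ', h2⟩ := h2
  obtain ⟨m, hm⟩ := h.bl_even ho hk θ'
  have h3 := (Bl (h.Y ho) θ').finrank_le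
  rw [finrank8] at h3
  obtain h4 | h4 | h4 : finrank F (Bl (h.Y ho) θ') = 4 ∨ finrank F (Bl (h.Y ho) θ') = 6 ∨
    finrank F (Bl (h.Y ho) θ') = 8 := by omega
  · by_cases hθ' : Bl (h.Y ho) θ' ≤ Fx (h.Y ho)
    · obtain ⟨e, heC, he0, he⟩ := LieClassical.OrthFinite.exists_sing_mem (Q := Q8 F) (Bl (h.Y ho) θ') (by omega)
      have h5 := h.four_dvd_bl ho hk hq he he0 (hθ' heC) hθ
      have h6 := (h.dec ho hk).add_le nondeg8' (i := θ) (j := θ') (by rintro rfl; exact hθ hθ')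
      rw [finrank8] at h6
      exact h.four_two ho hk hq G hθ (by omega)
    · exact h.four_two ho hk hq G hθ' h4
  · exact h.six ho hk hq G h4
  · exact (h.eight ho hk hq h4).elim

end Cx

/-- the case of odd `r` -/
theorem case_odd (G : Geo) {S : Subgroup (MulAut (G8 F))} {X : Subgroup (G8 F)} {r : ℕ} (h : Cx S X r) (ho : Odd r) :
    Four (InnG (G8 F)) S := by
  by_cases hk : orderOf (Nat.card F : ZMod r) ∣ 2
  · refine four_of_kill3 ?_
    have h1 : 1 < Nat.card F := Finite.one_lt_card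
    have h3 := h.ne_three ho hk
    by_cases h2 : Nat.card F = 2
    · exact h.two ho hk h2 G
    · exact h.big ho hk G (by omega)
  rcases h.order_cases with h1 | h1
  · refine four_of_kill2 h.solv (h.four ho ?_ G.b)
    have h2 := Nat.le_of_dvd (by norm_num) h1
    generalize orderOf (Nat.card F : ZMod r) = k at *
    interval_cases k <;> omega
  · refine (h.three ho ?_).elim
    have h2 := Nat.le_of_dvd (by norm_num) h1
    generalize orderOf (Nat.card F : ZMod r) = k at *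
    interval_cases k <;> omega

end Cfsg.Agent.SB.D4
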