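import Cfsg.Agent.SB.D4.LA

/-!
# S5765, `PΩ₈⁺(q)`: the box `BoxFr` (eight lines) (helper61)
-/

set_option autoImplicit false
set_option linter.unusedSectionVars false

namespace Cfsg.Agent.SB.D4

open QuadraticMap Module Cfsg.Agent.LieClassical.OrthCore
  Cfsg.Agent.ClassicalGeometry.OrthSemi Cfsg.Agent.H989.OutOrth.Basic Cfsg.Agent.SB.D4.G

namespace GF

variable {F V : Type} [Field F] [AddCommGroup V] [Module F V] {Q : QuadraticForm F V} {e : Fin 8 → V}

/-- an orthogonal family of nonsingular vectors in odd characteristic -/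
structure OB (Q : QuadraticForm F V) (e : Fin 8 → V) : Prop where
  two : (2 : F) ≠ 0
  ne : ∀ i, Q (e i) ≠ 0
  orth : ∀ i j, i ≠ j → polar Q (e i) (e j) = 0

/-- monomial maps -/
def Mon (e : Fin 8 → V) (M : Gam Q) : Prop := ∀ i, ∃ (j : Fin 8) (c : F), M.1 (e i) = c • e j

theorem Mon.mul {M N : Gam Q} (hM : Mon e M) (hN : Mon e N) : Mon e (M * N) := fun i => by
  obtain ⟨j, c, hj⟩ := hN i
  obtain ⟨k, d, hk⟩ := hM j
  obtain ⟨σ, m, h⟩ := M.2
  exact ⟨k, σ c * d, by rw [gam_mul, hj, h.smul, hk, smul_smul]⟩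

theorem OB.self (h : OB Q e) (i : Fin 8) : polar Q (e i) (e i) ≠ 0 := by
  rw [polar_self']; exact mul_ne_zero h.two (h.ne i)

theorem OB.ne0 (h : OB Q e) (i : Fin 8) : e i ≠ 0 := fun h0 => h.ne i (by rw [h0, map_zero])

/-- the vector with given coordinates -/
def vec (e : Fin 8 → V) (x : Fin 8 → F) : V := ∑ i, x i • e i

theorem OB.polar_vec (h : OB Q e) (x : Fin 8 → F) (j : Fin 8) : polar Q (vec e x) (e j) = x j * polar Q (e j) (e j) := by
  rw [vec, ← polarBilin_apply_apply, map_sum, LinearMap.sum_apply, Finset.sum_eq_single j]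
  · rw [polarBilin_apply_apply, polar_smul_left, smul_eq_mul]
  · intro i _ hi
    rw [polarBilin_apply_apply, polar_smul_left, h.orth i j hi, smul_zero]
  · exact fun h => absurd (Finset.mem_univ j) h

theorem OB.Q_vec (h : OB Q e) (x : Fin 8 → F) : Q (vec e x) = ∑ i, x i ^ 2 * Q (e i) := by
  apply mul_left_cancel₀ h.two
  rw [← polar_self', Finset.mul_sum]
  nth_rewrite 2 [vec]
  rw [← polarBilin_apply_apply, map_sum]
  refine Finset.sum_congr rfl fun i _ => ?_
  rw [map_smul, polarBilin_apply_apply, h.polar_vec, polar_self', smul_eq_mul]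
  ring

theorem OB.span (h : OB Q e) (h8 : finrank F V = 8) : Submodule.span F (Set.range e) = ⊤ := by
  have h1 : LinearIndependent F e := by
    rw [Fintype.linearIndependent_iff]
    intro x hx j
    have h2 := h.polar_vec x j
    rw [vec, hx, polar_zero_left] at h2
    exact (mul_eq_zero.1 h2.symm).resolve_right (h.self j)
  exact h1.span_eq_top_of_card_eq_finrank (by rw [h8]; rfl)

/-- **LA for lines** -/
theorem la_lines (h : OB Q e) {v v' : V} (hv : Q v ≠ 0) (S : Finset (Fin 8)) (h5 : 5 ≤ S.card)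
    (hS : ∀ j ∈ S, polar Q v (e j) ≠ 0) (hw : Mon e (rr Q v' * rr Q v)) : ∃ c : F, v' = c • v := by
  classical
  by_contra hcon
  push Not at hcon
  have R := rot_of hv hcon
  set w := (rr Q v' * rr Q v).1 with hwd
  choose π μ hπ using hw
  have hz : ∀ j k, k ≠ j → k ≠ π j → polar Q (w (e j) - e j) (e k) = 0 := fun j k h1 h2 => by
    rw [hπ, polar_sub_left, polar_smul_left, h.orth _ _ h2.symm, h.orth _ _ h1.symm, smul_zero, sub_zero]
  obtain ⟨j₁, hj₁⟩ : S.Nonempty := Finset.card_pos.1 (by omega)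
  obtain ⟨j₂, hj₂, hj₂'⟩ := Finset.exists_mem_notMem_of_card_lt_card (s := {j₁, π j₁}) (t := S)
    (lt_of_le_of_lt Finset.card_le_two (by omega))
  obtain ⟨k, hk, hk'⟩ := Finset.exists_mem_notMem_of_card_lt_card (s := {j₁, π j₁, j₂, π j₂}) (t := S)
    (lt_of_le_of_lt Finset.card_le_four (by omega))
  simp only [Finset.mem_insert, Finset.mem_singleton, not_or] at hj₂' hk'
  have n1 := R.ne _ (hS j₁ hj₁)
  have n2 := R.ne _ (hS j₂ hj₂)
  have p2 : polar Q (w (e j₂) - e j₂) (e j₂) ≠ 0 := by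
    by_cases hf : π j₂ = j₂
    · have e1 : w (e j₂) - e j₂ = (μ j₂ - 1) • e j₂ := by rw [hπ, hf]; module
      rw [e1] at n2 ⊢
      rw [polar_smul_left, smul_eq_mul]
      exact mul_ne_zero (fun h0 => n2 (by rw [h0, zero_smul])) (h.self _)
    · rw [hπ, polar_sub_left, polar_smul_left, h.orth _ _ hf, smul_zero, zero_sub]
      exact neg_ne_zero.2 (h.self _)
  have H : Ind F (w (e j₁) - e j₁) (w (e j₂) - e j₂) := by
    intro a b hab
    have h1 := congrArg (fun x => polar Q x (e j₂)) hab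
    simp only [polar_add_left, polar_smul_left, hz j₁ j₂ hj₂'.1 hj₂'.2, smul_zero, zero_add, polar_zero_left,
      smul_eq_mul] at h1
    have hb : b = 0 := by
      rcases mul_eq_zero.1 (by simpa using h1 : b * polar Q (w (e j₂) - e j₂) (e j₂) = 0) with h0 | h0
      exacts [h0, absurd h0 p2]
    rw [hb, zero_smul, add_zero] at hab
    exact ⟨(smul_eq_zero.1 hab).resolve_right n1, hb⟩
  obtain ⟨s, t, hst⟩ := R.span H
  apply hS k hk
  rw [hst, polar_add_left, polar_smul_left, polar_smul_left, hz j₁ k hk'.1 hk'.2.1, hz j₂ k hk'.2.2.1 hk'.2.2.2,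
    smul_zero, smul_zero, add_zero]

theorem fix_lines (h : OB Q e) {L : Subgroup (Gam Q)} (hL : ∀ M ∈ L, Mon e M) {x : Fin 8 → F} {u : V}
    (hv : Q (vec e x) ≠ 0) (hu : Mon e (rr Q u)) (S : Finset (Fin 8)) (h5 : 5 ≤ S.card) (hS : ∀ j ∈ S, x j ≠ 0)
    {M : Gam Q} (hM : M ∈ L) (hc : cjv (vec e x) u M ∈ L) : Fix M (vec e x) := by
  refine la_lines h hv S h5 (fun j hj => ?_) ?_
  · rw [h.polar_vec]; exact mul_ne_zero (hS j hj) (h.self j)
  · rw [rr_eq_cjv hv u]
    exact Mon.mul (hL M hM) ((hu.mul (hL _ (inv_mem hc))).mul hu)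

theorem mon_one (h : OB Q e) (c : F) (j : Fin 8) : Mon e (rr Q (c • e j)) := fun i => by
  by_cases hi : j = i
  · subst hi
    exact ⟨j, 1 - (Q (c • e j))⁻¹ * polar Q (c • e j) (e j) * c, by rw [rr_apply]; module⟩
  · exact ⟨i, 1, by rw [rr_of_perp (by rw [polar_smul_left, h.orth _ _ hi, smul_zero]), one_smul]⟩

theorem Q_two (h : OB Q e) {i j : Fin 8} (hij : i ≠ j) {a b : F} (hab : a ^ 2 * Q (e i) = b ^ 2 * Q (e j)) :
    Q (a • e i + b • e j) = 2 * (a ^ 2 * Q (e i)) := by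
  rw [Q_add, QuadraticMap.map_smul, QuadraticMap.map_smul, polar_smul_left, polar_smul_right, h.orth _ _ hij]
  simp only [smul_eq_mul]
  linear_combination -hab

theorem mon_two (h : OB Q e) {i j : Fin 8} (hij : i ≠ j) {a b : F} (ha : a ≠ 0)
    (hab : a ^ 2 * Q (e i) = b ^ 2 * Q (e j)) : Mon e (rr Q (a • e i + b • e j)) := fun k => by
  have hb : b ≠ 0 := by
    rintro rfl
    exact mul_ne_zero (pow_ne_zero 2 ha) (h.ne i) (by rw [hab]; ring)
  have h2 := h.two
  have hi := h.ne i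
  have hj := h.ne j
  by_cases h1 : i = k
  · subst h1
    refine ⟨j, -(a⁻¹ * b), ?_⟩
    rw [rr_apply, Q_two h hij hab, polar_add_left, polar_smul_left, polar_smul_left, h.orth _ _ hij.symm, polar_self']
    simp only [smul_eq_mul]
    match_scalars <;> field_simp <;> ring
  by_cases h3 : j = k
  · subst h3
    refine ⟨i, -(b⁻¹ * a), ?_⟩
    rw [rr_apply, Q_two h hij hab, hab, polar_add_left, polar_smul_left, polar_smul_left, h.orth _ _ hij, polar_self']
    simp only [smul_eq_mul]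
    match_scalars <;> field_simp <;> ring
  · refine ⟨k, 1, ?_⟩
    rw [rr_of_perp, one_smul]
    rw [polar_add_left, polar_smul_left, polar_smul_left, h.orth _ _ h1, h.orth _ _ h3, smul_zero, smul_zero, add_zero]

/-- two of three non-zero elements lie in the same square class -/
theorem sq_three [Finite F] {a b c : F} (ha : a ≠ 0) (hb : b ≠ 0) (hc : c ≠ 0) :
    IsSquare (a * b) ∨ IsSquare (a * c) ∨ IsSquare (b * c) := by
  classical
  have := Fintype.ofFinite F
  rw [← quadraticChar_one_iff_isSquare (mul_ne_zero ha hb), ← quadraticChar_one_iff_isSquare (mul_ne_zero ha hc),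
    ← quadraticChar_one_iff_isSquare (mul_ne_zero hb hc), map_mul, map_mul, map_mul]
  rcases quadraticChar_dichotomy ha with h1 | h1 <;> rcases quadraticChar_dichotomy hb with h2 | h2 <;>
    rcases quadraticChar_dichotomy hc with h3 | h3 <;> simp [h1, h2, h3]

theorem of_sq {a b : F} (hb : b ≠ 0) (h : IsSquare (a * b)) : ∃ c : F, c ^ 2 * b = a := by
  obtain ⟨r, hr⟩ := h
  exact ⟨r / b, by field_simp; linear_combination -hr⟩

theorem pair_three [Finite F] (h : OB Q e) {i j k : Fin 8} (hij : i ≠ j) (hik : i ≠ k) (hjk : j ≠ k) :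
    ∃ s ∈ ({i, j, k} : Finset (Fin 8)), ∃ t ∈ ({i, j, k} : Finset (Fin 8)), s ≠ t ∧ ∃ c : F, c ^ 2 * Q (e t) = Q (e s) := by
  rcases sq_three (h.ne i) (h.ne j) (h.ne k) with h1 | h1 | h1
  · exact ⟨i, by simp, j, by simp, hij, of_sq (h.ne _) h1⟩
  · exact ⟨i, by simp, k, by simp, hik, of_sq (h.ne _) h1⟩
  · exact ⟨j, by simp, k, by simp, hjk, of_sq (h.ne _) h1⟩

/-- a value of a monomial reflection supported on the lines `0, 1, k` -/
def Val (Q : QuadraticForm F V) (e : Fin 8 → V) (k : Fin 8) (x : F) : Prop :=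
  x ≠ 0 ∧ ∃ u : V, Q u = x ∧ Mon e (rr Q u) ∧ ∀ j, j ≠ 0 → j ≠ 1 → j ≠ k → polar Q u (e j) = 0

theorem val_of_nonsq [Finite F] (h : OB Q e) (h2 : ¬ IsSquare (2 : F)) {k : Fin 8} (h0 : 0 ≠ k) (h1 : 1 ≠ k) {x : F}
    (hx : x ≠ 0) : Val Q e k x := by
  obtain ⟨s, hs, t, ht, hst, c, hc⟩ := pair_three h (i := 0) (j := 1) (by decide) h0 h1
  have hm : ∀ r ∈ ({0, 1, k} : Finset (Fin 8)), ∀ j, j ≠ 0 → j ≠ 1 → j ≠ k → polar Q (e r) (e j) = 0 := by
    intro r hr j a0 a1 a2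
    refine h.orth _ _ ?_
    rintro rfl
    simp [a0, a1, a2] at hr
  refine ⟨hx, ?_⟩
  rcases sq_three hx (h.ne s) (mul_ne_zero h.two (h.ne s)) with h3 | h3 | h3
  · obtain ⟨a, ha⟩ := of_sq (h.ne s) h3
    refine ⟨a • e s, by rw [QuadraticMap.map_smul, ← ha, smul_eq_mul]; ring, mon_one h a s, fun j a0 a1 a2 => ?_⟩
    rw [polar_smul_left, hm s hs j a0 a1 a2, smul_zero]
  · obtain ⟨a, ha⟩ := of_sq (mul_ne_zero h.two (h.ne s)) h3
    have ha0 : a ≠ 0 := by rintro rfl; exact hx (by rw [← ha]; ring)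
    have hab : a ^ 2 * Q (e s) = (a * c) ^ 2 * Q (e t) := by rw [← hc]; ring
    refine ⟨a • e s + (a * c) • e t, by rw [Q_two h hst hab, ← ha]; ring, mon_two h hst ha0 hab,
      fun j a0 a1 a2 => ?_⟩
    rw [polar_add_left, polar_smul_left, polar_smul_left, hm s hs j a0 a1 a2, hm t ht j a0 a1 a2, smul_zero, smul_zero,
      add_zero]
  · exfalso
    apply h2
    obtain ⟨r, hr⟩ := h3
    have := h.ne s
    exact ⟨r / Q (e s), by field_simp; linear_combination hr⟩

theorem exists_hyper [Finite F] (h2 : (2 : F) ≠ 0) (h6 : 6 ≤ Nat.card F) (κ : F) :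
    ∃ c δ : F, c ≠ 0 ∧ δ ≠ 0 ∧ δ ^ 2 = κ + c ^ 2 := by
  classical
  by_cases hκ : κ = 0
  · exact ⟨1, 1, one_ne_zero, one_ne_zero, by rw [hκ, zero_add]⟩
  have := Fintype.ofFinite F
  have hc : ∀ a : F, (Finset.univ.filter fun s : F => s ^ 2 = a).card ≤ 2 := fun a => by
    by_cases h : ∃ r : F, r ^ 2 = a
    · obtain ⟨r, rfl⟩ := h
      refine le_trans (Finset.card_le_card (t := {r, -r}) fun s hs => ?_) Finset.card_le_two
      rcases sq_eq_sq_iff_eq_or_eq_neg.1 (Finset.mem_filter.1 hs).2 with h | h <;> simp [h]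
    · rw [Finset.filter_eq_empty_iff.2 fun s _ hs => h ⟨s, hs⟩]; simp
  obtain ⟨s, -, hs⟩ := Finset.exists_mem_notMem_of_card_lt_card (t := Finset.univ)
    (s := insert 0 ((Finset.univ.filter fun s : F => s ^ 2 = κ) ∪ Finset.univ.filter fun s : F => s ^ 2 = -κ)) (by
      have h1 := Finset.card_insert_le (0 : F)
        ((Finset.univ.filter fun s : F => s ^ 2 = κ) ∪ Finset.univ.filter fun s : F => s ^ 2 = -κ)
      have h3 := Finset.card_union_le (Finset.univ.filter fun s : F => s ^ 2 = κ)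
        (Finset.univ.filter fun s : F => s ^ 2 = -κ)
      have h4 := hc κ
      have h5 := hc (-κ)
      rw [Finset.card_univ, ← Nat.card_eq_fintype_card]
      omega)
  simp only [Finset.mem_insert, Finset.mem_union, Finset.mem_filter, Finset.mem_univ, true_and, not_or] at hs
  obtain ⟨s0, s1, s2⟩ := hs
  refine ⟨(κ - s ^ 2) / (2 * s), (κ + s ^ 2) / (2 * s), div_ne_zero (sub_ne_zero.2 (Ne.symm s1)) (mul_ne_zero h2 s0),
    div_ne_zero (fun h => s2 (by linear_combination h)) (mul_ne_zero h2 s0), ?_⟩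
  field_simp
  ring

theorem val_big [Finite F] (h : OB Q e) (h5 : 5 ≤ Nat.card F) {k : Fin 8} (h0 : 0 ≠ k) (h1 : 1 ≠ k) (A : F) :
    ∃ c : F, c ≠ 0 ∧ Val Q e k (A + c ^ 2 * Q (e k)) := by
  classical
  have hk := h.ne k
  by_cases h6 : 6 ≤ Nat.card F
  · obtain ⟨c, δ, hc, hδ, hh⟩ := exists_hyper h.two h6 (A / Q (e k))
    have e1 : A + c ^ 2 * Q (e k) = δ ^ 2 * Q (e k) := by rw [hh]; field_simp
    refine ⟨c, hc, by rw [e1]; exact mul_ne_zero (pow_ne_zero 2 hδ) hk, δ • e k,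
      by rw [e1, QuadraticMap.map_smul, smul_eq_mul]; ring, mon_one h δ k, fun j _ _ a2 => ?_⟩
    rw [polar_smul_left, h.orth _ _ a2.symm, smul_zero]
  have := Fintype.ofFinite F
  have hc : Fintype.card F = 5 := by rw [← Nat.card_eq_fintype_card]; omega
  have h2 : ¬ IsSquare (2 : F) := by rw [FiniteField.isSquare_two_iff, hc]; decide
  by_cases hA : A + 1 ^ 2 * Q (e k) = 0
  · refine ⟨2, h.two, val_of_nonsq h h2 h0 h1 fun hB => ?_⟩
    have h3 : ((5 : ℕ) : F) = 0 := by rw [← hc]; exact FiniteField.cast_card_eq_zero F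
    push_cast at h3
    apply mul_ne_zero h.two hk
    linear_combination hA - hB + Q (e k) * h3
  · exact ⟨1, one_ne_zero, val_of_nonsq h h2 h0 h1 hA⟩

theorem coord (h : OB Q e) {M : Gam Q} {σ : F ≃+* F} {m : F} (hM : IsSS Q σ m M.1) {π : Fin 8 → Fin 8}
    {μ : Fin 8 → F} (hπ : ∀ i, M.1 (e i) = μ i • e (π i)) (hinj : Function.Injective π) {x : Fin 8 → F} {l : F}
    (hx : M.1 (vec e x) = l • vec e x) (i : Fin 8) : σ (x i) * μ i = l * x (π i) := by
  have h1 : polar Q (M.1 (vec e x)) (e (π i)) = polar Q (l • vec e x) (e (π i)) := by rw [hx]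
  rw [polar_smul_left, h.polar_vec, vec, gam_sum, ← polarBilin_apply_apply, map_sum, LinearMap.sum_apply,
    Finset.sum_eq_single i] at h1
  · rw [polarBilin_apply_apply, hM.smul, hπ, smul_smul, polar_smul_left, smul_eq_mul, smul_eq_mul, ← mul_assoc] at h1
    exact mul_right_cancel₀ (h.self _) h1
  · intro j _ hj
    rw [polarBilin_apply_apply, hM.smul, hπ, smul_smul, polar_smul_left, h.orth _ _ fun h0 => hj (hinj h0), smul_zero]
  · exact fun h => absurd (Finset.mem_univ i) h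

theorem pat : ∀ i j : Fin 8, (![true, true, false, true, true, true, false, false] i =
      ![true, true, false, true, true, true, false, false] j) →
    (![true, true, true, false, true, false, true, false] i = ![true, true, true, false, true, false, true, false] j) →
    (![true, true, true, true, false, false, false, true] i = ![true, true, true, true, false, false, false, true] j) →
    j = i ∨ (i = 0 ∧ j = 1) ∨ (i = 1 ∧ j = 0) := by decide

theorem scal (h : OB Q e) (h8 : finrank F V = 8) {g c₁ c₂ c₃ : F} (g0 : g ≠ 0) (g1 : g ≠ 1)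
    (hg : ∀ σ : F ≃+* F, σ g = g → ∀ a, σ a = a) (n1 : c₁ ≠ 0) (n2 : c₂ ≠ 0) (n3 : c₃ ≠ 0) {M : Gam Q} (hM : Mon e M)
    (f1 : Fix M (vec e ![1, 1, 0, 1, 1, c₁, 0, 0])) (f2 : Fix M (vec e ![1, g, 1, 0, 1, 0, c₂, 0]))
    (f3 : Fix M (vec e ![1, 1, 1, 1, 0, 0, 0, c₃])) : IsScal M := by
  choose π μ hπ using hM
  obtain ⟨σ, m, hs⟩ := M.2
  have hμ : ∀ i, μ i ≠ 0 := fun i h0 => gam_ne M (h.ne0 i) (by rw [hπ, h0, zero_smul])
  have hinj : Function.Injective π := by
    intro i j hij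
    by_contra hne
    have h1 := gam_perp M (h.orth i j hne)
    rw [hπ, hπ, hij, polar_smul_left, polar_smul_right, smul_eq_mul, smul_eq_mul] at h1
    exact mul_ne_zero (hμ i) (mul_ne_zero (hμ j) (h.self _)) h1
  obtain ⟨l₁, f1⟩ := f1
  obtain ⟨l₂, f2⟩ := f2
  obtain ⟨l₃, f3⟩ := f3
  have k1 := coord h hs hπ hinj f1
  have k2 := coord h hs hπ hinj f2
  have k3 := coord h hs hπ hinj f3
  have key : ∀ (x : Fin 8 → F) (p : Fin 8 → Bool) (l : F), x 0 ≠ 0 → (∀ i, p i = true ↔ x i ≠ 0) →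
      (∀ i, σ (x i) * μ i = l * x (π i)) → ∀ i, p i = p (π i) := by
    intro x p l x0 hp k i
    have hl : l ≠ 0 := by
      rintro rfl
      exact mul_ne_zero ((map_ne_zero σ).2 x0) (hμ 0) (by rw [k 0, zero_mul])
    rw [Bool.eq_iff_iff, hp, hp, not_iff_not]
    constructor
    · intro h0
      have := k i
      rw [h0, map_zero, zero_mul] at this
      exact (mul_eq_zero.1 this.symm).resolve_left hl
    · intro h0
      have := k i
      rw [h0, mul_zero] at this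
      exact (map_eq_zero σ).1 ((mul_eq_zero.1 this).resolve_right (hμ i))
  have hp : ∀ i, π i = i ∨ (i = 0 ∧ π i = 1) ∨ (i = 1 ∧ π i = 0) := fun i =>
    pat i (π i) (key _ _ _ (by simp) (fun i => by fin_cases i <;> simp [n1]) k1 i)
      (key _ _ _ (by simp) (fun i => by fin_cases i <;> simp [n2, g0]) k2 i)
      (key _ _ _ (by simp) (fun i => by fin_cases i <;> simp [n3]) k3 i)
  have p2 : π 2 = 2 := by simpa using hp 2
  have p3 : π 3 = 3 := by simpa using hp 3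
  have p4 : π 4 = 4 := by simpa using hp 4
  have p5 : π 5 = 5 := by simpa using hp 5
  have p6 : π 6 = 6 := by simpa using hp 6
  have p7 : π 7 = 7 := by simpa using hp 7
  have m3 : μ 3 = l₁ := by simpa [p3] using k1 3
  have m4 : μ 4 = l₁ := by simpa [p4] using k1 4
  have m4' : μ 4 = l₂ := by simpa [p4] using k2 4
  have m2 : μ 2 = l₂ := by simpa [p2] using k2 2
  have m2' : μ 2 = l₃ := by simpa [p2] using k3 2
  have e2 : l₂ = l₁ := m4'.symm.trans m4
  have e3 : l₃ = l₁ := m2'.symm.trans (m2.trans e2)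
  subst e3
  subst e2
  have hl : l₂ ≠ 0 := m3 ▸ hμ 3
  have p1 : π 1 = 1 := by
    rcases hp 1 with h1 | h1 | h1
    · exact h1
    · exact absurd h1.1 (by decide)
    · exfalso
      have a1 : μ 1 = l₂ := by simpa [h1.2] using k1 1
      have a2 : σ g * μ 1 = l₂ := by simpa [h1.2] using k2 1
      rw [a1] at a2
      apply g1
      apply σ.injective
      rw [map_one]
      exact mul_right_cancel₀ hl (by rw [a2, one_mul])
  have p0 : π 0 = 0 := by
    rcases hp 0 with h1 | h1 | h1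
    · exact h1
    · exact absurd (hinj (h1.2.trans p1.symm)) (by decide)
    · exact absurd h1.1 (by decide)
  have m0 : μ 0 = l₂ := by simpa [p0] using k1 0
  have m1 : μ 1 = l₂ := by simpa [p1] using k1 1
  have hσ : ∀ a, σ a = a := by
    apply hg
    have a2 : σ g * μ 1 = l₂ * g := by simpa [p1] using k2 1
    rw [m1, mul_comm] at a2
    exact mul_left_cancel₀ hl a2
  have m5 : μ 5 = l₂ := by
    have a : σ c₁ * μ 5 = l₂ * c₁ := by simpa [p5] using k1 5
    rw [hσ, mul_comm] at a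
    exact mul_right_cancel₀ n1 a
  have m6 : μ 6 = l₂ := by
    have a : σ c₂ * μ 6 = l₂ * c₂ := by simpa [p6] using k2 6
    rw [hσ, mul_comm] at a
    exact mul_right_cancel₀ n2 a
  have m7 : μ 7 = l₂ := by
    have a : σ c₃ * μ 7 = l₂ * c₃ := by simpa [p7] using k3 7
    rw [hσ, mul_comm] at a
    exact mul_right_cancel₀ n3 a
  have hlin : ∀ (a : F) (x : V), M.1 (a • x) = a • M.1 x := fun a x => by rw [hs.smul, hσ]
  refine ⟨l₂, fun x => ?_⟩
  have h1 : Submodule.span F (Set.range e) ≤ eigS M hlin l₂ := by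
    rw [Submodule.span_le]
    rintro _ ⟨i, rfl⟩
    show M.1 (e i) = l₂ • e i
    rw [hπ]
    fin_cases i
    · show μ 0 • e (π 0) = _; rw [m0, p0]; rfl
    · show μ 1 • e (π 1) = _; rw [m1, p1]; rfl
    · show μ 2 • e (π 2) = _; rw [m2, p2]; rfl
    · show μ 3 • e (π 3) = _; rw [m3, p3]; rfl
    · show μ 4 • e (π 4) = _; rw [m4, p4]; rfl
    · show μ 5 • e (π 5) = _; rw [m5, p5]; rfl
    · show μ 6 • e (π 6) = _; rw [m6, p6]; rfl
    · show μ 7 • e (π 7) = _; rw [m7, p7]; rfl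
  exact h1 (by rw [h.span h8]; trivial)

theorem core [Finite F] (h : OB Q e) (h8 : finrank F V = 8) {L : Subgroup (Gam Q)} (hL : ∀ M ∈ L, Mon e M)
    (hy : ∀ i j, i ≠ j → ∀ c : F, Q (c • e j) = Q (e i) → rr Q (e i) * rr Q (c • e j) ∈ L)
    {g c₁ c₂ c₃ : F} (g0 : g ≠ 0) (g1 : g ≠ 1)
    (hg : ∀ σ : F ≃+* F, σ g = g → ∀ a, σ a = a) (n1 : c₁ ≠ 0) (n2 : c₂ ≠ 0) (n3 : c₃ ≠ 0)
    (v1 : Val Q e 5 (Q (e 0) + Q (e 1) + Q (e 3) + Q (e 4) + c₁ ^ 2 * Q (e 5)))
    (v2 : Val Q e 6 (Q (e 0) + g ^ 2 * Q (e 1) + Q (e 2) + Q (e 4) + c₂ ^ 2 * Q (e 6)))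
    (v3 : Val Q e 7 (Q (e 0) + Q (e 1) + Q (e 2) + Q (e 3) + c₃ ^ 2 * Q (e 7))) : Kill3 L := by
  have q1 : Q (vec e ![1, 1, 0, 1, 1, c₁, 0, 0]) = Q (e 0) + Q (e 1) + Q (e 3) + Q (e 4) + c₁ ^ 2 * Q (e 5) := by
    rw [h.Q_vec, Fin.sum_univ_eight]; simp
  have q2 : Q (vec e ![1, g, 1, 0, 1, 0, c₂, 0]) =
      Q (e 0) + g ^ 2 * Q (e 1) + Q (e 2) + Q (e 4) + c₂ ^ 2 * Q (e 6) := by
    rw [h.Q_vec, Fin.sum_univ_eight]; simp
  have q3 : Q (vec e ![1, 1, 1, 1, 0, 0, 0, c₃]) = Q (e 0) + Q (e 1) + Q (e 2) + Q (e 3) + c₃ ^ 2 * Q (e 7) := by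
    rw [h.Q_vec, Fin.sum_univ_eight]; simp
  rw [← q1] at v1
  rw [← q2] at v2
  rw [← q3] at v3
  obtain ⟨a1, u₁, b1, d1, z1⟩ := v1
  obtain ⟨a2, u₂, b2, d2, -⟩ := v2
  obtain ⟨a3, u₃, b3, d3, -⟩ := v3
  obtain ⟨s, hs, t, ht, hst, c, hc⟩ := pair_three h (i := 2) (j := 6) (k := 7) (by decide) (by decide) (by decide)
  have hc' : Q (c • e t) = Q (e s) := by rw [QuadraticMap.map_smul, ← hc, smul_eq_mul]; ring
  have zv : ∀ r ∈ ({2, 6, 7} : Finset (Fin 8)), polar Q (vec e ![1, 1, 0, 1, 1, c₁, 0, 0]) (e r) = 0 := by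
    intro r hr
    rw [h.polar_vec]
    simp only [Finset.mem_insert, Finset.mem_singleton] at hr
    rcases hr with rfl | rfl | rfl <;> simp
  have zu : ∀ r ∈ ({2, 6, 7} : Finset (Fin 8)), polar Q u₁ (e r) = 0 := by
    intro r hr
    simp only [Finset.mem_insert, Finset.mem_singleton] at hr
    rcases hr with rfl | rfl | rfl <;> exact z1 _ (by decide) (by decide) (by decide)
  have F1 := @fix_lines _ _ _ _ _ _ _ h L hL _ _ a1 d1 {0, 1, 3, 4, 5} (by decide) (fun j hj => by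
    simp only [Finset.mem_insert, Finset.mem_singleton] at hj
    rcases hj with rfl | rfl | rfl | rfl | rfl <;> simp [n1])
  have F2 := @fix_lines _ _ _ _ _ _ _ h L hL _ _ a2 d2 {0, 1, 2, 4, 6} (by decide) (fun j hj => by
    simp only [Finset.mem_insert, Finset.mem_singleton] at hj
    rcases hj with rfl | rfl | rfl | rfl | rfl <;> simp [n2, g0])
  have F3 := @fix_lines _ _ _ _ _ _ _ h L hL _ _ a3 d3 {0, 1, 2, 3, 7} (by decide) (fun j hj => by
    simp only [Finset.mem_insert, Finset.mem_singleton] at hj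
    rcases hj with rfl | rfl | rfl | rfl | rfl <;> simp [n3])
  refine ⟨_, u₁, _, u₂, _, u₃, e s, c • e t, a1, b1, a2, b2, a3, b3, h.ne s, hc', ?_, hy s t hst c hc', ?_,
    fun M hM h1 => F1 hM h1, fun M hM h1 h2 h3 =>
      scal h h8 g0 g1 hg n1 n2 n3 (hL M hM) (F1 hM h1) (F2 hM h2) (F3 hM h3)⟩
  · rw [polar_smul_right, h.orth _ _ hst, smul_zero]
    intro h0
    apply mul_ne_zero (mul_ne_zero h.two h.two) (pow_ne_zero 2 (h.ne s))
    linear_combination -h0
  · rw [cjv_comm (zv s hs) (by rw [polar_smul_right, zv t ht, smul_zero]) (zu s hs)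
      (by rw [polar_smul_right, zu t ht, smul_zero])]
    exact hy s t hst c hc'

/-- the sign -/
def sgn (b : Bool) : ℤ := if b then 1 else -1

/-- orderings for the field with three elements -/
def prm : List (Fin 8 → Fin 8) :=
  [![5, 6, 0, 1, 7, 2, 3, 4], ![3, 6, 1, 2, 4, 5, 7, 0], ![4, 7, 1, 2, 5, 6, 0, 3], ![0, 1, 2, 3, 5, 6, 7, 4],
   ![1, 5, 0, 2, 4, 7, 3, 6], ![1, 3, 0, 4, 6, 5, 2, 7], ![3, 7, 2, 4, 5, 0, 1, 6], ![3, 5, 0, 2, 7, 1, 6, 4],
   ![1, 2, 0, 4, 6, 7, 5, 3], ![0, 6, 1, 3, 7, 4, 5, 2], ![5, 7, 0, 1, 4, 3, 6, 2], ![2, 6, 0, 3, 4, 1, 5, 7],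
   ![2, 4, 0, 1, 3, 6, 5, 7], ![1, 6, 0, 2, 4, 3, 5, 7], ![2, 5, 0, 3, 4, 6, 1, 7], ![0, 4, 1, 3, 7, 5, 6, 2],
   ![4, 6, 0, 3, 5, 7, 1, 2], ![0, 5, 2, 3, 7, 4, 6, 1], ![0, 3, 1, 4, 6, 5, 2, 7], ![2, 7, 0, 3, 6, 5, 1, 4],
   ![3, 4, 0, 2, 7, 6, 1, 5], ![1, 4, 0, 2, 3, 5, 7, 6], ![6, 7, 1, 3, 5, 2, 0, 4], ![1, 7, 0, 5, 6, 2, 4, 3],
   ![0, 7, 1, 2, 6, 4, 3, 5], ![0, 2, 3, 6, 7, 1, 5, 4], ![4, 5, 0, 1, 3, 6, 2, 7], ![2, 3, 1, 5, 6, 7, 4, 0]]

theorem prm_inj' : (prm.all fun π => decide (∀ i j, π i = π j → i = j)) = true := by decide +kernel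

theorem prm_inj : ∀ π ∈ prm, ∀ i j, π i = π j → i = j := fun π h =>
  of_decide_eq_true (List.all_eq_true.1 prm_inj' π h)

/-- the three rows have non-zero norm -/
def Rows (s : Fin 8 → Bool) (π : Fin 8 → Fin 8) : Prop :=
  ¬ (3 : ℤ) ∣ sgn (s (π 0)) + sgn (s (π 1)) + sgn (s (π 3)) + sgn (s (π 4)) + sgn (s (π 5)) ∧
  ¬ (3 : ℤ) ∣ sgn (s (π 0)) + sgn (s (π 1)) + sgn (s (π 2)) + sgn (s (π 4)) + sgn (s (π 6)) ∧
  ¬ (3 : ℤ) ∣ sgn (s (π 0)) + sgn (s (π 1)) + sgn (s (π 2)) + sgn (s (π 3)) + sgn (s (π 7))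

theorem prm_cover' : ∀ b0 b1 b2 b3 b4 b5 b6 b7 : Bool,
    (∃ i, ∀ j, j ≠ i → ![b0, b1, b2, b3, b4, b5, b6, b7] j = !(![b0, b1, b2, b3, b4, b5, b6, b7] i)) ∨
      ∃ π ∈ prm, Rows ![b0, b1, b2, b3, b4, b5, b6, b7] π := by
  unfold Rows
  decide +kernel

theorem prm_cover (s : Fin 8 → Bool) : (∃ i, ∀ j, j ≠ i → s j = !(s i)) ∨ ∃ π ∈ prm, Rows s π := by
  have h : s = ![s 0, s 1, s 2, s 3, s 4, s 5, s 6, s 7] := by
    funext i; fin_cases i <;> rfl
  rw [h]
  exact prm_cover' _ _ _ _ _ _ _ _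

end GF

open GF in
theorem boxFr : BoxFr := by
  intro F V _ _ _ _ _ Q L e _ h8 h2 hne horth hL hy h3
  classical
  have h : OB Q e := ⟨h2, hne, horth⟩
  have := Fintype.ofFinite F
  have hcard : Nat.card F = 3 ∨ 5 ≤ Nat.card F := by
    have h1 : (Nat.card F : F) = 0 := by rw [Nat.card_eq_fintype_card]; exact FiniteField.cast_card_eq_zero F
    have h4 : 1 < Nat.card F := Finite.one_lt_card
    by_contra hc
    have h5 : Nat.card F = 2 ∨ Nat.card F = 4 := by omega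
    rcases h5 with h5 | h5 <;> rw [h5] at h1 <;> push_cast at h1
    · exact h2 h1
    · exact mul_ne_zero h2 h2 (by linear_combination h1)
  rcases hcard with hc | hc
  · have hc' : Fintype.card F = 3 := by rw [← Nat.card_eq_fintype_card, hc]
    have : Fact (Nat.Prime 3) := ⟨Nat.prime_three⟩
    have hch : CharP F 3 := charP_of_card_eq_prime hc'
    have hd : ∀ i, Q (e i) = ((sgn (decide (Q (e i) = 1)) : ℤ) : F) := fun i => by
      by_cases h1 : Q (e i) = 1
      · simp [sgn, h1]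
      · have h4 := FiniteField.pow_card_sub_one_eq_one _ (hne i)
        rw [hc'] at h4
        rcases sq_eq_one_iff.1 h4 with h5 | h5
        · exact absurd h5 h1
        · rw [decide_eq_false h1, h5]; simp [sgn]
    rcases prm_cover fun i => decide (Q (e i) = 1) with ⟨i, hi⟩ | ⟨π, hπ, r1, r2, r3⟩
    · exfalso
      refine h3 hc ⟨i, fun j hj => ?_⟩
      rw [hd j, hd i, hi j hj]
      cases decide (Q (e i) = 1) <;> simp [sgn]
    have hinj : Function.Injective π := prm_inj π hπ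
    have h' : OB Q (e ∘ π) := ⟨h2, fun i => hne _, fun i j hij => horth _ _ fun h0 => hij (hinj h0)⟩
    have hn2 : ¬ IsSquare (2 : F) := by rw [FiniteField.isSquare_two_iff, hc']; decide
    have hz : ∀ n : ℤ, ¬ (3 : ℤ) ∣ n → (n : F) ≠ 0 := fun n hn h0 => hn ((CharP.intCast_eq_zero_iff F 3 n).1 h0)
    refine core h' h8 (fun M hM i => ?_) (fun i j hij => hy _ _ fun h0 => hij (hinj h0)) (g := -1) (c₁ := 1) (c₂ := 1)
      (c₃ := 1) (neg_ne_zero.2 one_ne_zero) (fun h0 => h2 (by linear_combination -h0))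
      (fun σ _ => aut_small hc.le σ) one_ne_zero one_ne_zero one_ne_zero
      (val_of_nonsq h' hn2 (by decide) (by decide) ?_) (val_of_nonsq h' hn2 (by decide) (by decide) ?_)
      (val_of_nonsq h' hn2 (by decide) (by decide) ?_)
    · obtain ⟨j, c, hj⟩ := hL M hM (π i)
      obtain ⟨k, rfl⟩ := Finite.injective_iff_surjective.1 hinj j
      exact ⟨k, c, hj⟩
    · have := hz _ r1
      push_cast at this
      simp only [← hd] at this
      simpa using this
    · have := hz _ r2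
      push_cast at this
      simp only [← hd] at this
      simpa using this
    · have := hz _ r3
      push_cast at this
      simp only [← hd] at this
      simpa using this
  · obtain ⟨g, hg⟩ := IsCyclic.exists_generator (α := Fˣ)
    have hg' : ∀ σ : F ≃+* F, σ g = g → ∀ a, σ a = a := fun σ hσ a => by
      by_cases ha : a = 0
      · rw [ha, map_zero]
      · obtain ⟨k, hk⟩ := Subgroup.mem_zpowers_iff.1 (hg (Units.mk0 a ha))
        have h4 : a = (g : F) ^ k := by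
          have := congrArg Units.val hk
          rw [Units.val_zpow_eq_zpow_val] at this
          exact this.symm
        rw [h4, map_zpow₀, hσ]
    have g1 : (g : F) ≠ 1 := by
      intro h1
      obtain ⟨k, hk⟩ := Subgroup.mem_zpowers_iff.1 (hg (-1))
      have h4 := congrArg Units.val hk
      rw [Units.val_zpow_eq_zpow_val, h1, one_zpow, Units.val_neg, Units.val_one] at h4
      exact h2 (by linear_combination h4)
    obtain ⟨c₁, n1, v1⟩ := val_big h hc (k := 5) (by decide) (by decide) (Q (e 0) + Q (e 1) + Q (e 3) + Q (e 4))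
    obtain ⟨c₂, n2, v2⟩ := val_big h hc (k := 6) (by decide) (by decide)
      (Q (e 0) + (g : F) ^ 2 * Q (e 1) + Q (e 2) + Q (e 4))
    obtain ⟨c₃, n3, v3⟩ := val_big h hc (k := 7) (by decide) (by decide) (Q (e 0) + Q (e 1) + Q (e 2) + Q (e 3))
    exact core h h8 hL hy g.ne_zero g1 hg' n1 n2 n3 v1 v2 v3

end Cfsg.Agent.SB.D4
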