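import Cfsg.Agent.SB.D4.RB1
import Cfsg.Agent.SB.D4.GF

/-!
# S5765, `PΩ₈⁺(q)`, `r = 2`, case I: all lifts are involutions (helper61)
-/

set_option autoImplicit false
set_option linter.unusedSectionVars false

namespace Cfsg.Agent.SB.D4

open QuadraticMap Module Cfsg.Agent.LieClassical.QuadForms Cfsg.Agent.LieClassical.OrthCore
  Cfsg.Agent.LieClassical.OrthTrans Cfsg.Agent.ClassicalGeometry.OrthSemi Cfsg.Agent.ClassicalGeometry.OrthAut1
  Cfsg.Agent.ClassicalGeometry.TrialityOct Cfsg.Agent.ClassicalGeometry.Triality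
  Cfsg.Agent.H989.OutOrth.Basic Cfsg.Agent.H989.OutOrth.Tri Cfsg.Agent.H786.FC

namespace RB

section sign

variable {F V : Type} [Field F] [AddCommGroup V] [Module F V] {Q : QuadraticForm F V} {e : Fin 8 → V}

theorem exists_vec (h : GF.OB Q e) (h8 : finrank F V = 8) (v : V) : ∃ x : Fin 8 → F, v = GF.vec e x := by
  have h1 : v ∈ Submodule.span F (Set.range e) := by rw [h.span h8]; trivial
  obtain ⟨x, hx⟩ := (Submodule.mem_span_range_iff_exists_fun F).1 h1
  exact ⟨x, hx.symm⟩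

theorem line_of_plane {p p' : V} (hp : Q p = 0) (hp' : Q p' = 0) (hpp : polar Q p p' = 0) (h0 : p ≠ 0)
    (h1 : ∀ c : F, p' ≠ c • p) (s : V) : ∃ a b : F, a • p + b • p' ≠ 0 ∧ polar Q (a • p + b • p') s = 0 ∧
      Q (a • p + b • p') = 0 := by
  have hq : ∀ a b : F, Q (a • p + b • p') = 0 := fun a b => by
    rw [Q_add, QuadraticMap.map_smul, QuadraticMap.map_smul, polar_smul_left, polar_smul_right, hp, hp', hpp]
    simp
  by_cases h : polar Q p s = 0
  · exact ⟨1, 0, by simpa using h0, by simpa using h, hq _ _⟩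
  · refine ⟨-polar Q p' s, polar Q p s, fun h2 => h (G.ind_of_ne h0 h1 _ _ h2).2, ?_, hq _ _⟩
    rw [polar_add_left, polar_smul_left, polar_smul_left, smul_eq_mul, smul_eq_mul]
    ring

/-- the form `⟨d, -d, -d, -d⟩` over the field with three elements has Witt index one -/
theorem no_ts [Finite F] (h3 : Nat.card F = 3) (h : GF.OB Q e) (h8 : finrank F V = 8) {i : Fin 8}
    (hi : ∀ j, j ≠ i → Q (e j) = -Q (e i)) {A : Submodule F V} (h4 : finrank F A = 4) (hiA : e i ∈ A)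
    (hA : ∀ j, e j ∈ A ∨ ∀ v ∈ A, polar Q v (e j) = 0) : ¬ HasTS Q A := by
  classical
  rintro ⟨p, hpA, p', hp'A, hp, hp', hpp, h0, h1⟩
  have := Fintype.ofFinite F
  have hc' : Fintype.card F = 3 := by rw [← Nat.card_eq_fintype_card, h3]
  have : Fact (Nat.Prime 3) := ⟨Nat.prime_three⟩
  have hch : CharP F 3 := charP_of_card_eq_prime hc'
  have hfd : FiniteDimensional F V := Module.finite_of_finrank_pos (by omega)
  set I : Finset (Fin 8) := Finset.univ.filter fun j => e j ∈ A with hI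
  have hI4 : I.card ≤ 4 := by
    have h2 : LinearIndependent F e := by
      rw [Fintype.linearIndependent_iff]
      intro x hx j
      have h2 := h.polar_vec x j
      rw [GF.vec, hx, polar_zero_left] at h2
      exact (mul_eq_zero.1 h2.symm).resolve_right (h.self j)
    have h5 : LinearIndependent F fun j : I => (⟨e j, (Finset.mem_filter.1 j.2).2⟩ : A) :=
      LinearIndependent.of_comp A.subtype (h2.comp (fun j : I => (j : Fin 8)) Subtype.val_injective)
    have h6 := h5.fintype_card_le_finrank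
    rwa [Fintype.card_coe, h4] at h6
  have hz : ∀ x : Fin 8 → F, GF.vec e x ∈ A → ∀ j, j ∉ I → x j = 0 := fun x hx j hj => by
    have h2 := (hA j).resolve_left (fun h5 => hj (Finset.mem_filter.2 ⟨Finset.mem_univ _, h5⟩)) _ hx
    rw [h.polar_vec] at h2
    exact (mul_eq_zero.1 h2).resolve_right (h.self j)
  have hiI : i ∈ I := Finset.mem_filter.2 ⟨Finset.mem_univ _, hiA⟩
  obtain ⟨j, hjI, hji⟩ : ∃ j ∈ I, j ≠ i := by
    by_contra hc
    push Not at hc
    obtain ⟨x, rfl⟩ := exists_vec h h8 p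
    have h2 : ∀ j, j ≠ i → x j = 0 := fun j hj => hz x hpA j fun h5 => hj (hc j h5)
    rw [h.Q_vec, Finset.sum_eq_single i (fun j _ hj => by rw [h2 j hj]; ring) (by simp)] at hp
    have h5 : x i = 0 := pow_eq_zero_iff two_ne_zero |>.1 ((mul_eq_zero.1 hp).resolve_right (h.ne i))
    apply h0
    refine Finset.sum_eq_zero fun j _ => ?_
    by_cases hj : j = i
    · rw [hj, h5, zero_smul]
    · rw [h2 j hj, zero_smul]
  have hd := h.ne i
  have key : ∀ ς : F, ς * ς = 1 → ∃ a b c : F, c ≠ 0 ∧ a • p + b • p' = c • (ς • e i + e j) := by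
    intro ς hς
    obtain ⟨a, b, t0, t1, t2⟩ := line_of_plane hp hp' hpp h0 h1 (e i + ς • e j)
    have tA : a • p + b • p' ∈ A := add_mem (A.smul_mem _ hpA) (A.smul_mem _ hp'A)
    obtain ⟨x, hx⟩ := exists_vec h h8 (a • p + b • p')
    rw [hx] at t0 t1 t2 tA
    rw [polar_add_right, polar_smul_right, h.polar_vec, h.polar_vec, polar_self', polar_self', hi j hji,
      smul_eq_mul] at t1
    have e1 : x i = ς * x j := by
      apply mul_right_cancel₀ (mul_ne_zero h.two hd)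
      linear_combination t1
    set K := (I.erase i).erase j with hK
    have hK2 : K.card ≤ 2 := by
      rw [hK, Finset.card_erase_of_mem (Finset.mem_erase.2 ⟨hji, hjI⟩), Finset.card_erase_of_mem hiI]
      omega
    have e2 : ∑ k ∈ K, x k ^ 2 = 0 := by
      rw [h.Q_vec, ← Finset.sum_subset (Finset.subset_univ I) (fun k _ hk => by rw [hz x tA k hk]; ring),
        ← Finset.add_sum_erase _ _ hiI, ← Finset.add_sum_erase _ _ (Finset.mem_erase.2 ⟨hji, hjI⟩), ← hK,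
        Finset.sum_congr rfl (g := fun k => x k ^ 2 * -Q (e i)) fun k hk => by
          rw [hi k (Finset.mem_erase.1 (Finset.mem_erase.1 hk).2).1], ← Finset.sum_mul, hi j hji, e1] at t2
      apply mul_right_cancel₀ hd
      linear_combination -t2 + x j ^ 2 * Q (e i) * hς
    have e3 : ∀ k ∈ K, x k = 0 := by
      have e4 : ∑ k ∈ K, x k ^ 2 = ((K.filter fun k => x k ≠ 0).card : F) := by
        rw [Finset.card_filter, Nat.cast_sum]
        refine Finset.sum_congr rfl fun k _ => ?_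
        by_cases hk : x k = 0
        · simp [hk]
        · have h5 := FiniteField.pow_card_sub_one_eq_one _ hk
          rw [hc'] at h5
          simpa [hk] using h5
      rw [e4, CharP.cast_eq_zero_iff F 3] at e2
      have e5 := Finset.card_filter_le K fun k => x k ≠ 0
      have e6 : (K.filter fun k => x k ≠ 0).card = 0 := by omega
      intro k hk
      by_contra h5
      exact Finset.filter_eq_empty_iff.1 (Finset.card_eq_zero.1 e6) hk h5
    have e7 : GF.vec e x = x j • (ς • e i + e j) := by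
      rw [GF.vec, ← Finset.sum_subset (Finset.subset_univ I) (fun k _ hk => by rw [hz x tA k hk, zero_smul]),
        ← Finset.add_sum_erase _ _ hiI, ← Finset.add_sum_erase _ _ (Finset.mem_erase.2 ⟨hji, hjI⟩), ← hK,
        Finset.sum_eq_zero fun k hk => by rw [e3 k hk, zero_smul], e1]
      module
    exact ⟨a, b, x j, fun h5 => t0 (by rw [e7, h5, zero_smul]), hx.trans e7⟩
  obtain ⟨a, b, c, hc, e1⟩ := key 1 (one_mul 1)
  obtain ⟨a', b', c', hc'', e2⟩ := key (-1) (by ring)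
  have e3 : polar Q (a • p + b • p') (a' • p + b' • p') = 0 := by
    simp only [polar_add_left, polar_add_right, polar_smul_left, polar_smul_right, polar_self_of_sing hp,
      polar_self_of_sing hp', hpp, polar_comm Q p' p, smul_zero, add_zero]
  rw [e1, e2] at e3
  simp only [polar_add_left, polar_add_right, polar_smul_left, polar_smul_right, polar_self', h.orth i j hji.symm,
    h.orth j i hji, hi j hji, smul_eq_mul] at e3
  apply mul_ne_zero (mul_ne_zero hc hc'') (mul_ne_zero (mul_ne_zero h.two h.two) hd)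
  linear_combination -e3

end sign

variable {F : Type} [Field F] [Fintype F] {S : Subgroup (MulAut (G8 F))} {X : Subgroup (G8 F)}

/-- all lifts -/
def Y2 (X : Subgroup (G8 F)) : Subgroup (GL8 F) := (X.comap (QuotientGroup.mk' _)).map (E (Q8 F)).subtype

theorem mem_Y2 {g : GL8 F} : g ∈ Y2 X ↔ ∃ a : E8 F, (a : G8 F) ∈ X ∧ a.1 = g := Iff.rfl

section

variable (h : Cx S X 2) (hx : ∀ a : E8 F, (a : G8 F) ∈ X → a * a = 1)
include h hx

omit hx in
theorem two_ne : (2 : F) ≠ 0 := by simpa using h.char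

omit h in
theorem Y2_inv {g : GL8 F} (hg : g ∈ Y2 X) : g⁻¹ = g := by
  obtain ⟨a, ha, rfl⟩ := hg
  exact inv_eq_of_mul_eq_one_left (congrArg Subtype.val (hx a ha))

omit h in
theorem Y2_comm : ∀ g ∈ Y2 X, ∀ g' ∈ Y2 X, g * g' = g' * g := fun g hg g' hg' => by
  rw [← Y2_inv hx (mul_mem hg hg'), mul_inv_rev, Y2_inv hx hg, Y2_inv hx hg']

theorem mem_Bl2 {θ : Y2 X → F} {v : V8 F} : v ∈ Bl (Y2 X) θ ↔ ∀ a : Y2 X, a.1 v = (θ a / 2) • v := by
  have h2 := two_ne h
  rw [mem_Bl]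
  refine forall_congr' fun a => ?_
  rw [Y2_inv hx a.2, ← two_smul F]
  constructor
  · intro h1
    rw [div_eq_inv_mul, mul_smul, ← h1, smul_smul, inv_mul_cancel₀ h2, one_smul]
  · intro h1
    rw [h1, smul_smul, mul_div_cancel₀ _ h2]

theorem dec2 : Dec (Q8 F) (Bl (Y2 X)) := by
  have : Finite (Y2 X) :=
    Finite.of_injective (fun a : Y2 X => (a.1 : V8 F → V8 F)) fun _ _ h => Subtype.ext (DFunLike.coe_injective h)
  refine dec_Bl ?_ (Y2_comm hx) fun g hg => ?_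
  · rintro _ ⟨a, -, rfl⟩
    exact E_le_O a.2
  · have h1 : sym g = (2 : F) • g.toLinearMap := by rw [sym, Y2_inv hx hg, two_smul]
    have h3 : g.toLinearMap * g.toLinearMap = 1 := by
      obtain ⟨a, ha, rfl⟩ := hg
      exact LinearMap.ext (aa (hx a ha))
    obtain ⟨k, hk⟩ : Odd (Fintype.card F) := by
      rw [← Nat.not_even_iff_odd]
      intro he
      have h4 : ringChar F = 2 := FiniteField.even_card_iff_char_two.2 (Nat.even_iff.1 he)
      exact two_ne h (by simpa using (ringChar.spec F 2).2 (h4 ▸ dvd_rfl))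
    rw [h1, smul_pow, FiniteField.pow_card, hk, pow_succ, pow_mul, pow_two, h3, one_pow, one_mul]

omit hx in
theorem prm2 : Prm (LL S) (Bl (Y2 X)) := prm_Bl (by
  rintro M hM _ ⟨a, ha, rfl⟩
  exact ⟨conjE (Q8 F) M a, h.conjE_mem hM ha, rfl⟩)

theorem eig2 {θ : Y2 X → F} {v : V8 F} (hv : v ∈ Bl (Y2 X) θ) {a : E8 F} (ha : (a : G8 F) ∈ X) :
    a.1 v = (θ ⟨a.1, a, ha, rfl⟩ / 2) • v := (mem_Bl2 h hx).1 hv ⟨a.1, a, ha, rfl⟩

theorem eig2' {θ : Y2 X → F} {v : V8 F} (hv : v ∈ Bl (Y2 X) θ) (hv0 : v ≠ 0) {a : E8 F} (ha : (a : G8 F) ∈ X) :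
    θ ⟨a.1, a, ha, rfl⟩ / 2 * (θ ⟨a.1, a, ha, rfl⟩ / 2) = 1 := by
  have h1 := aa (hx a ha) v
  rw [eig2 h hx hv ha, map_smul, eig2 h hx hv ha, smul_smul] at h1
  exact smul_left_injective F hv0 (h1.trans (one_smul F v).symm)

theorem rank_le {θ θ' : Y2 X → F} (h0 : Bl (Y2 X) θ ≠ ⊥) (h0' : Bl (Y2 X) θ' ≠ ⊥) :
    finrank F (Bl (Y2 X) θ) ≤ finrank F (Bl (Y2 X) θ') := by
  obtain ⟨z, hz, hz'⟩ := ((dec2 h hx).nd nondeg8' θ).exists_nonsing h0
  obtain ⟨w, hw, hw'⟩ := ((dec2 h hx).nd nondeg8' θ').exists_nonsing h0'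
  obtain ⟨M, hM⟩ := h.sym1
  let ι := {a : E8 F // (a : G8 F) ∈ X}
  choose b c ht using fun a : ι => exists_T3 a.1
  have hy : ∀ a : ι, ∃ y : F, (b a).1 (M⁻¹.1 z) = y • M⁻¹.1 z := fun a => by
    have h1 := conjE_eig (M := M⁻¹) (eig2 h hx hz ((hM _ _ _ (ht a)).1 a.2))
    rwa [conjE_inv_conjE] at h1
  choose y hy using hy
  refine eq_le ht hz' hw' (Q_ne M⁻¹ hz') (fun a => eig2 h hx hz a.2) (fun a => eig2 h hx hw a.2) hy
    (fun v hv a => eig2 h hx hv a.2) fun v hv => (mem_Bl2 h hx).2 ?_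
  rintro ⟨_, a, ha, rfl⟩
  exact hv ⟨a, ha⟩

theorem rot2 {θ θ' : Y2 X → F} {u v : V8 F} (hu : u ∈ Bl (Y2 X) θ) (hv : v ∈ Bl (Y2 X) θ') (h1 : Q8 F u ≠ 0)
    (h2 : Q8 F v = Q8 F u) : rr (Q8 F) u * rr (Q8 F) v ∈ LL S := by
  refine h.rot_mem h1 h2 fun x hx' => ?_
  obtain ⟨a, rfl⟩ := QuotientGroup.mk_surjective x
  refine ⟨a, rfl, ?_⟩
  rw [eig2 h hx hu hx', eig2 h hx hv hx',
    rr_smul (left_ne_zero_of_mul_eq_one (eig2' h hx hu (fun h0 => h1 (by rw [h0, map_zero])) hx')),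
    rr_smul (left_ne_zero_of_mul_eq_one (eig2' h hx hv (fun h0 => h1 (by rw [← h2, h0, map_zero])) hx'))]

theorem ts2 {a : E8 F} (ha : (a : G8 F) ∈ X) (hn : ∀ e, ¬ Sc a e) {e : F} (he : e * e = 1) :
    finrank F (Eg a e) = 4 ∧ HasTS (Q8 F) (Eg a e) := by
  obtain ⟨b, c, ht⟩ := exists_T3 a
  obtain ⟨M, hM⟩ := h.sym1
  obtain ⟨N, hN⟩ := h.sym2
  have hb : b * b = 1 := (conjE (Q8 F) M).injective (by rw [map_mul, map_one]; exact hx _ ((hM a b c ht).1 ha))
  have hc : c * c = 1 := (conjE (Q8 F) N).injective (by rw [map_mul, map_one]; exact hx _ ((hN a b c ht).1 ha))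
  exact ⟨four_Eg (two_ne h) ht (hx a ha) hb hn he, hasTS_Eg (two_ne h) ht (hx a ha) hb hc hn he⟩

omit hx in
theorem exists_nonsc : ∃ a : E8 F, (a : G8 F) ∈ X ∧ ∀ e, ¬ Sc a e := by
  obtain ⟨⟨x, hx⟩, hx1⟩ := Subgroup.ne_bot_iff_exists_ne_one.1 h.ne
  obtain ⟨a, rfl⟩ := QuotientGroup.mk_surjective x
  exact ⟨a, hx, fun e he => hx1 (Subtype.ext (mk_eq_one_iff.2 ⟨e, he⟩))⟩

/-- a block of dimension four is an eigenspace -/
theorem ts_block {θ : Y2 X → F} (h4 : finrank F (Bl (Y2 X) θ) = 4) : HasTS (Q8 F) (Bl (Y2 X) θ) := by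
  obtain ⟨a, ha, hn⟩ := exists_nonsc h
  obtain ⟨v, hv, hv0⟩ := G.exists_ne_zero (W := Bl (Y2 X) θ) (by omega)
  obtain ⟨h1, h2⟩ := ts2 h hx ha hn (eig2' h hx hv hv0 ha)
  rwa [← Submodule.eq_of_le_of_finrank_eq (fun w hw => mem_Eg.2 (eig2 h hx hw ha)) (h4.trans h1.symm)] at h2

theorem block_le {θ : Y2 X → F} (h0 : Bl (Y2 X) θ ≠ ⊥) : finrank F (Bl (Y2 X) θ) ≤ 4 := by
  obtain ⟨a, ha, hn⟩ := exists_nonsc h
  obtain ⟨v, hv, hv0⟩ := (Submodule.ne_bot_iff _).1 h0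
  exact (Submodule.finrank_mono fun w hw => mem_Eg.2 (eig2 h hx hw ha)).trans
    (ts2 h hx ha hn (eig2' h hx hv hv0 ha)).1.le

theorem exists_blocks : ∃ (n d : ℕ) (f : Fin (n + 1) → (Y2 X → F)), (n + 1) * d = 8 ∧ d ≤ 4 ∧
    (∀ k, finrank F (Bl (Y2 X) (f k)) = d) ∧ Dec (Q8 F) (Bl (Y2 X) ∘ f) ∧ Prm (LL S) (Bl (Y2 X) ∘ f) := by
  classical
  have : Finite (Y2 X) :=
    Finite.of_injective (fun a : Y2 X => (a.1 : V8 F → V8 F)) fun _ _ h => Subtype.ext (DFunLike.coe_injective h)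
  have := Fintype.ofFinite (Y2 X → F)
  set s : Finset (Y2 X → F) := Finset.univ.filter fun θ => Bl (Y2 X) θ ≠ ⊥ with hs
  have hm : ∀ θ, θ ∈ s ↔ Bl (Y2 X) θ ≠ ⊥ := fun θ => by simp [hs]
  obtain ⟨θ, hθ⟩ : ∃ θ, Bl (Y2 X) θ ≠ ⊥ := by
    by_contra hc
    push Not at hc
    have h1 := (dec2 h hx).sum_finrank nondeg8'
    rw [Finset.sum_eq_zero fun θ _ => by rw [hc θ, finrank_bot], finrank8] at h1
    omega
  obtain ⟨n, hn⟩ : ∃ n, s.card = n + 1 := Nat.exists_eq_succ_of_ne_zero (Finset.card_ne_zero.2 ⟨θ, (hm θ).2 hθ⟩)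
  obtain ⟨f, f1, f2, f3, -⟩ := exists_enum s hn ((hm θ).2 hθ)
  have hd : ∀ k, finrank F (Bl (Y2 X) (f k)) = finrank F (Bl (Y2 X) θ) := fun k =>
    le_antisymm (rank_le h hx ((hm _).1 (f2 k)) hθ) (rank_le h hx hθ ((hm _).1 (f2 k)))
  have hD := (dec2 h hx).reindex f f1 fun i hi => f3 i ((hm i).2 hi)
  refine ⟨n, _, f, ?_, block_le h hx hθ, hd, hD, (prm2 h).reindex f fun i hi => f3 i ((hm i).2 hi)⟩
  have h1 := hD.sum_finrank nondeg8'
  have h2 : ∑ i, finrank F ((Bl (Y2 X) ∘ f) i) = ∑ _i : Fin (n + 1), finrank F (Bl (Y2 X) θ) :=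
    Finset.sum_congr rfl fun k _ => hd k
  rw [finrank8, h2] at h1
  simpa using h1

omit hx in
theorem three_le : 3 ≤ Nat.card F := by
  by_contra hc
  have h1 : (Nat.card F : F) = 0 := by rw [Nat.card_eq_fintype_card]; exact FiniteField.cast_card_eq_zero F
  have h4 : 1 < Nat.card F := Finite.one_lt_card
  rw [show Nat.card F = 2 by omega] at h1
  exact h.char h1

end

end RB

open RB in
/-- **Case I** -/
theorem case_two_I {F : Type} [Field F] [Fintype F] {S : Subgroup (MulAut (G8 F))} {X : Subgroup (G8 F)} (G : Geo)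
    (h : Cx S X 2) (hx : ∀ a : E8 F, (a : G8 F) ∈ X → a * a = 1) : Kill3 (LL S) := by
  obtain ⟨n, d, f, h8, h4, hd, hD, hP⟩ := exists_blocks h hx
  have h2 := two_ne h
  have h3 := three_le h
  have hc : (n = 1 ∧ d = 4) ∨ (n = 3 ∧ d = 2) ∨ (n = 7 ∧ d = 1) := by
    interval_cases d <;> omega
  rcases hc with ⟨rfl, rfl⟩ | ⟨rfl, rfl⟩ | ⟨rfl, rfl⟩
  · by_cases hq : 4 ≤ Nat.card F
    · exfalso
      obtain ⟨e, he, e', he', g, hg, g', hg', a1, a2, a3, a4, a5, a6, a7, a8, a9, a10⟩ :=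
        opp (hD.nd nondeg8' 0) (ts_block h hx (hd 0))
      refine h.no_sl2 G.sl2 hq a1 a2 a3 a4 a5 a6 (by rw [a7, a8, a9, a10]; simp) fun x hx' => ?_
      obtain ⟨a, rfl⟩ := QuotientGroup.mk_surjective x
      have he0 : e ≠ 0 := fun h0 => by rw [h0, polar_zero_left] at a7; exact zero_ne_one a7
      have h1 := eig2' h hx he he0 hx'
      refine ⟨a, rfl, ?_, ?_⟩
      · rw [eig2 h hx he hx', eig2 h hx he' hx', wd_smul h1]
      · rw [eig2 h hx hg hx', eig2 h hx hg' hx', wd_smul h1]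
    · exact G.d3 F _ _ _ _ nondeg8' (by omega) hD hd (fun i => ts_block h hx (hd i)) hP
        fun a ha b hb h1 h5 => rot2 h hx ha hb h1 h5
  · exact G.a F _ _ _ _ nondeg8' hD hd hP (Or.inl h3) (Or.inr ⟨h2, fun a ha b hb h1 h5 => rot2 h hx ha hb h1 h5⟩)
  · have he : ∀ k, ∃ v ∈ Bl (Y2 X) (f k), Q8 F v ≠ 0 := fun k => (hD.nd nondeg8' k).exists_nonsing fun h0 => by
      have h1 := hd k
      rw [show Bl (Y2 X) (f k) = ⊥ from h0, finrank_bot] at h1
      exact zero_ne_one h1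
    choose e he he' using he
    have hO : GF.OB (Q8 F) e := ⟨h2, he', fun i j hij => hD.orth i j hij _ (he i) _ (he j)⟩
    refine G.fr F _ _ _ e nondeg8' finrank8 h2 he' hO.orth (fun M hM i => ?_)
      (fun i j _ c h1 => rot2 h hx (he i) (Submodule.smul_mem _ _ (he j)) (he' i) h1) ?_
    · obtain ⟨j, hj⟩ := hP M hM i
      obtain ⟨c, hc⟩ := (finrank_eq_one_iff_of_nonzero' (⟨e j, he j⟩ : Bl (Y2 X) (f j))
        (fun h0 => hO.ne0 j (congrArg Subtype.val h0))).1 (hd j) ⟨_, hj _ (he i)⟩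
      exact ⟨j, c, (congrArg Subtype.val hc).symm⟩
    · rintro hq ⟨i, hi⟩
      obtain ⟨a, ha, hn⟩ := exists_nonsc h
      have h1 := eig2' h hx (he i) (hO.ne0 i) ha
      obtain ⟨h5, h6⟩ := ts2 h hx ha hn h1
      refine no_ts hq hO finrank8 hi h5 (mem_Eg.2 (eig2 h hx (he i) ha)) (fun j => ?_) h6
      have h7 := eig2' h hx (he j) (hO.ne0 j) ha
      rcases mul_self_eq_mul_self_iff.1 (h7.trans h1.symm) with h9 | h9
      · exact Or.inl (mem_Eg.2 (h9 ▸ eig2 h hx (he j) ha))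
      · exact Or.inr fun v hv => (dec_Eg h2 (hx a ha) h1).orth 0 1 (by decide) v hv _
          (mem_Eg.2 (h9 ▸ eig2 h hx (he j) ha))

end Cfsg.Agent.SB.D4
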