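import Cfsg.Agent.SB.D4.Lin

/-!
# S5765, `PΩ₈⁺(q)`: the lifts of odd order (helper97)
-/

set_option autoImplicit false
set_option linter.unusedSectionVars false

namespace Cfsg.Agent.SB.D4

open QuadraticMap Module Cfsg.Agent.LieClassical.QuadForms Cfsg.Agent.LieClassical.OrthCore
  Cfsg.Agent.LieClassical.OrthTrans Cfsg.Agent.ClassicalGeometry.OrthSemi Cfsg.Agent.ClassicalGeometry.OrthAut1
  Cfsg.Agent.ClassicalGeometry.TrialityOct Cfsg.Agent.ClassicalGeometry.Triality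
  Cfsg.Agent.H989.OutOrth.Basic Cfsg.Agent.H989.OutOrth.Tri Cfsg.Agent.H786.FC

theorem even_of_fpf {F V : Type} [Field F] [AddCommGroup V] [Module F V] [FiniteDimensional F V]
    {Q : QuadraticForm F V} {r : ℕ} (hr : r.Prime) (ho : Odd r) {x : V ≃ₗ[F] V} (hO : x ∈ O Q) (hx : x ^ r = 1)
    {U : Submodule F V} (hN : Nd Q U) (hU : ∀ v ∈ U, x v ∈ U) (hf : ∀ v ∈ U, x v = v → v = 0) :
    Even (finrank F U) := by
  refine hN.even (s := x.toLinearMap - (x⁻¹ : V ≃ₗ[F] V).toLinearMap) (fun v hv => ?_) (fun v _ => ?_) fun v hv h => ?_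
  · obtain ⟨w, hw, rfl⟩ := exists_pre hU hv
    exact sub_mem (hU _ hv) (by simpa using hw)
  · show polar Q v (x v - x⁻¹ v) = 0
    rw [polar_sub_right, ← polar_inv hO, polar_comm, sub_self]
  · refine hf v hv (fix_of_pow hr hx (j := 2) (fun h2 => ?_) ?_)
    · rw [(Nat.prime_dvd_prime_iff_eq hr Nat.prime_two).1 h2] at ho
      exact absurd ho (by decide)
    · have h1 : x v = x⁻¹ v := sub_eq_zero.1 h
      rw [pow_two, LinearEquiv.mul_apply, h1]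
      exact x.apply_symm_apply v

variable {F : Type} [Field F] [Fintype F]

omit [Fintype F] in
theorem Sc.pow {a : E8 F} {e : F} (h : Sc a e) (n : ℕ) : Sc (a ^ n) (e ^ n) := by
  induction n with
  | zero => simpa using Sc.one
  | succ n ih => rw [pow_succ, pow_succ]; exact ih.mul h

omit [Fintype F] in
theorem odd_lift {r : ℕ} (ho : Odd r) {a : E8 F} {e : F} (h : Sc (a ^ r) e) : (a ^ (r + 1)) ^ r = 1 := by
  obtain ⟨n, hn⟩ := ho.add_one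
  have h1 := h.pow (r + 1)
  rw [hn, pow_add e, ← mul_pow, h.sq, one_pow, ← hn, ← pow_mul, mul_comm, pow_mul] at h1
  exact h1.eq_one

omit [Fintype F] in
theorem odd_sc {r : ℕ} (ho : Odd r) {a : E8 F} {e : F} (h : Sc a e) (ha : a ^ r = 1) : a = 1 := by
  obtain ⟨n, rfl⟩ := ho
  have h1 := h.pow (2 * n + 1)
  rw [ha, pow_succ, pow_mul, pow_two, h.sq, one_pow, one_mul] at h1
  exact (h1.unique Sc.one ▸ h : Sc a 1).eq_one

theorem exists_T3_odd {r : ℕ} (ho : Odd r) {a : E8 F} (ha : a ^ r = 1) :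
    ∃ b c, T3 a b c ∧ b ^ r = 1 ∧ c ^ r = 1 := by
  obtain ⟨b, c, h⟩ := exists_T3 a
  obtain ⟨d, d', h1, h2, -⟩ := (h.pow r).sc (ha ▸ Sc.one)
  have h3 := h.pow (r + 1)
  rw [pow_succ a, ha, one_mul] at h3
  exact ⟨_, _, h3, odd_lift ho h1, odd_lift ho h2⟩

theorem finite_E8 : Finite (E8 F) :=
  Finite.of_injective (fun a : E8 F => (a.1 : V8 F → V8 F)) fun _ _ h => Subtype.ext (DFunLike.coe_injective h)

theorem finite_sub (Y : Subgroup (GL8 F)) : Finite Y :=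
  Finite.of_injective (fun a : Y => (a.1 : V8 F → V8 F)) fun _ _ h => Subtype.ext (DFunLike.coe_injective h)

namespace Cx

variable {S : Subgroup (MulAut (G8 F))} {X : Subgroup (G8 F)} {r : ℕ} (h : Cx S X r) (ho : Odd r)
include h

/-- the order of `q` modulo `r` -/
theorem order_cases : orderOf (Nat.card F : ZMod r) ∣ 4 ∨ orderOf (Nat.card F : ZMod r) ∣ 6 := by
  have : Fact r.Prime := ⟨h.prime⟩
  obtain ⟨⟨x, hx⟩, hx1⟩ := Subgroup.ne_bot_iff_exists_ne_one.1 h.ne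
  have h1 : r ∣ Nat.card (G8 F) := by
    rw [← orderOf_eq_prime (h.pow x hx) fun e => hx1 (Subtype.ext e)]
    exact orderOf_dvd_natCard x
  have h2 := S0293.result (F := F) rfl 4 le_rfl
  rw [Cfsg.Agent.H989.OutOrth.Forms.card_P good8, coe_plusForm] at h1
  have h3 := h2 ▸ h1.mul_left (Nat.gcd 4 (Fintype.card F ^ 4 - 1))
  have hq := card_ne_zero_zmod h.prime h.char
  have hq1 : 0 < Fintype.card F := Fintype.card_pos
  rw [Nat.card_eq_fintype_card] at hq ⊢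
  have key : ∀ n, r ∣ Fintype.card F ^ n - 1 → orderOf (Fintype.card F : ZMod r) ∣ n := fun n hn => by
    refine orderOf_dvd_of_pow_eq_one ?_
    rw [← ZMod.natCast_eq_zero_iff, Nat.cast_sub (Nat.one_le_pow _ _ hq1), Nat.cast_pow, Nat.cast_one] at hn
    exact sub_eq_zero.1 hn
  simp only [Finset.prod_range_succ, Finset.prod_range_zero, one_mul, h.prime.dvd_mul, Nat.reduceSub] at h3
  rcases h3 with (h3 | h3) | (h3 | h3) | h3
  · exact (hq ((ZMod.natCast_eq_zero_iff _ _).2 (h.prime.dvd_of_dvd_pow h3))).elim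
  · exact Or.inl (key _ h3)
  · exact Or.inl ((key _ h3).trans (by norm_num))
  · exact Or.inl (key _ h3)
  · exact Or.inr (key _ h3)

include ho

theorem comm_odd {a b : E8 F} (ha : (a : G8 F) ∈ X) (hb : (b : G8 F) ∈ X) (hbr : b ^ r = 1) : a * b = b * a := by
  have h1 : ((a * b * a⁻¹ * b⁻¹ : E8 F) : G8 F) = 1 := by
    rw [QuotientGroup.mk_mul, QuotientGroup.mk_mul, QuotientGroup.mk_mul, h.comm _ ha _ hb]
    simp
  have h2 := Subgroup.mem_center_iff.1 ((QuotientGroup.eq_one_iff _).1 h1)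
  obtain ⟨e, he⟩ := mk_eq_one_iff.1 h1
  have h3 := odd_sc ho he (by
    have h4 : Commute (a * b * a⁻¹ * b⁻¹) b := (h2 b).symm
    have h5 := h4.mul_pow r
    rwa [inv_mul_cancel_right, conj_pow, hbr, mul_one, mul_one, mul_inv_cancel, eq_comm] at h5)
  rwa [mul_inv_eq_one, mul_inv_eq_iff_eq_mul] at h3

/-- the lifts of odd order -/
def Y : Subgroup (GL8 F) where
  carrier := {g | ∃ a : E8 F, a.1 = g ∧ (a : G8 F) ∈ X ∧ a ^ r = 1}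
  mul_mem' := by
    rintro _ _ ⟨a, rfl, ha, ha'⟩ ⟨b, rfl, hb, hb'⟩
    refine ⟨a * b, rfl, mul_mem ha hb, ?_⟩
    rw [Commute.mul_pow (h.comm_odd ho ha hb hb'), ha', hb', one_mul]
  one_mem' := ⟨1, rfl, one_mem X, one_pow r⟩
  inv_mem' := by
    rintro _ ⟨a, rfl, ha, ha'⟩
    exact ⟨a⁻¹, rfl, inv_mem ha, by rw [inv_pow, ha', inv_one]⟩

theorem mem_Y {g : GL8 F} : g ∈ h.Y ho ↔ ∃ a : E8 F, a.1 = g ∧ (a : G8 F) ∈ X ∧ a ^ r = 1 := Iff.rfl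

theorem coe_mem_Y {a : E8 F} : a.1 ∈ h.Y ho ↔ (a : G8 F) ∈ X ∧ a ^ r = 1 :=
  ⟨fun ⟨_, e, h1⟩ => Subtype.ext e ▸ h1, fun h1 => ⟨a, rfl, h1⟩⟩

theorem lift (x : G8 F) (hx : x ∈ X) : ∃ a : E8 F, (a : G8 F) = x ∧ a.1 ∈ h.Y ho := by
  obtain ⟨a, rfl⟩ := QuotientGroup.mk_surjective x
  have h1 : ((a ^ (r + 1) : E8 F) : G8 F) = a := by rw [QuotientGroup.mk_pow, pow_succ, h.pow _ hx, one_mul]
  obtain ⟨e, he⟩ := mk_eq_one_iff.1 (show ((a ^ r : E8 F) : G8 F) = 1 from h.pow _ hx)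
  exact ⟨_, h1, (h.coe_mem_Y ho).2 ⟨h1 ▸ hx, odd_lift ho he⟩⟩

theorem Y_le : h.Y ho ≤ O (Q8 F) := by
  rintro _ ⟨a, rfl, -⟩
  exact E_le_O a.2

theorem Y_pow : ∀ g ∈ h.Y ho, g ^ r = 1 := by
  rintro _ ⟨a, rfl, -, ha⟩
  exact congrArg Subtype.val ha

theorem Y_comm : ∀ g ∈ h.Y ho, ∀ g' ∈ h.Y ho, g * g' = g' * g := by
  rintro _ ⟨a, rfl, ha, -⟩ _ ⟨b, rfl, hb, hb'⟩
  exact congrArg Subtype.val (h.comm_odd ho ha hb hb')

theorem Y_conj : ∀ M ∈ LL S, ∀ g ∈ h.Y ho, conjLin M g ∈ h.Y ho := by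
  rintro M hM _ ⟨a, rfl, ha, ha'⟩
  exact ⟨conjE (Q8 F) M a, rfl, h.conjE_mem hM ha, by rw [← map_pow, ha', map_one]⟩

theorem Y_ne : ∃ g ∈ h.Y ho, g ≠ 1 := by
  obtain ⟨⟨x, hx⟩, hx1⟩ := Subgroup.ne_bot_iff_exists_ne_one.1 h.ne
  obtain ⟨a, rfl, ha⟩ := h.lift ho x hx
  exact ⟨_, ha, fun e => hx1 (Subtype.ext (congrArg (QuotientGroup.mk : E8 F → G8 F) (Subtype.ext e : a = 1)))⟩

theorem Fx_ne_top : Fx (h.Y ho) ≠ ⊤ := fun e => by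
  obtain ⟨g, hg, hg1⟩ := h.Y_ne ho
  exact hg1 (LinearEquiv.ext fun v => mem_Fx.1 (e ▸ Submodule.mem_top) g hg)

theorem nd_FxY : Nd (Q8 F) (Fx (h.Y ho)) :=
  have := finite_sub (h.Y ho)
  nd_Fx nondeg8' h.prime h.char (h.Y_le ho) (h.Y_pow ho)

theorem conjE_mem_Y {M : Gam (Q8 F)} {a b : E8 F} (ha : a ^ r = 1) (hb : b ^ r = 1)
    (hM : (a : G8 F) ∈ X ↔ ((conjE (Q8 F) M b : E8 F) : G8 F) ∈ X) : a.1 ∈ h.Y ho ↔ conjLin M b.1 ∈ h.Y ho := by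
  rw [h.coe_mem_Y ho, ← coe_conjE, h.coe_mem_Y ho, ← map_pow, hb, map_one, hM, ha]

theorem tf1Y {e : V8 F} (he : Q8 F e = 0) (he0 : e ≠ 0) (hfix : e ∈ Fx (h.Y ho)) :
    ∃ U : Submodule F (V8 F), finrank F U = 4 ∧ (∀ u ∈ U, Q8 F u = 0) ∧ ∀ g ∈ h.Y ho, ∀ u ∈ U, g u ∈ U := by
  obtain ⟨U, h1, h2, h3⟩ := h.tf1 he he0 fun x hx => (h.lift ho x hx).imp fun a ha =>
    ⟨ha.1, 1, by rw [mem_Fx.1 hfix _ ha.2, one_smul]⟩
  refine ⟨U, h1, h2, ?_⟩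
  rintro _ ⟨a, rfl, ha, -⟩
  exact h3 a ha

theorem tf2Y {U : Submodule F (V8 F)} (h4 : finrank F U = 4) (hs : ∀ u ∈ U, Q8 F u = 0)
    (hinv : ∀ g ∈ h.Y ho, ∀ u ∈ U, g u ∈ U) :
    ∃ e : V8 F, Q8 F e = 0 ∧ e ≠ 0 ∧ ∀ g ∈ h.Y ho, ∃ l : F, g e = l • e := by
  obtain ⟨e, h1, h2, h3⟩ := h.tf2 h4 hs fun x hx => (h.lift ho x hx).imp fun a ha => ⟨ha.1, hinv _ ha.2⟩
  refine ⟨e, h1, h2, ?_⟩
  rintro _ ⟨a, rfl, ha, -⟩
  exact h3 a ha

theorem rot_memY {u v : V8 F} (hu : Q8 F u ≠ 0) (hv : Q8 F v = Q8 F u) (hy : ∀ g ∈ h.Y ho,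
    rr (Q8 F) (g u) * rr (Q8 F) (g v) = rr (Q8 F) u * rr (Q8 F) v) : rr (Q8 F) u * rr (Q8 F) v ∈ LL S :=
  h.rot_mem hu hv fun x hx => (h.lift ho x hx).imp fun _ ha => ⟨ha.1, hy _ ha.2⟩

end Cx

end Cfsg.Agent.SB.D4
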