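import Cfsg.Agent.SB.D4.Lin

/-!
# S5765, `PΩ₈⁺(q)`, case `r = 2`: octonion lemmas (helper30)

`Eg a e` is the `e`-eigenspace of `a`.  `EQ`, `Z1`, `Z2`, `L1`, `L3` of `notes/SB/d4r2.md`.
-/

set_option autoImplicit false
set_option linter.unusedSectionVars false
set_option maxHeartbeats 200000

namespace Cfsg.Agent.SB.D4

open QuadraticMap Module Cfsg.Agent.LieClassical.OrthCore Cfsg.Agent.LieClassical.OrthTrans
  Cfsg.Agent.ClassicalGeometry.OrthSemi Cfsg.Agent.ClassicalGeometry.TrialityOct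
  Cfsg.Agent.ClassicalGeometry.Triality Cfsg.Agent.H989.OutOrth.Basic

variable {F : Type} [Field F] [Fintype F]

/-- eigenspaces -/
def Eg (a : E8 F) (e : F) : Submodule F (V8 F) := LinearMap.ker (a.1.toLinearMap - e • LinearMap.id)

theorem mem_Eg {a : E8 F} {e : F} {v : V8 F} : v ∈ Eg a e ↔ a.1 v = e • v := by
  simp only [Eg, LinearMap.mem_ker, LinearMap.sub_apply, sub_eq_zero]
  rfl

theorem e8_mul (a b : E8 F) (v : V8 F) : (a * b).1 v = a.1 (b.1 v) := rfl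

theorem e8_invol {a : E8 F} (ha : a * a = 1) (v : V8 F) : a.1 (a.1 v) = v := by
  rw [← e8_mul, ha]; rfl

theorem e8_comm {a b : E8 F} (h : a * b = b * a) (v : V8 F) : a.1 (b.1 v) = b.1 (a.1 v) := by
  rw [← e8_mul, h]; rfl

theorem e8_ext {a b : E8 F} (h : ∀ v, a.1 v = b.1 v) : a = b := Subtype.ext (LinearEquiv.ext h)

theorem sq_cases {e : F} (he : e * e = 1) : e = 1 ∨ e = -1 := mul_self_eq_one_iff.1 he

theorem eig_sq {a : E8 F} {v : V8 F} {e : F} (hv : Q8 F v ≠ 0) (h : a.1 v = e • v) : e * e = 1 := by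
  have h1 := mem_O.1 (E_le_O a.2) v
  rw [h, QuadraticMap.map_smul, smul_eq_mul] at h1
  exact mul_right_cancel₀ hv (h1.trans (one_mul _).symm)

section eig

variable (h2 : (2 : F) ≠ 0) {a : E8 F} {e : F}
include h2

theorem Eg_orth (he : e * e = 1) {x y : V8 F} (hx : x ∈ Eg a e) (hy : y ∈ Eg a (-e)) : polar (Q8 F) x y = 0 := by
  have h1 := polar_map (E_le_O a.2) x y
  rw [mem_Eg.1 hx, mem_Eg.1 hy, polar_smul_left, polar_smul_right, smul_eq_mul, smul_eq_mul] at h1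
  exact (mul_eq_zero.1 (show 2 * polar (Q8 F) x y = 0 by
    linear_combination -h1 - polar (Q8 F) x y * he)).resolve_left h2

theorem Eg_split (ha : a * a = 1) (he : e * e = 1) {U : Submodule F (V8 F)} (hU : ∀ v ∈ U, a.1 v ∈ U) {v : V8 F}
    (hv : v ∈ U) : ∃ x ∈ U ⊓ Eg a e, ∃ y ∈ U ⊓ Eg a (-e), v = x + y := by
  refine ⟨(2 : F)⁻¹ • (v + e • a.1 v), ⟨U.smul_mem _ (add_mem hv (U.smul_mem _ (hU v hv))), mem_Eg.2 ?_⟩,
    (2 : F)⁻¹ • (v - e • a.1 v), ⟨U.smul_mem _ (sub_mem hv (U.smul_mem _ (hU v hv))), mem_Eg.2 ?_⟩, ?_⟩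
  · rw [map_smul, map_add, map_smul, e8_invol ha]
    match_scalars
    · linear_combination -(2 : F)⁻¹ * he
    · ring
  · rw [map_smul, map_sub, map_smul, e8_invol ha]
    match_scalars
    · linear_combination -(2 : F)⁻¹ * he
    · ring
  · match_scalars
    · field_simp
      ring
    · ring

theorem Nd.inf_Eg (ha : a * a = 1) (he : e * e = 1) {U : Submodule F (V8 F)} (h : Nd (Q8 F) U)
    (hU : ∀ v ∈ U, a.1 v ∈ U) : Nd (Q8 F) (U ⊓ Eg a e) := fun x hx h1 => h x hx.1 fun v hv => by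
  obtain ⟨y, hy, z, hz, rfl⟩ := Eg_split h2 ha he hU hv
  rw [polar_add_right, h1 y hy, Eg_orth h2 he hx.2 hz.2, add_zero]

theorem Eg_nd (ha : a * a = 1) (he : e * e = 1) : Nd (Q8 F) (Eg a e) := by
  simpa using (nd_top nondeg8').inf_Eg h2 ha he fun _ _ => trivial

theorem Eg_sup (ha : a * a = 1) (he : e * e = 1) : Eg a e ⊔ Eg a (-e) = ⊤ := eq_top_iff.2 fun v _ => by
  obtain ⟨y, hy, z, hz, rfl⟩ := Eg_split h2 ha he (U := ⊤) (fun _ _ => trivial) (v := v) trivial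
  exact add_mem (Submodule.mem_sup_left hy.2) (Submodule.mem_sup_right hz.2)

theorem Eg_inf (ha : a * a = 1) (he : e * e = 1) : Eg a e ⊓ Eg a (-e) = ⊥ := eq_bot_iff.2 fun x hx =>
  Eg_nd h2 ha he x hx.1 fun _ hy => (polar_comm _ _ _).trans (Eg_orth h2 he hy hx.2)

theorem Eg_dim (ha : a * a = 1) (he : e * e = 1) : finrank F (Eg a e) + finrank F (Eg a (-e)) = 8 := by
  have h1 := Submodule.finrank_sup_add_finrank_inf_eq (Eg a e) (Eg a (-e))
  rw [Eg_sup h2 ha he, Eg_inf h2 ha he, finrank_top, finrank_bot, finrank8] at h1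
  omega

theorem Eg_ext (ha : a * a = 1) (he : e * e = 1) {f g : V8 F →ₗ[F] V8 F} (h1 : ∀ x ∈ Eg a e, f x = g x)
    (h1' : ∀ x ∈ Eg a (-e), f x = g x) (v : V8 F) : f v = g v := by
  obtain ⟨y, hy, z, hz, rfl⟩ := Eg_split h2 ha he (U := ⊤) (fun _ _ => trivial) (v := v) trivial
  rw [map_add, map_add, h1 y hy.2, h1' z hz.2]

theorem sc_of_Eg (ha : a * a = 1) (he : e * e = 1) {g : E8 F} {d : F} (h1 : ∀ x ∈ Eg a e, g.1 x = d • x)
    (h1' : ∀ x ∈ Eg a (-e), g.1 x = d • x) : Sc g d := fun v => by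
  obtain ⟨y, hy, z, hz, rfl⟩ := Eg_split h2 ha he (U := ⊤) (fun _ _ => trivial) (v := v) trivial
  rw [map_add, h1 y hy.2, h1' z hz.2, smul_add]

theorem Eg_ne_bot (ha : a * a = 1) (hn : ¬ ∃ d, Sc a d) (he : e * e = 1) : Eg a e ≠ ⊥ := fun h0 => by
  have h1 := Eg_sup h2 ha he
  rw [h0, bot_sup_eq] at h1
  exact hn ⟨-e, fun x => mem_Eg.1 (h1 ▸ Submodule.mem_top)⟩

theorem exists_eig (ha : a * a = 1) : ∃ (u : V8 F) (d : F), Q8 F u ≠ 0 ∧ a.1 u = d • u := by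
  by_cases hn : ∃ d, Sc a d
  · obtain ⟨d, hd⟩ := hn
    exact ⟨one8 F, d, by rw [norm_one8]; exact one_ne_zero, hd _⟩
  · obtain ⟨u, hu, hu'⟩ := (Eg_nd h2 ha (one_mul 1)).exists_nonsing (Eg_ne_bot h2 ha hn (one_mul 1))
    exact ⟨u, 1, hu', mem_Eg.1 hu⟩

end eig

/-- joint eigenspaces containing a nonsingular vector have the same dimension -/
theorem EQ {ι : Type*} {a b c : ι → E8 F} (h : ∀ i, T3 (a i) (b i) (c i)) {x x' y : ι → F} {z z' u : V8 F}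
    (hz : Q8 F z ≠ 0) (hz' : Q8 F z' ≠ 0) (hu : Q8 F u ≠ 0) (hx : ∀ i, (a i).1 z = x i • z)
    (hx' : ∀ i, (a i).1 z' = x' i • z') (hy : ∀ i, (b i).1 u = y i • u) :
    ∃ φ : V8 F →ₗ[F] V8 F, Function.Injective φ ∧
      ∀ v, (∀ i, (a i).1 v = x i • v) → ∀ i, (a i).1 (φ v) = x' i • φ v := by
  refine ⟨pl u ∘ₗ pl z' ∘ₗ pr z ∘ₗ pr u,
    (pl_injective hu).comp ((pl_injective hz').comp ((pr_injective hz).comp (pr_injective hu))), fun v hv i => ?_⟩
  show (a i).1 (pm u (pm z' (pm (pm v u) z))) = x' i • pm u (pm z' (pm (pm v u) z))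
  rw [h i, (h i).rot.rot, (h i).rot, (h i).rot.rot, hx, hx', hy, hv]
  simp only [smul_pm, pm_smul, smul_smul]
  congr 1
  linear_combination x' i * (y i * y i) * eig_sq hz (hx i) + x' i * eig_sq hu (hy i)

theorem EQ_le {ι : Type*} {a b c : ι → E8 F} (h : ∀ i, T3 (a i) (b i) (c i)) {x x' y : ι → F} {z z' u : V8 F}
    (hz : Q8 F z ≠ 0) (hz' : Q8 F z' ≠ 0) (hu : Q8 F u ≠ 0) (hx : ∀ i, (a i).1 z = x i • z)
    (hx' : ∀ i, (a i).1 z' = x' i • z') (hy : ∀ i, (b i).1 u = y i • u) {U U' : Submodule F (V8 F)}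
    (hU : ∀ v ∈ U, ∀ i, (a i).1 v = x i • v) (hU' : ∀ v, (∀ i, (a i).1 v = x' i • v) → v ∈ U') :
    finrank F U ≤ finrank F U' := by
  obtain ⟨φ, h1, h2⟩ := EQ h hz hz' hu hx hx' hy
  rw [(Submodule.equivMapOfInjective φ h1 U).finrank_eq]
  refine Submodule.finrank_mono ?_
  rintro _ ⟨v, hv, rfl⟩
  exact hU' _ (h2 v (hU v hv))

theorem T3.nsc {a b c : E8 F} (h : T3 a b c) (hn : ¬ ∃ d, Sc a d) : ¬ ∃ d, Sc b d := fun ⟨_, hd⟩ =>
  let ⟨_, d', _, h1, _⟩ := h.rot.sc hd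
  hn ⟨d', h1⟩

/-- `4 + 4` -/
theorem Z1_dim (h2 : (2 : F) ≠ 0) {a b c : E8 F} (h : T3 a b c) (ha : a * a = 1) (hb : b * b = 1)
    (hn : ¬ ∃ d, Sc a d) {e : F} (he : e * e = 1) : finrank F (Eg a e) = 4 := by
  obtain ⟨u, d, hu, hd⟩ := exists_eig h2 hb
  have key : ∀ e : F, e * e = 1 → finrank F (Eg a e) ≤ finrank F (Eg a (-e)) := fun e he => by
    have he' : -e * -e = 1 := by rwa [neg_mul_neg]
    obtain ⟨z, hz, hz'⟩ := (Eg_nd h2 ha he).exists_nonsing (Eg_ne_bot h2 ha hn he)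
    obtain ⟨w, hw, hw'⟩ := (Eg_nd h2 ha he').exists_nonsing (Eg_ne_bot h2 ha hn he')
    exact EQ_le (ι := Unit) (fun _ => h) (x := fun _ => e) (x' := fun _ => -e) (y := fun _ => d) hz' hw' hu
      (fun _ => mem_Eg.1 hz) (fun _ => mem_Eg.1 hw) (fun _ => hd) (fun _ hv _ => mem_Eg.1 hv)
      fun _ hv => mem_Eg.2 (hv ())
  have h1 := key e he
  have h3 := key (-e) (by rwa [neg_mul_neg])
  have h4 := Eg_dim h2 ha he
  rw [neg_neg] at h3
  omega

/-- both eigenspaces are of plus type -/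
theorem Z1_ts (h2 : (2 : F) ≠ 0) {a b c : E8 F} (h : T3 a b c) (ha : a * a = 1) (hb : b * b = 1) (hc : c * c = 1)
    (hn : ¬ ∃ d, Sc a d) {e : F} (he : e * e = 1) : HasTS (Q8 F) (Eg a e) := by
  have hb4 := Z1_dim h2 h.rot hb hc (h.nsc hn) (one_mul 1)
  have hc4 := Z1_dim h2 h.rot.rot hc ha (h.rot.nsc (h.nsc hn)) he
  obtain ⟨x, hx, hx0, hx1⟩ := LieClassical.OrthFinite.exists_sing_mem (Q := Q8 F) (Eg b 1) (by omega)
  refine hasTS_of_le (U := (Eg c e).map (pl x)) ?_ ?_ ?_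
  · rintro _ ⟨y, hy, rfl⟩
    rw [mem_Eg, pl_apply, h, mem_Eg.1 hx, mem_Eg.1 hy, one_smul, pm_smul]
  · rintro _ ⟨y, -, rfl⟩
    rw [pl_apply, norm_pm, hx1, zero_mul]
  · have h1 := ((pl x).domRestrict (Eg c e)).finrank_range_add_finrank_ker
    rw [LinearMap.range_domRestrict, LinearMap.ker_domRestrict, ← Submodule.finrank_map_subtype_eq,
      Submodule.map_comap_subtype] at h1
    have h3 := (Eg_nd h2 hc he).two_mul_le (U := Eg c e ⊓ LinearMap.ker (pl x)) inf_le_left fun y hy z hz =>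
      polar_of_ts (fun w hw => by
        have h4 := pm_pm_right w x
        rw [show pm x w = 0 from hw.2, pm_zero] at h4
        exact (smul_eq_zero.1 h4.symm).resolve_right hx0) hy hz
    omega

theorem Z1 (h2 : (2 : F) ≠ 0) {a b c : E8 F} (h : T3 a b c) (ha : a * a = 1) (hb : b * b = 1) (hc : c * c = 1)
    (hn : ¬ ∃ d, Sc a d) : (∀ e : F, e * e = 1 → finrank F (Eg a e) = 4 ∧ HasTS (Q8 F) (Eg a e)) ∧
      (¬ ∃ d, Sc b d) ∧ ¬ ∃ d, Sc c d :=
  ⟨fun _ he => ⟨Z1_dim h2 h ha hb hn he, Z1_ts h2 h ha hb hc hn he⟩, h.nsc hn, h.rot.nsc (h.nsc hn)⟩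

/-! ### products of four reflections -/

theorem Nd.exists_orth {V : Type} [AddCommGroup V] [Module F V] [FiniteDimensional F V] {Q : QuadraticForm F V}
    (h2 : (2 : F) ≠ 0) {W : Submodule F V} (h : Nd Q W) {n : ℕ} (hn : finrank F W = n) :
    ∃ u : Fin n → V, (∀ i, u i ∈ W) ∧ (∀ i, Q (u i) ≠ 0) ∧ (∀ i j, i ≠ j → polar Q (u i) (u j) = 0) ∧
      ∀ w ∈ W, ∃ c : Fin n → F, w = ∑ i, c i • u i := by
  subst hn
  have := invertibleOfNonzero h2
  obtain ⟨v, hv⟩ := LinearMap.BilinForm.exists_orthogonal_basis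
    (B := (polarBilin Q).compl₁₂ W.subtype W.subtype) ⟨fun x y => polar_comm _ _ _⟩
  have h1 : ∀ i j, i ≠ j → polar Q (v i : V) (v j : V) = 0 := fun i j hij => hv hij
  have h3 : ∀ w ∈ W, ∃ c : Fin (finrank F W) → F, w = ∑ i, c i • (v i : V) := fun w hw =>
    ⟨v.repr ⟨w, hw⟩, by
      have h4 := congrArg Subtype.val (v.sum_repr ⟨w, hw⟩).symm
      rw [Submodule.coe_sum] at h4
      exact h4⟩
  refine ⟨fun i => v i, fun i => (v i).2, fun i h0 => v.ne_zero i (Subtype.ext (h _ (v i).2 fun w hw => ?_)), h1, h3⟩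
  obtain ⟨c, rfl⟩ := h3 w hw
  show polarBilin Q _ _ = 0
  rw [map_sum]
  refine Finset.sum_eq_zero fun j _ => ?_
  rw [map_smul, polarBilin_apply_apply]
  by_cases hij : i = j
  · rw [← hij, polar_self_of_sing h0, smul_zero]
  · rw [h1 i j hij, smul_zero]

/-- `- Q v` times the reflection in `v` -/
def srf (v : V8 F) : V8 F →ₗ[F] V8 F := (polarBilin (Q8 F) v).smulRight v - Q8 F v • LinearMap.id

theorem srf_apply (v w : V8 F) : srf v w = polar (Q8 F) v w • v - Q8 F v • w := rfl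

theorem srf_perp {v w : V8 F} (h : polar (Q8 F) v w = 0) : srf v w = - Q8 F v • w := by
  rw [srf_apply, h, zero_smul, zero_sub, neg_smul]

theorem srf_self (v : V8 F) : srf v v = Q8 F v • v := by
  rw [srf_apply, polar_self']; module

theorem srf_pm (v x y : V8 F) : srf v (pm x y) = pm (pm y v) (pm v x) := by
  have h1 := pm_lin_left y (pm v x) v
  rw [pm_pm_left, smul_pm, ← polar_pm, polar_comm, ← polar_pm, polar_comm] at h1
  rw [srf_apply, ← h1, add_sub_cancel_right]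

theorem pm_LR {p q : V8 F} (h : polar (Q8 F) p q = 0) (y : V8 F) : pm q (pm y p) = - pm p (pm y q) := by
  have h1 := pm_lin_right p q y
  rw [h, zero_smul] at h1
  exact eq_neg_of_add_eq_zero_right h1

theorem pm_RL {p q : V8 F} (h : polar (Q8 F) p q = 0) (y : V8 F) : pm (pm p y) q = - pm (pm q y) p := by
  have h1 := pm_lin_left p q y
  rw [h, zero_smul] at h1
  exact eq_neg_of_add_eq_zero_left h1

theorem cliff4 {p q r s : V8 F} (pq : polar (Q8 F) p q = 0) (pr : polar (Q8 F) p r = 0) (ps : polar (Q8 F) p s = 0)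
    (qr : polar (Q8 F) q r = 0) (qs : polar (Q8 F) q s = 0) (rs : polar (Q8 F) r s = 0) (x : V8 F) :
    pm (pm q (pm (pm s (pm (pm q (pm (pm s x) r)) p)) r)) p = (Q8 F p * Q8 F q * Q8 F r * Q8 F s) • x := by
  rw [pm_LR ps, neg_pm, pm_RL pr, neg_neg, pm_LR pq, neg_pm, pm_pm_left, pm_RL qs, pm_neg, pm_LR qr, neg_neg,
    pm_pm_left, pm_LR rs, neg_pm, pm_pm_left, pm_pm_left]
  simp only [smul_neg, neg_neg, smul_smul, mul_assoc]

theorem srf4 (h2 : (2 : F) ≠ 0) {a : E8 F} (ha : a * a = 1) {u : Fin 4 → V8 F} (hu : ∀ i, u i ∈ Eg a (-1))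
    (ho : ∀ i j, i ≠ j → polar (Q8 F) (u i) (u j) = 0) (hs : ∀ w ∈ Eg a (-1), ∃ c : Fin 4 → F, w = ∑ i, c i • u i)
    (v : V8 F) : srf (u 0) (srf (u 1) (srf (u 2) (srf (u 3) v))) =
      (Q8 F (u 0) * Q8 F (u 1) * Q8 F (u 2) * Q8 F (u 3)) • a.1 v := by
  obtain ⟨y, hy, z, hz, rfl⟩ := Eg_split h2 ha (one_mul 1) (U := ⊤) (fun _ _ => trivial) (v := v) trivial
  obtain ⟨t, rfl⟩ := hs z hz.2
  have h3 : ∀ i, srf (u i) y = - Q8 F (u i) • y := fun i =>
    srf_perp ((polar_comm _ _ _).trans (Eg_orth h2 (one_mul 1) hy.2 (hu i)))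
  have h4 : ∀ i j, i ≠ j → srf (u i) (u j) = - Q8 F (u i) • u j := fun i j hij => srf_perp (ho i j hij)
  rw [Fin.sum_univ_four]
  simp only [map_add, map_smul, h3, srf_self, h4 0 1 (by decide), h4 0 2 (by decide), h4 0 3 (by decide),
    h4 1 0 (by decide), h4 1 2 (by decide), h4 1 3 (by decide), h4 2 0 (by decide), h4 2 1 (by decide),
    h4 2 3 (by decide), h4 3 0 (by decide), h4 3 1 (by decide), h4 3 2 (by decide), mem_Eg.1 hy.2, mem_Eg.1 (hu _)]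
  module

theorem exists_gl {f : V8 F →ₗ[F] V8 F} (hf : Function.Injective f) : ∃ j : GL8 F, ∀ x, j x = f x :=
  ⟨LinearEquiv.ofInjectiveEndo f hf, fun _ => rfl⟩

theorem T3.sq_third {a b c : E8 F} (h : T3 a b c) (ha : a * a = 1) (hb : b * b = 1) : c * c = 1 := by
  obtain ⟨d, d', k1, k2, k3⟩ := (h.mul h).sc (e := 1) (by rw [ha]; exact Sc.one)
  rw [k1.unique (e' := 1) (by rw [hb]; exact Sc.one), one_mul] at k3
  rw [← k3] at k2
  exact k2.eq_one

/-- a `4 + 4` involution has involutory triality partners -/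
theorem Z2 (h2 : (2 : F) ≠ 0) {a b c : E8 F} (h : T3 a b c) (ha : a * a = 1) (h4 : finrank F (Eg a (-1)) = 4) :
    b * b = 1 ∧ c * c = 1 := by
  obtain ⟨u, hu, hQ, ho, hs⟩ := (Eg_nd h2 ha (e := -1) (by ring)).exists_orth h2 h4
  have h1 := srf4 h2 ha hu ho hs
  have h7 := cliff4 (ho 0 1 (by decide)) (ho 0 2 (by decide)) (ho 0 3 (by decide)) (ho 1 2 (by decide))
    (ho 1 3 (by decide)) (ho 2 3 (by decide))
  have hp := hQ 0
  have hq := hQ 1
  have hr := hQ 2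
  have ht := hQ 3
  generalize u 0 = p, u 1 = q, u 2 = r, u 3 = t at *
  obtain ⟨D, hD⟩ : ∃ D, D = Q8 F p * Q8 F q * Q8 F r * Q8 F t := ⟨_, rfl⟩
  have hD0 : D ≠ 0 := hD ▸ mul_ne_zero (mul_ne_zero (mul_ne_zero hp hq) hr) ht
  rw [← hD] at h1 h7
  obtain ⟨j, hj⟩ := exists_gl (f := pr p ∘ₗ pl q ∘ₗ pr r ∘ₗ pl t)
    ((pr_injective hp).comp ((pl_injective hq).comp ((pr_injective hr).comp (pl_injective ht))))
  obtain ⟨j', hj'⟩ := exists_gl (f := pl p ∘ₗ pr q ∘ₗ pl r ∘ₗ pr t)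
    ((pl_injective hp).comp ((pr_injective hq).comp ((pl_injective hr).comp (pr_injective ht))))
  simp only [LinearMap.comp_apply, pl_apply, pr_apply] at hj hj'
  have h3 : Tr a.1 j (LinearEquiv.smulOfNeZero F (V8 F) D⁻¹ (inv_ne_zero hD0) * j') := fun x y => by
    have h5 := h1 (pm x y)
    rw [srf_pm, srf_pm, srf_pm, srf_pm] at h5
    rw [LinearEquiv.mul_apply, LinearEquiv.smulOfNeZero_apply, pm_smul, hj, hj', h5, smul_smul, inv_mul_cancel₀ hD0,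
      one_smul]
  obtain ⟨e, he, h5, -⟩ := Tr.unique h h3
  have h6 : e * e = D := by
    have h8 := congrArg (Q8 F) (h5 (one8 F))
    rw [hj, QuadraticMap.map_smul, mem_O.1 (E_le_O b.2), norm_pm, norm_pm, norm_pm, norm_pm, norm_one8,
      smul_eq_mul] at h8
    linear_combination -h8 - hD
  have hb : b * b = 1 := e8_ext fun x => by
    have h8 := h7 x
    rw [← hj, ← hj, h5, h5, map_smul, smul_smul, h6] at h8
    exact smul_right_injective _ hD0 h8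
  exact ⟨hb, h.sq_third ha hb⟩

theorem not_neg (h2 : (2 : F) ≠ 0) {b : E8 F} (hb : Sc b (-1)) : b ≠ 1 := fun h1 =>
  h2 (by linear_combination (h1 ▸ Sc.one : Sc b 1).unique hb)

/-- `a` and `a'` commute up to a scalar -/
def Pc (a a' : E8 F) : Prop := ∃ e, Sc (a * a' * (a' * a)⁻¹) e

theorem Pc.apply {a a' : E8 F} (h : Pc a a') : ∃ e : F, e * e = 1 ∧ ∀ x, a.1 (a'.1 x) = e • a'.1 (a.1 x) := by
  obtain ⟨e, he⟩ := h
  refine ⟨e, he.sq, fun x => ?_⟩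
  have h1 := he ((a' * a).1 x)
  rwa [← e8_mul, inv_mul_cancel_right] at h1

theorem Pc.symm {a a' : E8 F} (h : Pc a a') : Pc a' a := by
  obtain ⟨e, he⟩ := h
  refine ⟨e, fun x => ?_⟩
  have h1 : a' * a * (a * a')⁻¹ = (a * a' * (a' * a)⁻¹)⁻¹ := by group
  rw [h1]
  apply (a * a' * (a' * a)⁻¹).1.injective
  rw [← e8_mul, mul_inv_cancel, he, smul_smul, he.sq, one_smul]
  rfl

theorem T3.cmm {a b c a' b' c' : E8 F} (h : T3 a b c) (h' : T3 a' b' c') :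
    T3 (a * a' * (a' * a)⁻¹) (b * b' * (b' * b)⁻¹) (c * c' * (c' * c)⁻¹) := (h.mul h').mul (h'.mul h).inv

theorem Pc.rot {a b c a' b' c' : E8 F} (h : T3 a b c) (h' : T3 a' b' c') (hp : Pc a a') : Pc b b' ∧ Pc c c' := by
  obtain ⟨e, he⟩ := hp
  obtain ⟨d, d', h1, h2, -⟩ := (h.cmm h').sc he
  exact ⟨⟨d, h1⟩, d', h2⟩

theorem T3.comm {a b c a' b' c' : E8 F} (h : T3 a b c) (h' : T3 a' b' c') (hb : b * b' = b' * b)
    (hc : c * c' = c' * c) : a * a' = a' * a := by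
  obtain ⟨d, d', h1, h2, h3⟩ := (h.cmm h').rot.sc (e := 1) (by rw [hb, mul_inv_cancel]; exact Sc.one)
  rw [h1.unique (e' := 1) (by rw [hc, mul_inv_cancel]; exact Sc.one), one_mul] at h3
  exact mul_inv_eq_one.1 (Sc.eq_one (h3 ▸ h2))

theorem L1 (h2 : (2 : F) ≠ 0) {a b c a' : E8 F} (h : T3 a b c) (ha : a * a = 1) (hb : Sc (b * b) (-1))
    (hp : Pc a a') : a * a' = a' * a := by
  obtain ⟨e, he, h1⟩ := hp.apply
  rcases sq_cases he with rfl | rfl
  · exact e8_ext fun x => (h1 x).trans (one_smul F _)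
  have key : ∀ d : F, finrank F (Eg a d) ≤ finrank F (Eg a (-d)) := fun d => by
    rw [← LinearEquiv.finrank_map_eq a'.1]
    refine Submodule.finrank_mono ?_
    rintro _ ⟨v, hv, rfl⟩
    rw [mem_Eg, LinearEquiv.coe_coe, h1, mem_Eg.1 hv, map_smul, smul_smul, neg_one_mul]
  have h3 := key 1
  have h4 := key (-1)
  have h5 := Eg_dim h2 ha (one_mul 1)
  rw [neg_neg] at h4
  exact (not_neg h2 hb (Z2 h2 h ha (by omega)).1).elim

theorem Nd.even_J (h2 : (2 : F) ≠ 0) {J : E8 F} (hJ : Sc (J * J) (-1)) {U : Submodule F (V8 F)} (h : Nd (Q8 F) U)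
    (hU : ∀ v ∈ U, J.1 v ∈ U) : Even (finrank F U) := by
  refine h.even (s := J.1.toLinearMap) hU (fun x _ => ?_) fun x _ hx => J.1.map_eq_zero_iff.1 hx
  have h1 := polar_map (E_le_O J.2) x (J.1 x)
  rw [← e8_mul, hJ, polar_smul_right, polar_comm, smul_eq_mul] at h1
  exact (mul_eq_zero.1 (show 2 * polar (Q8 F) x (J.1 x) = 0 by linear_combination -h1)).resolve_left h2

theorem Eg_comm {a J : E8 F} (h : a * J = J * a) {e : F} {v : V8 F} (hv : v ∈ Eg a e) : J.1 v ∈ Eg a e := by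
  rw [mem_Eg, e8_comm h, mem_Eg.1 hv, map_smul]

/-- `2 + 6` -/
theorem exists_two (h2 : (2 : F) ≠ 0) {a b c J : E8 F} (h : T3 a b c) (ha : a * a = 1) (hb : Sc (b * b) (-1))
    (hJ : Sc (J * J) (-1)) (hc : a * J = J * a) :
    ∃ e : F, e * e = 1 ∧ finrank F (Eg a e) = 2 ∧ finrank F (Eg a (-e)) = 6 := by
  have hn : ¬ ∃ d, Sc a d := fun ⟨d, hd⟩ => by
    obtain ⟨d, -, h1, -, -⟩ := h.sc hd
    exact not_neg h2 hb (Sc.eq_one (h1.sq ▸ h1.mul h1))
  have h1 := Eg_dim h2 ha (one_mul 1)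
  obtain ⟨k, hk⟩ := (Eg_nd h2 ha (one_mul 1)).even_J h2 hJ fun _ => Eg_comm hc
  have h3 := Submodule.finrank_eq_zero.not.2 (Eg_ne_bot h2 ha hn (one_mul 1))
  have h4 := Submodule.finrank_eq_zero.not.2 (Eg_ne_bot h2 ha hn (e := -1) (by ring))
  have h5 : finrank F (Eg a (-1)) ≠ 4 := fun h6 => not_neg h2 hb (Z2 h2 h ha h6).1
  by_cases h6 : finrank F (Eg a 1) = 2
  · exact ⟨1, one_mul 1, h6, by omega⟩
  · exact ⟨-1, by ring, by omega, by rw [neg_neg]; omega⟩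

theorem L3 (h2 : (2 : F) ≠ 0) {a b c a' b' c' J : E8 F} (h : T3 a b c) (h' : T3 a' b' c') (ha : a * a = 1)
    (ha' : a' * a' = 1) (hb : Sc (b * b) (-1)) (hb' : Sc (b' * b') (-1)) (hc : a * a' = a' * a)
    (hJ : Sc (J * J) (-1)) (hc1 : a * J = J * a) (hc2 : a' * J = J * a') : b * b' = b' * b := by
  obtain ⟨e, he, h3, h4⟩ := exists_two h2 h ha hb hJ hc1
  obtain ⟨e', he', h3', h4'⟩ := exists_two h2 h' ha' hb' hJ hc2
  obtain ⟨k, hk⟩ := ((Eg_nd h2 ha he).inf_Eg h2 ha' he' fun _ => Eg_comm hc).even_J h2 hJ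
    fun _ hv => ⟨Eg_comm hc1 hv.1, Eg_comm hc2 hv.2⟩
  have h5 := Submodule.finrank_mono (inf_le_left : Eg a e ⊓ Eg a' e' ≤ _)
  by_cases h0 : finrank F ↥(Eg a e ⊓ Eg a' e') = 2
  · have h6 := Submodule.eq_of_le_of_finrank_eq (inf_le_left : Eg a e ⊓ Eg a' e' ≤ _) (h0.trans h3.symm)
    have h7 := Submodule.eq_of_le_of_finrank_eq (inf_le_right : Eg a e ⊓ Eg a' e' ≤ _) (h0.trans h3'.symm)
    have h8 : Sc (a * a') (e * e') := sc_of_Eg h2 ha he
      (fun x hx => by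
        rw [e8_mul, mem_Eg.1 (h7 ▸ h6.symm ▸ hx : x ∈ Eg a' e'), map_smul, mem_Eg.1 hx, smul_smul, mul_comm])
      fun x hx => by
        obtain ⟨y, hy, z, hz, rfl⟩ := Eg_split h2 ha' he' (fun _ => Eg_comm hc) hx
        have h9 : y ∈ Eg a e ⊓ Eg a (-e) := ⟨h6 ▸ h7.symm ▸ hy.2, hy.1⟩
        rw [Eg_inf h2 ha he, Submodule.mem_bot] at h9
        rw [h9, zero_add, e8_mul, mem_Eg.1 hz.2, map_smul, mem_Eg.1 hz.1, smul_smul, neg_mul_neg, mul_comm]
    obtain ⟨d, -, h9, -, -⟩ := (h.mul h').sc h8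
    refine e8_ext fun x => b.1.injective ?_
    rw [h9, map_smul, e8_mul, ← e8_mul b b', h9]
  · have h6 : Eg a e ⊓ Eg a' e' = ⊥ := Submodule.finrank_eq_zero.1 (by omega)
    have haa : a * a' * (a * a') = 1 := by rw [mul_assoc, ← mul_assoc a', ← hc, mul_assoc, ha', mul_one, ha]
    have hee : e * e' * (e * e') = 1 := by linear_combination e' * e' * he + he'
    have h7 : Eg a (-e) ⊓ Eg a' (-e') ≤ Eg (a * a') (e * e') := fun x hx => by
      rw [mem_Eg, e8_mul, mem_Eg.1 hx.2, map_smul, mem_Eg.1 hx.1, smul_smul, neg_mul_neg, mul_comm]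
    have h8 : Eg a e ⊔ Eg a' e' ≤ Eg (a * a') (-(e * e')) := sup_le (fun x hx => by
      obtain ⟨y, hy, z, hz, rfl⟩ := Eg_split h2 ha' he' (fun _ => Eg_comm hc) hx
      rw [h6, Submodule.mem_bot] at hy
      rw [hy, zero_add, mem_Eg, e8_mul, mem_Eg.1 hz.2, map_smul, mem_Eg.1 hz.1, smul_smul, neg_mul, mul_comm])
      fun x hx => by
        obtain ⟨y, hy, z, hz, rfl⟩ := Eg_split h2 ha he (fun _ => Eg_comm hc.symm) hx
        rw [inf_comm, h6, Submodule.mem_bot] at hy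
        rw [hy, zero_add, mem_Eg, e8_mul, mem_Eg.1 hz.1, map_smul, mem_Eg.1 hz.2, smul_smul, mul_neg, mul_comm]
    have k1 := Submodule.finrank_mono h7
    have k2 := Submodule.finrank_mono h8
    have k3 := Submodule.finrank_sup_add_finrank_inf_eq (Eg a e) (Eg a' e')
    have k4 := Submodule.finrank_sup_add_finrank_inf_eq (Eg a (-e)) (Eg a' (-e'))
    have k5 := (Eg a (-e) ⊔ Eg a' (-e')).finrank_le
    have k6 := Eg_dim h2 haa hee
    rw [h6, finrank_bot] at k3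
    rw [finrank8] at k5
    have k7 : finrank F (Eg (a * a') (-1)) = 4 := by
      rcases sq_cases hee with k | k
      · rw [← k]; omega
      · rw [← k]; omega
    have k8 := (Z2 h2 (h.mul h') haa k7).1
    refine e8_ext fun x => (b * b').1.injective ?_
    rw [← e8_mul, k8, e8_mul, e8_mul, ← e8_mul b' b', hb', map_smul, ← e8_mul, hb, smul_smul]
    simp

end Cfsg.Agent.SB.D4
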