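import Cfsg.Agent.SB.D4.Defs
import Cfsg.Agent.LieClassical.OrthFinite

/-!
# S5765, `PΩ₈⁺(q)`: the boxes `BoxSL2` and `BoxU2` (helper61)
-/

set_option autoImplicit false

namespace Cfsg.Agent.SB.D4

open QuadraticMap Module Cfsg.Agent.LieClassical.OrthCore Cfsg.Agent.LieClassical.OrthTrans
  Cfsg.Agent.ClassicalGeometry.OrthSemi Cfsg.Agent.ClassicalGeometry.OrthAut1 Cfsg.Agent.H989.OutOrth.Basic
open scoped commutatorElement

namespace GS

/-! ### matrix units -/

section units

variable {F R : Type*} [Field F] [Ring R] [Algebra F R]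

/-- the image of a `2 × 2` matrix -/
def Phi (N M : R) (a b c d : F) : R := 1 + (a - 1) • (N * M) + b • N + c • M + (d - 1) • (M * N)

theorem Phi_mul {N M : R} (hN : N * N = 0) (hM : M * M = 0) (h1 : N * (M * N) = N) (h2 : M * (N * M) = M)
    (a b c d a' b' c' d' : F) :
    Phi N M a b c d * Phi N M a' b' c' d' =
      Phi N M (a * a' + b * c') (a * b' + b * d') (c * a' + d * c') (c * b' + d * d') := by
  have hN' : ∀ x, N * (N * x) = 0 := fun x => by rw [← mul_assoc, hN, zero_mul]
  have hM' : ∀ x, M * (M * x) = 0 := fun x => by rw [← mul_assoc, hM, zero_mul]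
  simp only [Phi, mul_add, add_mul, one_mul, mul_one, smul_mul_assoc, mul_smul_comm, mul_assoc, hN, hM, hN', hM',
    h1, h2, mul_zero, smul_zero]
  module

end units

/-! ### two opposite root subgroups -/

section grp

variable {F G : Type*} [Field F] [Group G]

theorem comm_mem {u v : F → G} (hu : ∀ a b, u (a + b) = u a * u b) (hv : ∀ a b, v (a + b) = v a * v b)
    {t : F} (ht : t ≠ 0) (ht2 : t ^ 2 ≠ 1) {h : G} (hh : ∀ D : Subgroup G, (∀ c, u c ∈ D) → (∀ c, v c ∈ D) → h ∈ D)
    (e1 : ∀ c, h * u c = u (t ^ 2 * c) * h) (e2 : ∀ c, h * v (t ^ 2 * c) = v c * h)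
    (D : Subgroup G) (du : ∀ c, u c ∈ D) (dv : ∀ c, v c ∈ D) : (∀ c, u c ∈ ⁅D, D⁆) ∧ ∀ c, v c ∈ ⁅D, D⁆ := by
  have k : t ^ 2 - 1 ≠ 0 := sub_ne_zero.2 ht2
  constructor
  · intro c
    obtain ⟨b, rfl⟩ : ∃ b, c = (t ^ 2 - 1) * b := ⟨c / (t ^ 2 - 1), by field_simp⟩
    have h1 : u (t ^ 2 * b) = u ((t ^ 2 - 1) * b) * u b := by rw [← hu]; congr 1; ring
    have h2 : u ((t ^ 2 - 1) * b) = ⁅h, u b⁆ := by
      rw [commutatorElement_def, e1, h1]; group
    rw [h2]
    exact Subgroup.commutator_mem_commutator (hh D du dv) (du b)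
  · intro c
    obtain ⟨b, rfl⟩ : ∃ b, c = (t ^ 2 - 1) * b := ⟨c / (t ^ 2 - 1), by field_simp⟩
    have h1 : v (t ^ 2 * b) = v ((t ^ 2 - 1) * b) * v b := by rw [← hv]; congr 1; ring
    have h3 : v (t ^ 2 * b) = h⁻¹ * v b * h := by rw [mul_assoc, ← e2]; group
    have h2 : v ((t ^ 2 - 1) * b) = ⁅h⁻¹, v b⁆ := by
      rw [commutatorElement_def, inv_inv, ← h3, h1]; group
    rw [h2]
    exact Subgroup.commutator_mem_commutator (D.inv_mem (hh D du dv)) (dv b)

theorem triv_of_solv {u v : F → G} (H : Subgroup G) [hs : Group.IsSolvable H] (du : ∀ c, u c ∈ H) (dv : ∀ c, v c ∈ H)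
    (step : ∀ D : Subgroup G, (∀ c, u c ∈ D) → (∀ c, v c ∈ D) → (∀ c, u c ∈ ⁅D, D⁆) ∧ ∀ c, v c ∈ ⁅D, D⁆) (c : F) :
    u c = 1 := by
  have key : ∀ n, (∀ c, u c ∈ (derivedSeries H n).map H.subtype) ∧ ∀ c, v c ∈ (derivedSeries H n).map H.subtype := by
    intro n
    induction n with
    | zero => exact ⟨fun c => ⟨⟨_, du c⟩, trivial, rfl⟩, fun c => ⟨⟨_, dv c⟩, trivial, rfl⟩⟩
    | succ n ih =>
      rw [derivedSeries_succ, Subgroup.map_commutator]
      exact step _ ih.1 ih.2
  obtain ⟨n, hn⟩ := hs.solvable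
  have := (key n).1 c
  rwa [hn, Subgroup.map_bot, Subgroup.mem_bot] at this

end grp

theorem exists_t (F : Type*) [Field F] [Finite F] (h : 4 ≤ Nat.card F) : ∃ t : F, t ≠ 0 ∧ t ^ 2 ≠ 1 := by
  classical
  by_contra hc
  push Not at hc
  have := Fintype.ofFinite F
  have h1 : (Finset.univ : Finset F) ⊆ {0, 1, -1} := by
    intro t _
    by_cases ht : t = 0
    · simp [ht]
    · rcases sq_eq_one_iff.1 (hc t ht) with h | h <;> simp [h]
  have h2 := Finset.card_le_card h1
  have h3 : ({0, 1, -1} : Finset F).card ≤ 3 := Finset.card_le_three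
  rw [Finset.card_univ, ← Nat.card_eq_fintype_card] at h2
  omega

section sl2

variable {F V : Type} [Field F] [AddCommGroup V] [Module F V] {Q : QuadraticForm F V}

/-- the nilpotent part of a long root element -/
def nil (Q : QuadraticForm F V) (a b : V) : Module.End F V :=
  (polarBilin Q a).smulRight b - (polarBilin Q b).smulRight a

theorem nil_apply (a b x : V) : nil Q a b x = polar Q a x • b - polar Q b x • a := by
  simp only [nil, LinearMap.sub_apply, LinearMap.smulRight_apply, polarBilin_apply_apply]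

theorem nil_sq {a b : V} (ha : Q a = 0) (hb : Q b = 0) (hab : polar Q a b = 0) : nil Q a b * nil Q a b = 0 := by
  ext x
  have hba : polar Q b a = 0 := by rw [polar_comm]; exact hab
  simp only [Module.End.mul_apply, nil_apply, polar_sub_right, polar_smul_right, polar_self_of_sing ha,
    polar_self_of_sing hb, hab, hba, LinearMap.zero_apply, smul_zero, sub_zero, zero_smul]

theorem nil_nil_left (e e' f f' : V) :
    nil Q e e' (nil Q f f' e) = -(polar Q e f * polar Q e' f' - polar Q e f' * polar Q e' f) • e := by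
  simp only [nil_apply, polar_sub_right, polar_smul_right, smul_eq_mul, polar_comm Q f e, polar_comm Q f' e]
  module

theorem nil_nil_right (e e' f f' : V) :
    nil Q e e' (nil Q f f' e') = -(polar Q e f * polar Q e' f' - polar Q e f' * polar Q e' f) • e' := by
  simp only [nil_apply, polar_sub_right, polar_smul_right, smul_eq_mul, polar_comm Q f e', polar_comm Q f' e']
  module

theorem nil_three (e e' f f' : V) :
    nil Q e e' * (nil Q f f' * nil Q e e') =
      -(polar Q e f * polar Q e' f' - polar Q e f' * polar Q e' f) • nil Q e e' := by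
  ext x
  rw [Module.End.mul_apply, Module.End.mul_apply, LinearMap.smul_apply, nil_apply e e' x, map_sub, map_smul, map_smul,
    map_sub, map_smul, map_smul, nil_nil_left, nil_nil_right]
  module

/-- the underlying endomorphism -/
def rho (Q : QuadraticForm F V) : E Q →* Module.End F V where
  toFun g := (g.1 : V →ₗ[F] V)
  map_one' := rfl
  map_mul' _ _ := rfl

theorem rho_inj : Function.Injective (rho Q) := by
  intro g h e
  apply Subtype.ext
  ext x
  exact LinearMap.congr_fun e x

/-- a long root element -/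
def rt {a b : V} (ha : Q a = 0) (hab : polar Q a b = 0) (c : F) : E Q :=
  ⟨siegel Q a (c • b) ha (by rw [polar_smul_right, hab, smul_zero]), siegel_mem_E _ _⟩

theorem rho_rt {a b : V} (ha : Q a = 0) (hb : Q b = 0) (hab : polar Q a b = 0) (c : F) :
    rho Q (rt ha hab c) = 1 + c • nil Q a b := by
  ext x
  show siegelLin Q a (c • b) x = _
  rw [siegelLin_apply, LinearMap.add_apply, LinearMap.smul_apply, nil_apply, QuadraticMap.map_smul, hb, polar_smul_left,
    Module.End.one_apply]
  simp only [smul_eq_mul, mul_zero, zero_mul, zero_smul, sub_zero]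
  module

end sl2

end GS

open GS in
theorem boxSL2 : BoxSL2 := by
  intro F V _ _ _ _ _ Q H e e' f f' he hf _ h4 he' hf' hee hff hd hu hv hs
  obtain ⟨t, ht, ht2⟩ := exists_t F h4
  set d := polar Q e f * polar Q e' f' - polar Q e f' * polar Q e' f with hdd
  set N := nil Q e e' with hN
  set M := (-d)⁻¹ • nil Q f f' with hM
  have hd' : -d ≠ 0 := neg_ne_zero.2 hd
  have hNN : N * N = 0 := nil_sq he he' hee
  have hMM : M * M = 0 := by rw [hM, smul_mul_assoc, mul_smul_comm, nil_sq hf hf' hff, smul_zero, smul_zero]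
  have h1 : N * (M * N) = N := by
    rw [hM, smul_mul_assoc, mul_smul_comm, hN, nil_three, ← hdd, smul_smul, inv_mul_cancel₀ hd', one_smul]
  have h2 : M * (N * M) = M := by
    have hd2 : polar Q f e * polar Q f' e' - polar Q f e' * polar Q f' e = d := by
      rw [hdd, polar_comm Q f e, polar_comm Q f' e', polar_comm Q f e', polar_comm Q f' e]; ring
    rw [hM, smul_mul_assoc, mul_smul_comm, mul_smul_comm, hN, nil_three, hd2, smul_smul (-d)⁻¹ (-d),
      inv_mul_cancel₀ hd', one_smul]
  let u : F → E Q := fun c => rt he hee c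
  let v : F → E Q := fun c => rt hf hff (c * (-d)⁻¹)
  have ru : ∀ c, rho Q (u c) = Phi N M 1 c 0 1 := fun c => by
    rw [rho_rt he he' hee, Phi]; simp only [sub_self, zero_smul, add_zero]; rfl
  have rv : ∀ c, rho Q (v c) = Phi N M 1 0 c 1 := fun c => by
    rw [rho_rt hf hf' hff, Phi]; simp only [sub_self, zero_smul, add_zero]; rw [hM, smul_smul]
  have mul := @Phi_mul F _ _ _ _ N M hNN hMM h1 h2
  let h : E Q := u t * v (-t⁻¹) * u t * u (-1) * v 1 * u (-1)
  have rh : rho Q h = Phi N M t 0 0 t⁻¹ := by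
    simp only [h, map_mul, ru, rv, mul]
    congr 1 <;> field_simp <;> ring
  let π := QuotientGroup.mk' (Subgroup.center (E Q))
  have hu1 : π (u 1) = 1 := by
    refine triv_of_solv (u := fun c => π (u c)) (v := fun c => π (v c)) H (fun c => hu c _) (fun c => hv _ _) ?_ 1
    refine comm_mem (t := t) (h := π h) ?_ ?_ ht ht2 ?_ ?_ ?_
    · intro a b
      rw [← map_mul]
      congr 1
      apply rho_inj
      rw [map_mul, ru, ru, ru, mul]
      congr 1 <;> ring
    · intro a b
      rw [← map_mul]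
      congr 1
      apply rho_inj
      rw [map_mul, rv, rv, rv, mul]
      congr 1 <;> ring
    · intro D du dv
      simp only [h, map_mul]
      exact D.mul_mem (D.mul_mem (D.mul_mem (D.mul_mem (D.mul_mem (du _) (dv _)) (du _)) (du _)) (dv _)) (du _)
    · intro c
      rw [← map_mul π h, ← map_mul π _ h]
      congr 1
      apply rho_inj
      rw [map_mul (rho Q) h, map_mul (rho Q) _ h, rh, ru, ru, mul, mul]
      congr 1 <;> field_simp <;> ring
    · intro c
      rw [← map_mul π h, ← map_mul π _ h]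
      congr 1
      apply rho_inj
      rw [map_mul (rho Q) h, map_mul (rho Q) _ h, rh, rv, rv, mul, mul]
      congr 1 <;> field_simp <;> ring
  have hc : u 1 ∈ Subgroup.center (E Q) := (QuotientGroup.eq_one_iff _).1 hu1
  have h3 := congrArg (rho Q) (Subgroup.mem_center_iff.1 hc (v 1))
  rw [map_mul, map_mul, ru, rv, mul, mul] at h3
  have h4 : N * M = M * N := by
    simp only [Phi] at h3
    have h5 : N * M - M * N = (1 + (1 * 1 + 1 * 1 - 1 : F) • (N * M) + (1 * 0 + 1 * 1 : F) • N +
        (0 * 1 + 1 * 1 : F) • M + (0 * 0 + 1 * 1 - 1 : F) • (M * N)) -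
        (1 + (1 * 1 + 0 * 0 - 1 : F) • (N * M) + (1 * 1 + 0 * 1 : F) • N + (1 * 1 + 1 * 0 : F) • M +
          (1 * 1 + 1 * 1 - 1 : F) • (M * N)) := by module
    rw [← h3, sub_self] at h5
    exact sub_eq_zero.1 h5
  have h5 : N = 0 := by rw [← h1, ← mul_assoc, h4, mul_assoc, hNN, mul_zero]
  have h6 := nil_nil_left (Q := Q) e e' f f'
  rw [← hN, h5, ← hdd, LinearMap.zero_apply] at h6
  have h7 : e = 0 := (smul_eq_zero.1 h6.symm).resolve_left hd'
  apply hd
  rw [hdd, h7, polar_zero_left, polar_zero_left]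
  ring

namespace GS

section u2

variable {F V : Type} [Field F] [AddCommGroup V] [Module F V] {Q : QuadraticForm F V}

theorem exists_perp2 (W : Submodule F V) (h3 : 3 ≤ finrank F W) (a b : V) :
    ∃ z ∈ W, z ≠ 0 ∧ polar Q a z = 0 ∧ polar Q b z = 0 := by
  have : Module.Finite F W := Module.finite_of_finrank_pos (by omega)
  let φ : W →ₗ[F] F × F := ((polarBilin Q a).prod (polarBilin Q b)).comp W.subtype
  have h1 : LinearMap.ker φ ≠ ⊥ := LinearMap.ker_ne_bot_of_finrank_lt (by
    rw [Module.finrank_prod, Module.finrank_self]; omega)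
  obtain ⟨z, hz, hz0⟩ := Submodule.exists_mem_ne_zero_of_ne_bot h1
  have h2 : (polar Q a z, polar Q b z) = (0, 0) := LinearMap.mem_ker.1 hz
  exact ⟨z, z.2, fun h => hz0 (Subtype.ext h), (Prod.mk.inj h2).1, (Prod.mk.inj h2).2⟩

theorem exists_one {W : Submodule F V} (hW : ∀ x ∈ W, (∀ y ∈ W, polar Q x y = 0) → x = 0) {x : V} (hx : x ∈ W)
    (h0 : x ≠ 0) : ∃ y ∈ W, polar Q x y = 1 := by
  by_contra hc
  apply h0
  refine hW x hx fun y hy => ?_
  by_contra h
  exact hc ⟨(polar Q x y)⁻¹ • y, W.smul_mem _ hy, by rw [polar_smul_right, smul_eq_mul, inv_mul_cancel₀ h]⟩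

theorem polar_J {W : Submodule F V} {J : V ≃ₗ[F] V} {t : F} (hJ : J ∈ O Q) (hq : ∀ x ∈ W, J (J x) = t • J x - x)
    (ht : t ^ 2 ≠ 4) {x : V} (hx : x ∈ W) : polar Q x (J x) = t * Q x := by
  have h1 : polar Q x (J x) = t * (2 * Q x) - polar Q x (J x) := by
    have := polar_map hJ x (J x)
    rw [hq x hx, polar_sub_right, polar_smul_right, polar_self', mem_O.1 hJ, polar_comm Q (J x) x, smul_eq_mul] at this
    exact this.symm
  have h2 : t * polar Q x (J x) = t ^ 2 * Q x := by
    have e1 : x + J (J x) = t • J x := by rw [hq x hx]; abel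
    have e2 := congrArg Q e1
    rw [Q_add, QuadraticMap.map_smul, mem_O.1 hJ, mem_O.1 hJ, hq x hx, polar_sub_right, polar_smul_right,
      polar_self', smul_eq_mul, smul_eq_mul] at e2
    linear_combination e2
  by_contra hc
  have h3 : polar Q x (J x) - t * Q x ≠ 0 := sub_ne_zero.2 hc
  have h4 : (2 : F) = 0 := by
    apply mul_right_cancel₀ h3
    linear_combination h1
  have h5 : t = 0 := by
    apply mul_right_cancel₀ h3
    linear_combination h2
  apply ht
  rw [h5]
  linear_combination (-2) * h4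

theorem exists_noneig [Finite F] {W : Submodule F V} {J : V ≃ₗ[F] V} {t : F} (h3 : 3 ≤ finrank F W)
    (hW : ∀ x ∈ W, (∀ y ∈ W, polar Q x y = 0) → x = 0) (hJ : J ∈ O Q) (hJW : ∀ x ∈ W, J x ∈ W)
    (hq : ∀ x ∈ W, J (J x) = t • J x - x) (ht : t ^ 2 ≠ 4) :
    ∃ e ∈ W, Q e = 0 ∧ e ≠ 0 ∧ ∀ c : F, J e ≠ c • e := by
  obtain ⟨e, heW, he0, he⟩ := LieClassical.OrthFinite.exists_sing_mem (Q := Q) W h3
  by_cases hc : ∀ c : F, J e ≠ c • e
  · exact ⟨e, heW, he, he0, hc⟩
  push Not at hc
  obtain ⟨l, hl⟩ := hc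
  have hl1 : l * (t - l) = 1 := by
    have h1 := hq e heW
    rw [hl, map_smul, hl] at h1
    have h2 : (l * (t - l) - 1) • e = 0 := by
      have : (l * (t - l) - 1) • e = (t • l • e - e) - l • l • e := by module
      rw [this, h1, sub_self]
    exact sub_eq_zero.1 ((smul_eq_zero.1 h2).resolve_right he0)
  have hne : l ≠ t - l := by
    intro h
    apply ht
    have h2 : t = 2 * l := by linear_combination -h
    rw [← h] at hl1
    rw [h2]
    linear_combination 4 * hl1
  have hl0 : l ≠ 0 := by rintro rfl; simp at hl1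
  have hsq : l * l ≠ 1 := by
    intro h
    apply hne
    apply mul_left_cancel₀ hl0
    rw [h, hl1]
  have hsq' : (t - l) * (t - l) ≠ 1 := by
    intro h
    apply hsq
    have : l * l * ((t - l) * (t - l)) = 1 := by linear_combination (l * (t - l) + 1) * hl1
    rwa [h, mul_one] at this
  by_cases hx : ∃ x ∈ W, polar Q e x = 0 ∧ J x - l • x ≠ 0
  · obtain ⟨x, hxW, hex, hy0⟩ := hx
    set y := J x - l • x with hy
    have hyW : y ∈ W := W.sub_mem (hJW x hxW) (W.smul_mem _ hxW)
    have hJy : J y = (t - l) • y := by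
      rw [hy, map_sub, map_smul, hq x hxW]
      have : x = (l * (t - l)) • x := by rw [hl1, one_smul]
      nth_rewrite 2 [this]
      module
    have hQy : Q y = 0 := by
      have h1 := mem_O.1 hJ y
      rw [hJy, QuadraticMap.map_smul, smul_eq_mul] at h1
      apply mul_left_cancel₀ (sub_ne_zero.2 hsq')
      linear_combination h1
    have hey : polar Q e y = 0 := by
      have h1 := polar_map hJ e x
      rw [hl, polar_smul_left, hex, smul_eq_mul] at h1
      rw [hy, polar_sub_right, polar_smul_right, hex, (mul_eq_zero.1 h1).resolve_left hl0, smul_zero, sub_zero]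
    have key : ∀ c : F, J (e + y) = c • (e + y) → False := by
      intro c hc
      rw [map_add, hl, hJy] at hc
      have h1 : (l - c) • e + (t - l - c) • y = 0 := by
        have : (l - c) • e + (t - l - c) • y = (l • e + (t - l) • y) - c • (e + y) := by module
        rw [this, hc, sub_self]
      have h2 := congrArg J h1
      rw [map_add, map_smul, map_smul, hl, hJy, map_zero] at h2
      have h3 : ((l - c) * (l - (t - l))) • e = 0 := by
        have : ((l - c) * (l - (t - l))) • e = ((l - c) • l • e + (t - l - c) • (t - l) • y) -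
            (t - l) • ((l - c) • e + (t - l - c) • y) := by module
        rw [this, h1, h2, smul_zero, sub_zero]
      have h4 : l - c = 0 :=
        (mul_eq_zero.1 ((smul_eq_zero.1 h3).resolve_right he0)).resolve_right (sub_ne_zero.2 hne)
      rw [h4, zero_smul, zero_add] at h1
      have h5 := (smul_eq_zero.1 h1).resolve_right hy0
      apply hne
      linear_combination h4 - h5
    refine ⟨e + y, W.add_mem heW hyW, by rw [Q_add, he, hQy, hey]; ring, fun h => key 0 ?_, fun c h => key c h⟩
    rw [h, map_zero, smul_zero]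
  · exfalso
    push Not at hx
    have hx' : ∀ x ∈ W, polar Q e x = 0 → J x = l • x := fun x h1 h2 => sub_eq_zero.1 (hx x h1 h2)
    obtain ⟨u, huW, hu⟩ := exists_one hW heW he0
    obtain ⟨z, hzW, hz0, hez, huz⟩ := exists_perp2 (Q := Q) W h3 e u
    apply hz0
    refine hW z hzW fun w hw => ?_
    have h1 : polar Q e (w - polar Q e w • u) = 0 := by
      rw [polar_sub_right, polar_smul_right, hu, smul_eq_mul, mul_one, sub_self]
    have h2 := polar_map hJ z (w - polar Q e w • u)
    rw [hx' z hzW hez, hx' _ (W.sub_mem hw (W.smul_mem _ huW)) h1, polar_smul_left, polar_smul_right] at h2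
    have h3 : polar Q z (w - polar Q e w • u) = 0 := by
      apply mul_left_cancel₀ (sub_ne_zero.2 hsq)
      simp only [smul_eq_mul] at h2
      linear_combination h2
    rwa [polar_sub_right, polar_smul_right, polar_comm Q z u, huz, smul_zero, sub_zero] at h3

end u2

end GS

open GS in
theorem boxU2 : BoxU2 := by
  intro F V _ _ _ _ _ Q W J t h4 hW hJ hJW hq ht
  obtain ⟨e, heW, he, he0, hne⟩ := exists_noneig (by omega) hW hJ hJW hq ht
  have hJe0 : J e ≠ 0 := fun h => hne 0 (by rw [h, zero_smul])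
  have heJ : polar Q e (J e) = 0 := by rw [polar_J hJ hq ht heW, he, mul_zero]
  obtain ⟨u, huW, hu1, hu2⟩ : ∃ u ∈ W, polar Q e u = 1 ∧ polar Q (J e) u = 0 := by
    obtain ⟨u0, hu0W, hu0⟩ := exists_one hW (hJW e heW) hJe0
    have h1 : e - polar Q e u0 • J e ≠ 0 := by
      intro h
      have h2 : e = polar Q e u0 • J e := sub_eq_zero.1 h
      have h3 : polar Q e u0 ≠ 0 := fun h0 => he0 (by rw [h2, h0, zero_smul])
      apply hne (polar Q e u0)⁻¹
      nth_rewrite 3 [h2]
      rw [smul_smul, inv_mul_cancel₀ h3, one_smul]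
    obtain ⟨w, hwW, hw⟩ := exists_one hW (W.sub_mem heW (W.smul_mem _ (hJW e heW))) h1
    refine ⟨w - polar Q (J e) w • u0, W.sub_mem hwW (W.smul_mem _ hu0W), ?_, ?_⟩
    · rw [polar_sub_left, polar_smul_left, smul_eq_mul] at hw
      rw [polar_sub_right, polar_smul_right, smul_eq_mul]
      linear_combination hw
    · rw [polar_sub_right, polar_smul_right, hu0, smul_eq_mul, mul_one, sub_self]
  have hfW : u - Q u • e ∈ W := W.sub_mem huW (W.smul_mem _ heW)
  have hf : Q (u - Q u • e) = 0 := by
    rw [sub_eq_add_neg, Q_add, QuadraticMap.map_neg, QuadraticMap.map_smul, he, polar_neg_right, polar_smul_right,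
      polar_comm Q u e, hu1]
    simp
  refine ⟨e, heW, u - Q u • e, hfW, he, hf, heJ, by rw [polar_J hJ hq ht hfW, hf, mul_zero], ?_⟩
  rw [polar_map hJ, polar_sub_right Q e, polar_smul_right, polar_self_of_sing he, hu1, polar_sub_right Q (J e),
    polar_smul_right, hu2, polar_comm Q (J e) e, heJ]
  simp

end Cfsg.Agent.SB.D4
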