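import Cfsg.Agent.SB.D4.Defs
import Cfsg.Agent.H953.Sympl
import Cfsg.Agent.LieClassical.OrthFinite

/-!
# S5765, `PΩ₈⁺(q)`: blocks of an abelian group of isometries (helper97)
-/

set_option autoImplicit false
set_option linter.unusedSectionVars false

namespace Cfsg.Agent.SB.D4

open QuadraticMap Module Polynomial Cfsg.Agent.LieClassical.OrthCore Cfsg.Agent.LieClassical.OrthTrans
  Cfsg.Agent.ClassicalGeometry.OrthSemi

variable {F V : Type} [Field F] [AddCommGroup V] [Module F V] {Q : QuadraticForm F V}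

variable (Q) in
/-- non-degenerate subspaces -/
def Nd (W : Submodule F V) : Prop := ∀ x ∈ W, (∀ y ∈ W, polar Q x y = 0) → x = 0

section dec

variable {ι : Type} {P : ι → Submodule F V}

theorem Dec.perp (hQ : Nondeg Q) (h : Dec Q P) {x : V} (hx : ∀ i, ∀ y ∈ P i, polar Q x y = 0) : x = 0 := by
  refine hQ x fun y => ?_
  have h1 : ⨆ i, P i ≤ LinearMap.ker (polarBilin Q x) := iSup_le fun i y hy => hx i y hy
  exact h1 (h.span ▸ Submodule.mem_top)

theorem Dec.nd (hQ : Nondeg Q) (h : Dec Q P) (i : ι) : Nd Q (P i) := fun x hx h1 =>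
  h.perp hQ fun j y hy => by
    by_cases hij : i = j
    · exact h1 y (hij ▸ hy)
    · exact h.orth i j hij x hx y hy

theorem Dec.indep (hQ : Nondeg Q) (h : Dec Q P) : iSupIndep P := by
  intro i
  rw [Submodule.disjoint_def]
  intro x hx hx'
  refine h.nd hQ i x hx fun y hy => ?_
  have h1 : ⨆ j, ⨆ (_ : j ≠ i), P j ≤ LinearMap.ker (polarBilin Q y) :=
    iSup_le fun j => iSup_le fun hj z hz => h.orth i j hj.symm y hy z hz
  rw [polar_comm]
  exact h1 hx'

theorem finrank_iSup_le [Fintype ι] [FiniteDimensional F V] (P : ι → Submodule F V) :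
    finrank F ↥(⨆ i, P i) ≤ ∑ i, finrank F (P i) := by
  classical
  have h : ∀ s : Finset ι, finrank F ↥(⨆ i ∈ s, P i) ≤ ∑ i ∈ s, finrank F (P i) := by
    intro s
    induction s using Finset.induction_on with
    | empty => simp
    | insert i s hi ih =>
      rw [Finset.iSup_insert, Finset.sum_insert hi]
      exact (Submodule.finrank_add_le_finrank_add_finrank _ _).trans (by omega)
  have h1 := h Finset.univ
  have h2 : ⨆ i ∈ (Finset.univ : Finset ι), P i = ⨆ i, P i := by simp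
  rwa [h2] at h1

theorem Dec.sum_finrank [Fintype ι] [FiniteDimensional F V] (hQ : Nondeg Q) (h : Dec Q P) :
    ∑ i, finrank F (P i) = finrank F V := by
  classical
  have h1 := DirectSum.isInternal_submodule_of_iSupIndep_of_iSup_eq_top (h.indep hQ) h.span
  rw [← (LinearEquiv.ofBijective (DirectSum.coeLinearMap P) h1).finrank_eq, Module.finrank_directSum]

theorem Dec.reindex {κ : Type} (h : Dec Q P) (f : κ → ι) (hf : Function.Injective f)
    (hs : ∀ i, P i ≠ ⊥ → ∃ k, f k = i) : Dec Q (P ∘ f) := by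
  refine ⟨fun i j hij => h.orth _ _ fun e => hij (hf e), ?_⟩
  rw [eq_top_iff, ← h.span]
  refine iSup_le fun i => ?_
  by_cases h0 : P i = ⊥
  · rw [h0]; exact bot_le
  · obtain ⟨k, rfl⟩ := hs i h0
    exact le_iSup (P ∘ f) k

theorem Prm.reindex {κ : Type} {L : Subgroup (Gam Q)} (h : Prm L P) (f : κ → ι)
    (hs : ∀ i, P i ≠ ⊥ → ∃ k, f k = i) : Prm L (P ∘ f) := by
  intro M hM k
  obtain ⟨j, hj⟩ := h M hM (f k)
  by_cases h0 : P j = ⊥
  · refine ⟨k, fun x hx => ?_⟩
    have h1 := hj x hx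
    rw [h0, Submodule.mem_bot] at h1
    rw [h1]
    exact zero_mem _
  · obtain ⟨k', rfl⟩ := hs j h0
    exact ⟨k', hj⟩

end dec

theorem Nd.exists_nonsing {W : Submodule F V} (h : Nd Q W) (h0 : W ≠ ⊥) : ∃ a ∈ W, Q a ≠ 0 := by
  by_contra hc
  push Not at hc
  obtain ⟨x, hx, hx0⟩ := (Submodule.ne_bot_iff W).1 h0
  refine hx0 (h x hx fun y hy => ?_)
  have h1 := Q_add (Q := Q) x y
  rw [hc _ (add_mem hx hy), hc x hx, hc y hy] at h1
  simpa using h1.symm

/-- a totally singular subspace of a non-degenerate space has at most half the dimension -/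
theorem Nd.two_mul_le [FiniteDimensional F V] {W U : Submodule F V} (h : Nd Q W) (hU : U ≤ W)
    (hs : ∀ x ∈ U, ∀ y ∈ U, polar Q x y = 0) : 2 * finrank F U ≤ finrank F W := by
  let f : W →ₗ[F] Module.Dual F U := (polarBilin Q).compl₁₂ W.subtype U.subtype
  have h1 : Function.Injective f.flip := by
    rw [← LinearMap.ker_eq_bot, eq_bot_iff]
    intro u hu
    refine Subtype.ext (h u (hU u.2) fun y hy => ?_)
    rw [polar_comm]
    exact LinearMap.congr_fun hu ⟨y, hy⟩
  have h2 : Function.Surjective f := LinearMap.flip_injective_iff₁.1 h1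
  have h3 := f.finrank_range_add_finrank_ker
  rw [LinearMap.range_eq_top.2 h2, finrank_top, Subspace.dual_finrank_eq] at h3
  have h4 : U.comap W.subtype ≤ LinearMap.ker f := fun u hu => LinearMap.ext fun y => hs u hu y y.2
  have h5 := Submodule.finrank_mono h4
  rw [(Submodule.comapSubtypeEquivOfLe hU).finrank_eq] at h5
  omega

/-- parity -/
theorem Nd.even [FiniteDimensional F V] {W : Submodule F V} (h : Nd Q W) {s : V →ₗ[F] V} (hs : ∀ x ∈ W, s x ∈ W)
    (halt : ∀ x ∈ W, polar Q x (s x) = 0) (hinj : ∀ x ∈ W, s x = 0 → x = 0) : Even (finrank F W) := by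
  let s' : W →ₗ[F] W := s.restrict hs
  have h1 : Function.Injective s' := by
    rw [← LinearMap.ker_eq_bot, eq_bot_iff]
    exact fun u hu => Subtype.ext (hinj u u.2 (congrArg Subtype.val hu))
  have h2 := LinearMap.surjective_of_injective h1
  refine H953.even_finrank_of_alt ((polarBilin Q).compl₁₂ W.subtype (W.subtype ∘ₗ s')) (fun x => halt x x.2)
    fun u hu => Subtype.ext (h u u.2 fun y hy => ?_)
  obtain ⟨z, hz⟩ := h2 ⟨y, hy⟩
  have h3 : polar Q u (s' z : V) = 0 := hu z
  rwa [hz] at h3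

/-! ### semilinear images -/

/-- the image of a subspace under a semisimilitude -/
def gmap (M : Gam Q) (U : Submodule F V) : Submodule F V where
  carrier := {v | M⁻¹.1 v ∈ U}
  add_mem' := fun {a b} ha hb => by
    show M⁻¹.1 (a + b) ∈ U
    rw [add_of_mem M⁻¹.2]
    exact add_mem ha hb
  zero_mem' := by
    obtain ⟨σ, c, h⟩ := M⁻¹.2
    show M⁻¹.1 0 ∈ U
    rw [h.map_zero]
    exact zero_mem _
  smul_mem' := fun a v hv => by
    obtain ⟨σ, c, h⟩ := M⁻¹.2
    show M⁻¹.1 (a • v) ∈ U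
    rw [h.smul]
    exact U.smul_mem _ hv

theorem mem_gmap {M : Gam Q} {U : Submodule F V} {v : V} : v ∈ gmap M U ↔ M⁻¹.1 v ∈ U := Iff.rfl

theorem apply_mem_gmap {M : Gam Q} {U : Submodule F V} {v : V} : M.1 v ∈ gmap M U ↔ v ∈ U := by
  rw [mem_gmap]
  exact Iff.of_eq (congrArg (· ∈ U) (inv_apply M.1 v))

theorem finrank_le_of_maps [Finite F] [Finite V] (M : Gam Q) {U W : Submodule F V} (h : ∀ x ∈ U, M.1 x ∈ W) :
    finrank F U ≤ finrank F W := by
  have h1 : Nat.card U ≤ Nat.card W :=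
    Nat.card_le_card_of_injective (fun x : U => (⟨M.1 x, h x x.2⟩ : W)) fun x y e =>
      Subtype.ext (M.1.injective (congrArg Subtype.val e))
  rw [Module.natCard_eq_pow_finrank (K := F) (V := U), Module.natCard_eq_pow_finrank (K := F) (V := W)] at h1
  exact (Nat.pow_le_pow_iff_right Finite.one_lt_card).1 h1

theorem finrank_gmap [Finite F] [Finite V] (M : Gam Q) (U : Submodule F V) : finrank F (gmap M U) = finrank F U :=
  le_antisymm (finrank_le_of_maps M⁻¹ fun _ hx => hx) (finrank_le_of_maps M fun _ hx => apply_mem_gmap.2 hx)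

/-! ### blocks -/

theorem sum_proj [Fintype F] : ∑ c : F, (1 - (X - C c) ^ (Fintype.card F - 1) : F[X]) = 1 := by
  classical
  have hq : 1 < Fintype.card F := Fintype.one_lt_card
  rw [← sub_eq_zero]
  refine Polynomial.eq_zero_of_natDegree_lt_card_of_eval_eq_zero _ (f := fun c : F => c) (fun _ _ h => h) (fun d => ?_) ?_
  · rw [eval_sub, eval_finsetSum, eval_one, Finset.sum_eq_single d]
    · simp [show Fintype.card F - 1 ≠ 0 by omega]
    · intro c _ hc
      simp [FiniteField.pow_card_sub_one_eq_one (d - c) (sub_ne_zero.2 hc.symm)]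
    · simp
  · refine lt_of_le_of_lt (b := Fintype.card F - 1) ?_ (by omega)
    refine (natDegree_sub_le _ _).trans (max_le ?_ (by simp))
    refine natDegree_sum_le_of_forall_le _ _ fun c _ => (natDegree_sub_le _ _).trans (max_le (by simp) ?_)
    exact natDegree_pow_le.trans (by simp)

theorem mul_proj [Fintype F] (c : F) :
    (X - C c) * (1 - (X - C c) ^ (Fintype.card F - 1) : F[X]) = X - X ^ Fintype.card F := by
  have hq : 1 < Fintype.card F := Fintype.one_lt_card
  obtain ⟨p, hp⟩ := CharP.exists F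
  have hp' : Fact p.Prime := ⟨CharP.char_is_prime F p⟩
  obtain ⟨n, -, hn⟩ := FiniteField.card F p
  rw [mul_sub, mul_one, ← pow_succ', Nat.sub_add_cancel hq.le]
  have h1 : (X - C c : F[X]) ^ Fintype.card F = X ^ Fintype.card F - C c := by
    rw [hn, sub_pow_char_pow, ← map_pow, ← hn, FiniteField.pow_card]
  rw [h1]
  ring

theorem aeval_mem {y : Module.End F V} {U : Submodule F V} (hU : ∀ v ∈ U, y v ∈ U) (f : F[X]) {v : V} (hv : v ∈ U) :
    aeval y f v ∈ U := by
  induction f using Polynomial.induction_on' with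
  | add p q hp hq => rw [map_add]; exact add_mem hp hq
  | monomial n a =>
    rw [aeval_monomial, Module.End.mul_apply, Module.algebraMap_end_apply]
    refine U.smul_mem _ ?_
    induction n with
    | zero => exact hv
    | succ n ih => rw [pow_succ', Module.End.mul_apply]; exact hU _ ih

theorem le_iSup_eig [Fintype F] {y : Module.End F V} (hy : y ^ Fintype.card F = y) {U : Submodule F V}
    (hU : ∀ v ∈ U, y v ∈ U) : U ≤ ⨆ c : F, U ⊓ LinearMap.ker (y - c • 1) := by
  intro v hv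
  have h1 : v = ∑ c : F, aeval y (1 - (X - C c) ^ (Fintype.card F - 1) : F[X]) v := by
    rw [← LinearMap.sum_apply, ← map_sum, sum_proj, map_one, Module.End.one_apply]
  rw [h1]
  refine Submodule.sum_mem_iSup fun c => ⟨aeval_mem hU _ hv, ?_⟩
  have h2 := congrArg (aeval y) (mul_proj c)
  have h3 : aeval y (X - X ^ Fintype.card F : F[X]) = 0 := by simp [hy]
  rw [h3, map_mul, map_sub (aeval y) X (C c), aeval_X, aeval_C, Algebra.algebraMap_eq_smul_one] at h2
  exact LinearMap.congr_fun h2 v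

/-- `a + a⁻¹` -/
def sym (a : V ≃ₗ[F] V) : Module.End F V := a.toLinearMap + (a⁻¹ : V ≃ₗ[F] V).toLinearMap

theorem sym_apply (a : V ≃ₗ[F] V) (v : V) : sym a v = a v + a⁻¹ v := rfl

/-- the joint eigenspaces of the maps `a + a⁻¹` -/
def Bl (X : Subgroup (V ≃ₗ[F] V)) (θ : X → F) : Submodule F V :=
  ⨅ a : X, LinearMap.ker (sym a.1 - θ a • (1 : Module.End F V))

theorem mem_Bl {X : Subgroup (V ≃ₗ[F] V)} {θ : X → F} {v : V} :
    v ∈ Bl X θ ↔ ∀ a : X, a.1 v + a.1⁻¹ v = θ a • v := by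
  simp only [Bl, Submodule.mem_iInf, LinearMap.mem_ker, LinearMap.sub_apply, sub_eq_zero]
  rfl

section blocks

variable {X : Subgroup (V ≃ₗ[F] V)}

theorem comm_apply (hc : ∀ a ∈ X, ∀ b ∈ X, a * b = b * a) {a b : V ≃ₗ[F] V} (ha : a ∈ X) (hb : b ∈ X) (v : V) :
    a (b v) = b (a v) := LinearEquiv.congr_fun (hc a ha b hb) v

theorem Bl_inv (hc : ∀ a ∈ X, ∀ b ∈ X, a * b = b * a) (θ : X → F) {b : V ≃ₗ[F] V} (hb : b ∈ X) {v : V}
    (hv : v ∈ Bl X θ) : b v ∈ Bl X θ := by
  rw [mem_Bl] at hv ⊢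
  intro a
  rw [comm_apply hc a.2 hb, comm_apply hc (inv_mem a.2) hb, ← map_add, hv, map_smul]

theorem le_iSup_Bl [Fintype F] [Finite X] (hc : ∀ a ∈ X, ∀ b ∈ X, a * b = b * a)
    (hq : ∀ a ∈ X, sym a ^ Fintype.card F = sym a)
    {U : Submodule F V} (hU : ∀ a ∈ X, ∀ v ∈ U, a v ∈ U) : U ≤ ⨆ θ, U ⊓ Bl X θ := by
  classical
  have := Fintype.ofFinite X
  have h : ∀ s : Finset X, U ≤ ⨆ θ : X → F, U ⊓ ⨅ a ∈ s,
      LinearMap.ker (sym a.1 - θ a • (1 : Module.End F V)) := by
    intro s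
    induction s using Finset.induction_on with
    | empty => exact le_iSup_of_le 0 (by simp)
    | insert b s hb ih =>
      refine ih.trans (iSup_le fun θ => (le_iSup_eig (hq b b.2) ?_).trans (iSup_le fun c => ?_))
      · rintro v ⟨hv, hv'⟩
        refine ⟨add_mem (hU _ b.2 v hv) (hU _ (inv_mem b.2) v hv), ?_⟩
        simp only [SetLike.mem_coe, Submodule.mem_iInf, LinearMap.mem_ker, LinearMap.sub_apply, sym_apply,
          sub_eq_zero, LinearMap.smul_apply, Module.End.one_apply] at hv' ⊢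
        intro a ha
        rw [map_add, map_add, comm_apply hc a.2 b.2, comm_apply hc a.2 (inv_mem b.2), comm_apply hc (inv_mem a.2) b.2,
          comm_apply hc (inv_mem a.2) (inv_mem b.2), add_add_add_comm, ← map_add, ← map_add, hv' a ha, map_smul,
          map_smul, smul_add]
      · refine le_iSup_of_le (Function.update θ b c) ?_
        rintro v ⟨⟨hv, hv'⟩, hv''⟩
        refine ⟨hv, ?_⟩
        simp only [SetLike.mem_coe, Submodule.mem_iInf] at hv' ⊢
        intro a ha
        rcases Finset.mem_insert.1 ha with rfl | ha'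
        · rwa [Function.update_self]
        · rw [Function.update_of_ne (by rintro rfl; exact hb ha')]
          exact hv' a ha'
  simpa [Bl] using h Finset.univ

theorem polar_inv {a : V ≃ₗ[F] V} (ha : a ∈ O Q) (x y : V) : polar Q (a x) y = polar Q x (a⁻¹ y) := by
  conv_lhs => rw [← a.apply_symm_apply y, polar_map ha]
  rfl

theorem dec_Bl [Fintype F] [Finite X] (hO : X ≤ O Q) (hc : ∀ a ∈ X, ∀ b ∈ X, a * b = b * a)
    (hq : ∀ a ∈ X, sym a ^ Fintype.card F = sym a) :
    Dec Q (Bl X) := by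
  refine ⟨fun θ θ' h x hx y hy => ?_, ?_⟩
  · obtain ⟨a, ha⟩ := Function.ne_iff.1 h
    have h1 := congrArg (fun z => polar Q z y) (mem_Bl.1 hx a)
    have h2 := congrArg (fun z => polar Q x z) (mem_Bl.1 hy a)
    simp only [polar_add_left, polar_add_right, polar_smul_left, polar_smul_right, smul_eq_mul] at h1 h2
    rw [polar_inv (hO a.2), polar_inv (hO (inv_mem a.2)), inv_inv, add_comm, h2] at h1
    exact (mul_eq_zero.1 (show (θ a - θ' a) * polar Q x y = 0 by linear_combination -h1)).resolve_left (sub_ne_zero.2 ha)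
  · rw [eq_top_iff]
    exact (le_iSup_Bl hc hq (U := ⊤) fun _ _ _ _ => Submodule.mem_top).trans (iSup_mono fun _ => inf_le_right)

theorem conjLin_inv_left (M : Gam Q) (a : V ≃ₗ[F] V) : conjLin M (conjLin M⁻¹ a) = a := by
  rw [← conjLin_mul_left, mul_inv_cancel, conjLin_one_left]

theorem prm_Bl {L : Subgroup (Gam Q)} (hL : ∀ M ∈ L, ∀ a ∈ X, conjLin M a ∈ X) : Prm L (Bl X) := by
  intro M hM θ
  obtain ⟨σ, c, h⟩ := M.2
  refine ⟨fun a => σ (θ ⟨_, hL M⁻¹ (inv_mem hM) a a.2⟩), fun x hx => mem_Bl.2 fun a => ?_⟩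
  rw [← h.smul, ← mem_Bl.1 hx, h.add, ← conjLin_apply', ← conjLin_apply', conjLin_inv, conjLin_inv_left]

theorem finrank_le_sum [Fintype F] [Fintype X] [DecidableEq X] [FiniteDimensional F V]
    (hc : ∀ a ∈ X, ∀ b ∈ X, a * b = b * a)
    (hq : ∀ a ∈ X, sym a ^ Fintype.card F = sym a)
    {U : Submodule F V} (hU : ∀ a ∈ X, ∀ v ∈ U, a v ∈ U) : finrank F U ≤ ∑ θ, finrank F ↥(U ⊓ Bl X θ) :=
  (Submodule.finrank_mono (le_iSup_Bl hc hq hU)).trans (finrank_iSup_le _)

end blocks

end Cfsg.Agent.SB.D4
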