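import Cfsg.Agent.SB.D4.Eng
import Cfsg.Agent.SB.D4.Blk
import Cfsg.Agent.SB.Split

/-!
# S5765, `PΩ₈⁺(q)`: the minimal invariant subgroup (helper97)
-/

set_option autoImplicit false
set_option linter.unusedSectionVars false

namespace Cfsg.Agent.SB.D4

open QuadraticMap Module Cfsg.Agent.LieClassical.QuadForms Cfsg.Agent.LieClassical.OrthCore
  Cfsg.Agent.LieClassical.OrthTrans Cfsg.Agent.ClassicalGeometry.OrthSemi Cfsg.Agent.ClassicalGeometry.OrthAut1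
  Cfsg.Agent.ClassicalGeometry.TrialityOct Cfsg.Agent.ClassicalGeometry.Triality
  Cfsg.Agent.H989.OutOrth.Basic Cfsg.Agent.H989.OutOrth.Tri Cfsg.Agent.H786.FC

variable {F : Type} [Field F] [Fintype F]

/-- `S` involves triality, `X` is a minimal `S`-invariant subgroup of exponent `r` -/
structure Cx (S : Subgroup (MulAut (G8 F))) (X : Subgroup (G8 F)) (r : ℕ) : Prop where
  solv : Group.IsSolvable S
  max : MaxInv (InnG (G8 F)) S
  t1 : ∃ α ∈ S, ∃ M, Ty1 α M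
  t2 : ∃ α ∈ S, ∃ M, Ty2 α M
  ne : X ≠ ⊥
  le : ∀ x ∈ X, MulAut.conj x ∈ S
  inv : ∀ s ∈ S, ∀ x ∈ X, s x ∈ X
  min : ∀ Y ≤ X, (∀ s ∈ S, ∀ y ∈ Y, s y ∈ Y) → Y = ⊥ ∨ Y = X
  comm : ∀ x ∈ X, ∀ y ∈ X, x * y = y * x
  prime : r.Prime
  pow : ∀ x ∈ X, x ^ r = 1
  char : (r : F) ≠ 0

/-- the lifts of `S` -/
abbrev LL (S : Subgroup (MulAut (G8 F))) : Subgroup (Gam (Q8 F)) := S.comap (Psi (Q8 F))

theorem conj_inj8 : Function.Injective (MulAut.conj : G8 F →* MulAut (G8 F)) :=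
  have := simple8 (F := F); conj_injective noncomm8

theorem exists_cx {p : ℕ} [CharP F p] {S : Subgroup (MulAut (G8 F))} (hS : Group.IsSolvable S)
    (hm : MaxInv (InnG (G8 F)) S) (hn : NPar p (InnG (G8 F)) S) (h1 : ∃ α ∈ S, ∃ M, Ty1 α M)
    (h2 : ∃ α ∈ S, ∃ M, Ty2 α M) : ∃ X r, Cx S X r := by
  have := finite_aut (F := F)
  obtain ⟨X, hle, h0, hinv, hmin, hc, ⟨r, hr, hpow⟩, -⟩ := hm.exists_min as8 hS
  have hX : (X.comap (MulAut.conj : G8 F →* MulAut (G8 F))).map MulAut.conj = X :=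
    Subgroup.map_comap_eq_self (hle.trans inf_le_right)
  refine ⟨X.comap MulAut.conj, r, hS, hm, h1, h2, fun h => h0 (by rw [← hX, h, Subgroup.map_bot]),
    fun x hx => (hle hx).1, fun s hs x hx => ?_, fun Y hY hY' => ?_, fun x hx y hy => conj_inj8 ?_, hr,
    fun x hx => conj_inj8 ?_, fun h => h0 (hn X hle (fun x => ⟨1, Subtype.ext ?_⟩) hinv)⟩
  · rw [Subgroup.mem_comap, ← autConj]
    exact hinv s hs _ hx
  · rcases hmin (Y.map MulAut.conj) (hX ▸ Subgroup.map_mono hY) (by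
      rintro s hs _ ⟨y, hy, rfl⟩
      exact ⟨s y, hY' s hs y hy, (autConj s y).symm⟩) with h | h
    · exact Or.inl ((Subgroup.map_eq_bot_iff_of_injective Y conj_inj8).1 h)
    · exact Or.inr (Subgroup.map_injective conj_inj8 (h.trans hX.symm))
  · rw [map_mul, map_mul]
    exact hc _ hx _ hy
  · rw [map_pow, map_one]
    exact hpow _ hx
  · have hp : p = r := (Nat.prime_dvd_prime_iff_eq (CharP.char_is_prime F p) hr).1 ((CharP.cast_eq_zero_iff F p r).1 h)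
    rw [pow_one, hp]
    exact hpow x x.2

theorem nondeg8' : Nondeg (Q8 F) := good8.nondeg

theorem finrank8 : finrank F (V8 F) = 8 := by simp

/-- the bivector `e ∧ e'` -/
def wd {V : Type} [AddCommGroup V] [Module F V] (Q : QuadraticForm F V) (e e' v : V) : V :=
  polar Q e v • e' - polar Q e' v • e

theorem pl_line {y z : V8 F} (hy : Q8 F y = 0) (hy0 : y ≠ 0) (hz : Q8 F z = 0) (hz0 : z ≠ 0)
    (h : ∀ t, ∃ t', pm y t' = pm z t) : ∃ l : F, z = l • y := by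
  have h1 : xO (oconj z) = xO (oconj y) := by
    refine Submodule.eq_of_le_of_finrank_eq ?_ ?_
    · rintro _ ⟨t, rfl⟩
      obtain ⟨t', ht⟩ := h (oconj t)
      rw [pm, pm, oconj_oconj] at ht
      exact ⟨_, ht⟩
    · exact (ClassicalGeometry.TrialitySpaces.finrank_leftSp (by rwa [norm_oconj])
        (ClassicalGeometry.TrialitySpaces.oconj_ne_zero hz0)).trans
        (ClassicalGeometry.TrialitySpaces.finrank_leftSp (by rwa [norm_oconj])
        (ClassicalGeometry.TrialitySpaces.oconj_ne_zero hy0)).symm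
  rw [xO_eq_iff good8 (by rwa [norm_oconj]) (ClassicalGeometry.TrialitySpaces.oconj_ne_zero hy0)
    (ClassicalGeometry.TrialitySpaces.oconj_ne_zero hz0)] at h1
  obtain ⟨l, hl⟩ := Submodule.mem_span_singleton.1 (h1 ▸ Submodule.mem_span_singleton_self (oconj z))
  exact ⟨l, by rw [← oconj_oconj z, ← hl, oconj_smul, oconj_oconj]⟩

theorem pr_line {y z : V8 F} (hy : Q8 F y = 0) (hy0 : y ≠ 0) (hz : Q8 F z = 0) (hz0 : z ≠ 0)
    (h : ∀ t, ∃ t', pm t' y = pm t z) : ∃ l : F, z = l • y := by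
  have h1 : Ox (oconj z) = Ox (oconj y) := by
    refine Submodule.eq_of_le_of_finrank_eq ?_ ?_
    · rintro _ ⟨t, rfl⟩
      obtain ⟨t', ht⟩ := h (oconj t)
      rw [pm, pm, oconj_oconj] at ht
      exact ⟨_, ht⟩
    · exact (ClassicalGeometry.TrialitySpaces.finrank_rightSp (by rwa [norm_oconj])
        (ClassicalGeometry.TrialitySpaces.oconj_ne_zero hz0)).trans
        (ClassicalGeometry.TrialitySpaces.finrank_rightSp (by rwa [norm_oconj])
        (ClassicalGeometry.TrialitySpaces.oconj_ne_zero hy0)).symm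
  rw [Ox_eq_iff good8 (by rwa [norm_oconj]) (ClassicalGeometry.TrialitySpaces.oconj_ne_zero hy0)
    (ClassicalGeometry.TrialitySpaces.oconj_ne_zero hz0)] at h1
  obtain ⟨l, hl⟩ := Submodule.mem_span_singleton.1 (h1 ▸ Submodule.mem_span_singleton_self (oconj z))
  exact ⟨l, by rw [← oconj_oconj z, ← hl, oconj_smul, oconj_oconj]⟩

omit [Fintype F] in
theorem range_pr (y : V8 F) : LinearMap.range (pr y) = ClassicalGeometry.TrialitySpaces.rightSp (oconj y) := by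
  ext v
  constructor
  · rintro ⟨t, rfl⟩
    exact ⟨oconj t, rfl⟩
  · rintro ⟨t, rfl⟩
    exact ⟨oconj t, by rw [pr_apply, pm, oconj_oconj]; rfl⟩

omit [Fintype F] in
theorem range_pl (y : V8 F) : LinearMap.range (pl y) = ClassicalGeometry.TrialitySpaces.leftSp (oconj y) := by
  ext v
  constructor
  · rintro ⟨t, rfl⟩
    exact ⟨oconj t, rfl⟩
  · rintro ⟨t, rfl⟩
    exact ⟨oconj t, by rw [pl_apply, pm, oconj_oconj]; rfl⟩

theorem finrank_pr {y : V8 F} (hy : Q8 F y = 0) (hy0 : y ≠ 0) : finrank F (LinearMap.range (pr y)) = 4 := by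
  rw [range_pr]
  exact ClassicalGeometry.TrialitySpaces.finrank_rightSp (by rwa [norm_oconj])
    (ClassicalGeometry.TrialitySpaces.oconj_ne_zero hy0)

theorem conjE_conjE_inv (M : Gam (Q8 F)) (a : E8 F) : conjE (Q8 F) M (conjE (Q8 F) M⁻¹ a) = a := by
  rw [map_inv]
  exact (conjE (Q8 F) M).apply_symm_apply a

theorem conjE_inv_conjE (M : Gam (Q8 F)) (a : E8 F) : conjE (Q8 F) M⁻¹ (conjE (Q8 F) M a) = a := by simp

theorem conjE_eig {M : Gam (Q8 F)} {a : E8 F} {v : V8 F} {l : F} (h : a.1 v = l • v) :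
    ∃ l' : F, (conjE (Q8 F) M a).1 (M.1 v) = l' • M.1 v := by
  obtain ⟨σ, hσ⟩ := gam_smul M
  exact ⟨σ l, by rw [conjE_apply, h, hσ]⟩

namespace Cx

variable {S : Subgroup (MulAut (G8 F))} {X : Subgroup (G8 F)} {r : ℕ} (h : Cx S X r)
include h

theorem le_of_inv {H : Subgroup (G8 F)} (hH : H ≠ ⊤) (hinv : ∀ s ∈ S, ∀ y ∈ H, s y ∈ H) {g : G8 F} (hg : g ∈ H) :
    MulAut.conj g ∈ S := by
  have := finite_aut (F := F)
  refine h.max.le_of_inv as8 (Y := H.map MulAut.conj) (Subgroup.map_le_range _ _) (fun e => hH ?_) ?_ ⟨g, hg, rfl⟩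
  · apply Subgroup.map_injective conj_inj8
    rw [e, ← MonoidHom.range_eq_map]
  · rintro s hs _ ⟨y, hy, rfl⟩
    exact ⟨s y, hinv s hs y hy, (autConj s y).symm⟩

theorem cent {g : G8 F} (hg : ∀ x ∈ X, x * g = g * x) : MulAut.conj g ∈ S := by
  refine h.le_of_inv (H := Subgroup.centralizer (X : Set (G8 F))) (fun e => h.ne ?_) (fun s hs y hy x hx => ?_) hg
  · have := simple8 (F := F)
    rw [eq_bot_iff]
    intro x hx
    apply conj_inj8
    ext y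
    have h1 : y ∈ Subgroup.centralizer (X : Set (G8 F)) := e ▸ Subgroup.mem_top y
    simp [h1 x hx]
  · have h1 := congrArg s (hy _ (h.inv s⁻¹ (inv_mem hs) x hx))
    simpa using h1

theorem solv_cent : Group.IsSolvable (Subgroup.centralizer (X : Set (G8 F))) := by
  have := h.solv
  exact Group.isSolvable_of_isSolvable_injective
    (f := ((MulAut.conj : G8 F →* MulAut (G8 F)).comp (Subgroup.subtype _)).codRestrict S fun g => h.cent g.2)
    fun a b e => Subtype.ext (conj_inj8 (congrArg Subtype.val e))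

theorem norm {g : G8 F} (hg : MulAut.conj g ∈ S) {x : G8 F} (hx : x ∈ X) : g * x * g⁻¹ ∈ X := h.inv _ hg x hx

theorem conjE_mem {M : Gam (Q8 F)} (hM : M ∈ LL S) {a : E8 F} (ha : (a : G8 F) ∈ X) :
    ((conjE (Q8 F) M a : E8 F) : G8 F) ∈ X := h.inv _ hM _ ha

theorem og_mem {y : E8 F} (hy : ∀ x ∈ X, ∃ a : E8 F, (a : G8 F) = x ∧ a * y = y * a) : og y ∈ LL S := by
  rw [Subgroup.mem_comap, Psi_og]
  refine h.cent fun x hx => ?_
  obtain ⟨a, rfl, ha⟩ := hy x hx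
  exact congrArg (QuotientGroup.mk : E8 F → G8 F) ha

theorem rot_mem {u v : V8 F} (hu : Q8 F u ≠ 0) (hv : Q8 F v = Q8 F u) (hy : ∀ x ∈ X, ∃ a : E8 F, (a : G8 F) = x ∧
    rr (Q8 F) (a.1 u) * rr (Q8 F) (a.1 v) = rr (Q8 F) u * rr (Q8 F) v) : rr (Q8 F) u * rr (Q8 F) v ∈ LL S := by
  obtain ⟨y, hy'⟩ := exists_rot hu hv
  rw [← hy', Subgroup.mem_comap, Psi_og]
  refine h.cent fun x hx => ?_
  obtain ⟨a, rfl, ha⟩ := hy x hx
  apply conj_inj8
  rw [map_mul, map_mul, ← Psi_og, ← Psi_og, ← map_mul (Psi (Q8 F)), ← map_mul (Psi (Q8 F)), hy']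
  congr 1
  rw [← og_apply, ← og_apply, ← conj_rr _ hu, ← conj_rr _ (hv ▸ hu)] at ha
  rw [← mul_inv_eq_iff_eq_mul]
  refine Eq.trans ?_ ha
  group

theorem sg_mem {e e' : V8 F} (he : Q8 F e = 0) (he' : Q8 F e' = 0)
    (hy : ∀ x ∈ X, ∃ a : E8 F, (a : G8 F) = x ∧ wd (Q8 F) (a.1 e) (a.1 e') = wd (Q8 F) e e') (c : F)
    (hc : polar (Q8 F) e (c • e') = 0) :
    ((⟨siegel (Q8 F) e (c • e') he hc, siegel_mem_E he hc⟩ : E8 F) : G8 F) ∈
      Subgroup.centralizer (X : Set (G8 F)) := by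
  intro x hx
  obtain ⟨a, rfl, ha⟩ := hy x hx
  refine congrArg (QuotientGroup.mk : E8 F → G8 F) (Subtype.ext (LinearEquiv.ext fun v => ?_))
  have hO := E_le_O a.2
  have h1 := congrFun ha (a.1 v)
  rw [wd, wd, polar_map hO, polar_map hO] at h1
  show a.1 (siegel (Q8 F) e (c • e') he hc v) = siegel (Q8 F) e (c • e') he hc (a.1 v)
  simp only [siegel_apply, QuadraticMap.map_smul, he', smul_eq_mul, mul_zero, zero_mul, zero_smul, sub_zero, map_add,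
    map_sub, map_smul, polar_smul_left]
  linear_combination (norm := module) c • h1

theorem no_sl2 (hG : BoxSL2) (hq : 4 ≤ Nat.card F) {e e' f f' : V8 F} (he : Q8 F e = 0) (he' : Q8 F e' = 0)
    (hf : Q8 F f = 0) (hf' : Q8 F f' = 0) (h1 : polar (Q8 F) e e' = 0) (h2 : polar (Q8 F) f f' = 0)
    (h3 : polar (Q8 F) e f * polar (Q8 F) e' f' - polar (Q8 F) e f' * polar (Q8 F) e' f ≠ 0)
    (hy : ∀ x ∈ X, ∃ a : E8 F, (a : G8 F) = x ∧ wd (Q8 F) (a.1 e) (a.1 e') = wd (Q8 F) e e' ∧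
      wd (Q8 F) (a.1 f) (a.1 f') = wd (Q8 F) f f') : False :=
  hG F (V8 F) (Q8 F) _ e e' f f' he hf good8 hq he' hf' h1 h2 h3
    (h.sg_mem he he' fun x hx => (hy x hx).imp fun _ ha => ⟨ha.1, ha.2.1⟩)
    (h.sg_mem hf hf' fun x hx => (hy x hx).imp fun _ ha => ⟨ha.1, ha.2.2⟩) h.solv_cent

theorem mem_iff {s : MulAut (G8 F)} (hs : s ∈ S) {x : G8 F} : s x ∈ X ↔ x ∈ X :=
  ⟨fun hx => by simpa using h.inv s⁻¹ (inv_mem hs) _ hx, h.inv s hs x⟩

theorem sym1 : ∃ M : Gam (Q8 F), ∀ a b c : E8 F, T3 a b c →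
    ((a : G8 F) ∈ X ↔ ((conjE (Q8 F) M b : E8 F) : G8 F) ∈ X) := by
  obtain ⟨α, hα, M, hM⟩ := h.t1
  exact ⟨M, fun a b c ht => by rw [← hM a b c ht, h.mem_iff hα]⟩

theorem sym2 : ∃ M : Gam (Q8 F), ∀ a b c : E8 F, T3 a b c →
    ((a : G8 F) ∈ X ↔ ((conjE (Q8 F) M c : E8 F) : G8 F) ∈ X) := by
  obtain ⟨α, hα, M, hM⟩ := h.t2
  exact ⟨M, fun a b c ht => by rw [← hM a b c ht, h.mem_iff hα]⟩

/-- a fixed singular point gives an invariant totally singular solid -/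
theorem tf1 {e : V8 F} (he : Q8 F e = 0) (he0 : e ≠ 0)
    (hfix : ∀ x ∈ X, ∃ a : E8 F, (a : G8 F) = x ∧ ∃ l : F, a.1 e = l • e) :
    ∃ U : Submodule F (V8 F), finrank F U = 4 ∧ (∀ u ∈ U, Q8 F u = 0) ∧
      ∀ a : E8 F, (a : G8 F) ∈ X → ∀ u ∈ U, a.1 u ∈ U := by
  obtain ⟨M, hM⟩ := h.sym2
  refine ⟨LinearMap.range (pr (M⁻¹.1 e)), finrank_pr (gam_sing _ he) (gam_ne _ he0), ?_, fun a ha => ?_⟩
  · rintro _ ⟨t, rfl⟩
    rw [pr_apply, norm_pm, gam_sing _ he, mul_zero]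
  rintro _ ⟨t, rfl⟩
  obtain ⟨b, c, ht⟩ := exists_T3 a
  obtain ⟨a', ha', l, hl⟩ := hfix _ ((hM a b c ht).1 ha)
  obtain ⟨d, -, hd⟩ := mk_eq_iff.1 ha'
  have h1 : (conjE (Q8 F) M c).1 e = (d * l) • e := by rw [hd, hl, smul_smul]
  obtain ⟨l', hl'⟩ := conjE_eig (M := M⁻¹) h1
  rw [conjE_inv_conjE] at hl'
  refine ⟨l' • b.1 t, ?_⟩
  rw [pr_apply, pr_apply, ht, hl', smul_pm, pm_smul]

/-- an invariant totally singular solid gives a fixed singular point -/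
theorem tf2 {U : Submodule F (V8 F)} (h4 : finrank F U = 4) (hs : ∀ u ∈ U, Q8 F u = 0)
    (hinv : ∀ x ∈ X, ∃ a : E8 F, (a : G8 F) = x ∧ ∀ u ∈ U, a.1 u ∈ U) :
    ∃ e : V8 F, Q8 F e = 0 ∧ e ≠ 0 ∧ ∀ a : E8 F, (a : G8 F) ∈ X → ∃ l : F, a.1 e = l • e := by
  have hinv' : ∀ a : E8 F, (a : G8 F) ∈ X → ∀ u ∈ U, a.1 u ∈ U := fun a ha u hu => by
    obtain ⟨a', ha', h1⟩ := hinv _ ha
    obtain ⟨d, -, hd⟩ := mk_eq_iff.1 ha'
    rw [hd]
    exact U.smul_mem _ (h1 u hu)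
  obtain ⟨x, hx, hx0, hU⟩ := ClassicalGeometry.TrialitySpaces.isOct_of_singular hs h4
  have hy : Q8 F (oconj x) = 0 := by rwa [norm_oconj]
  have hy0 := ClassicalGeometry.TrialitySpaces.oconj_ne_zero hx0
  rw [← oconj_oconj x, ← range_pl, ← range_pr] at hU
  set y := oconj x
  rcases hU with rfl | rfl
  · obtain ⟨M, hM⟩ := h.sym1
    refine ⟨M.1 y, gam_sing _ hy, gam_ne _ hy0, fun a' ha' => ?_⟩
    rw [← conjE_conjE_inv M a'] at ha' ⊢
    obtain ⟨a, c, ht⟩ := exists_T3₁ (conjE (Q8 F) M⁻¹ a')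
    set b := conjE (Q8 F) M⁻¹ a'
    obtain ⟨l, hl⟩ := pl_line hy hy0 ((mem_O.1 (E_le_O b.2) y).trans hy) (b.1.map_ne_zero_iff.2 hy0) fun t => by
      obtain ⟨t, rfl⟩ := c.1.surjective t
      rw [← ht]
      exact hinv' a ((hM a b c ht).2 ha') _ ⟨t, rfl⟩
    exact conjE_eig hl
  · obtain ⟨M, hM⟩ := h.sym2
    refine ⟨M.1 y, gam_sing _ hy, gam_ne _ hy0, fun a' ha' => ?_⟩
    rw [← conjE_conjE_inv M a'] at ha' ⊢
    obtain ⟨a, b, ht⟩ := exists_T3₂ (conjE (Q8 F) M⁻¹ a')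
    set c := conjE (Q8 F) M⁻¹ a'
    obtain ⟨l, hl⟩ := pr_line hy hy0 ((mem_O.1 (E_le_O c.2) y).trans hy) (c.1.map_ne_zero_iff.2 hy0) fun t => by
      obtain ⟨t, rfl⟩ := b.1.surjective t
      rw [← ht]
      exact hinv' a ((hM a b c ht).2 ha') _ ⟨t, rfl⟩
    exact conjE_eig hl

end Cx

end Cfsg.Agent.SB.D4
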