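import Cfsg.Agent.H989.OutOrth.Basic

/-!
# S5765, `PΩ₈⁺(q)` with triality: interface of the geometric boxes (helper97)

`L` is a group of semisimilitudes (the lifts of `S ⊓ PΓO`).  The conjugating elements are products `r_v r_u` of two
reflections of the same norm, `u` lying in a block of an orthogonal decomposition permuted by `L`.
See `notes/SB/d4.md`.
-/

set_option autoImplicit false

namespace Cfsg.Agent.SB.D4

open QuadraticMap Module Cfsg.Agent.LieClassical.OrthCore Cfsg.Agent.LieClassical.OrthTrans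
  Cfsg.Agent.ClassicalGeometry.OrthSemi Cfsg.Agent.ClassicalGeometry.OrthAut1 Cfsg.Agent.H989.OutOrth.Basic

section defs

variable {F V : Type} [Field F] [AddCommGroup V] [Module F V] (Q : QuadraticForm F V)

open Classical in
/-- the reflection in `v` (the identity if `v` is singular) -/
noncomputable def rr (v : V) : Gam Q := if h : Q v ≠ 0 then rf v h else 1

variable {Q}

theorem rr_eq {v : V} (h : Q v ≠ 0) : rr Q v = rf v h := dif_pos h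

theorem rr_apply (v x : V) : (rr Q v).1 x = x - ((Q v)⁻¹ * polar Q v x) • v := by
  by_cases h : Q v = 0
  · rw [rr, dif_neg (not_not.2 h), h, inv_zero, zero_mul, zero_smul, sub_zero]; rfl
  · rw [rr_eq h, rf_apply, refl_apply]

theorem rr_mul_self (v : V) : rr Q v * rr Q v = 1 := by
  by_cases h : Q v = 0
  · rw [rr, dif_neg (not_not.2 h), one_mul]
  · rw [rr_eq h, rf_mul_self]

theorem rr_inv (v : V) : (rr Q v)⁻¹ = rr Q v := inv_eq_of_mul_eq_one_left (rr_mul_self v)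

theorem conj_rr (M : Gam Q) {v : V} (hv : Q v ≠ 0) : M * rr Q v * M⁻¹ = rr Q (M.1 v) := by
  rw [rr_eq hv, rr_eq (Q_ne M hv), conj_rf]

/-- `M` is a scalar -/
def IsScal (M : Gam Q) : Prop := ∃ c : F, ∀ x, M.1 x = c • x

/-- `M` fixes the line spanned by `v` -/
def Fix (M : Gam Q) (v : V) : Prop := ∃ c : F, M.1 v = c • v

/-- conjugation by `r_v r_u` -/
noncomputable def cjv (v u : V) (M : Gam Q) : Gam Q := rr Q u * rr Q v * M * (rr Q v * rr Q u)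

/-- two conjugates suffice -/
def Kill2 (L : Subgroup (Gam Q)) : Prop :=
  ∃ v₁ u₁ v₂ u₂ : V, Q v₁ ≠ 0 ∧ Q u₁ = Q v₁ ∧ Q v₂ ≠ 0 ∧ Q u₂ = Q v₂ ∧
    ∀ M ∈ L, cjv v₁ u₁ M ∈ L → cjv v₂ u₂ M ∈ L → IsScal M

/-- three conjugates suffice, the first intersection fixes a nonsingular point and contains a rotation `r_a r_b` -/
def Kill3 (L : Subgroup (Gam Q)) : Prop :=
  ∃ v₁ u₁ v₂ u₂ v₃ u₃ a b : V, Q v₁ ≠ 0 ∧ Q u₁ = Q v₁ ∧ Q v₂ ≠ 0 ∧ Q u₂ = Q v₂ ∧ Q v₃ ≠ 0 ∧ Q u₃ = Q v₃ ∧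
    Q a ≠ 0 ∧ Q b = Q a ∧ polar Q a b ^ 2 ≠ 4 * Q a ^ 2 ∧ rr Q a * rr Q b ∈ L ∧ cjv v₁ u₁ (rr Q a * rr Q b) ∈ L ∧
    (∀ M ∈ L, cjv v₁ u₁ M ∈ L → Fix M v₁) ∧
    ∀ M ∈ L, cjv v₁ u₁ M ∈ L → cjv v₂ u₂ M ∈ L → cjv v₃ u₃ M ∈ L → IsScal M

variable (Q) in
/-- an orthogonal decomposition -/
structure Dec {ι : Type} (P : ι → Submodule F V) : Prop where
  orth : ∀ i j, i ≠ j → ∀ x ∈ P i, ∀ y ∈ P j, polar Q x y = 0
  span : ⨆ i, P i = ⊤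

/-- `L` permutes the blocks -/
def Prm {ι : Type} (L : Subgroup (Gam Q)) (P : ι → Submodule F V) : Prop :=
  ∀ M ∈ L, ∀ i, ∃ j, ∀ x ∈ P i, M.1 x ∈ P j

variable (Q) in
/-- anisotropic -/
def Aniso (W : Submodule F V) : Prop := ∀ x ∈ W, Q x = 0 → x = 0

variable (Q) in
/-- `W` contains a totally singular plane -/
def HasTS (W : Submodule F V) : Prop :=
  ∃ e ∈ W, ∃ e' ∈ W, Q e = 0 ∧ Q e' = 0 ∧ polar Q e e' = 0 ∧ e ≠ 0 ∧ ∀ c : F, e' ≠ c • e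

end defs

/-- four planes -/
def BoxA : Prop := ∀ (F V : Type) [Field F] [Finite F] [AddCommGroup V] [Module F V] [Finite V]
  (Q : QuadraticForm F V) (L : Subgroup (Gam Q)) (P : Fin 4 → Submodule F V), Nondeg Q → Dec Q P →
  (∀ i, finrank F (P i) = 2) → Prm L P → (3 ≤ Nat.card F ∨ ∀ i, Aniso Q (P i)) →
  ((∃ a ∈ P 3, ∃ b ∈ P 3, Q a ≠ 0 ∧ Q b = Q a ∧ polar Q a b ^ 2 ≠ 4 * Q a ^ 2 ∧ rr Q a * rr Q b ∈ L) ∨
    ((2 : F) ≠ 0 ∧ ∀ a ∈ P 3, ∀ b ∈ P 2, Q a ≠ 0 → Q b = Q a → rr Q a * rr Q b ∈ L)) → Kill3 L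

/-- eight lines -/
def BoxFr : Prop := ∀ (F V : Type) [Field F] [Finite F] [AddCommGroup V] [Module F V] [Finite V]
  (Q : QuadraticForm F V) (L : Subgroup (Gam Q)) (e : Fin 8 → V), Nondeg Q → finrank F V = 8 → (2 : F) ≠ 0 →
  (∀ i, Q (e i) ≠ 0) → (∀ i j, i ≠ j → polar Q (e i) (e j) = 0) →
  (∀ M ∈ L, ∀ i, ∃ (j : Fin 8) (c : F), M.1 (e i) = c • e j) →
  (∀ i j, i ≠ j → ∀ c : F, Q (c • e j) = Q (e i) → rr Q (e i) * rr Q (c • e j) ∈ L) →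
  (Nat.card F = 3 → ¬ ∃ i, ∀ j, j ≠ i → Q (e j) = - Q (e i)) → Kill3 L

/-- `GU₃(q) × O₂⁻(q)`, `q ≤ 3` -/
def BoxC : Prop := ∀ (F V : Type) [Field F] [Finite F] [AddCommGroup V] [Module F V] [Finite V]
  (Q : QuadraticForm F V) (L : Subgroup (Gam Q)) (W P : Submodule F V) (J : V ≃ₗ[F] V) (t : F), Nondeg Q →
  Nat.card F ≤ 3 → (∀ x ∈ W, ∀ y ∈ P, polar Q x y = 0) → W ⊔ P = ⊤ → finrank F W = 6 → finrank F P = 2 → Aniso Q P →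
  J ∈ O Q → (∀ x ∈ W, J x ∈ W) → (∀ x ∈ W, J (J x) = t • J x - x) → (∀ c : F, c ^ 2 - t * c + 1 ≠ 0) →
  (∀ M ∈ L, (∀ x ∈ W, M.1 x ∈ W) ∧ (∀ x ∈ P, M.1 x ∈ P) ∧
    ((∀ x ∈ W, M.1 (J x) = J (M.1 x)) ∨ ∀ x ∈ W, J (M.1 (J x)) = M.1 x)) →
  (∀ u ∈ W, Q u ≠ 0 → rr Q u * rr Q (J u) ∈ L) → Kill3 L

/-- `O₄⁺(2) ≀ S₂` -/
def BoxD2 : Prop := ∀ (F V : Type) [Field F] [Finite F] [AddCommGroup V] [Module F V] [Finite V]
  (Q : QuadraticForm F V) (L : Subgroup (Gam Q)) (P : Fin 4 → Submodule F V), Nondeg Q → Nat.card F = 2 → Dec Q P →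
  (∀ i, finrank F (P i) = 2) → (∀ i, Aniso Q (P i)) → Prm L ![P 0 ⊔ P 1, P 2 ⊔ P 3] →
  (∀ a ∈ P 3, ∀ b ∈ P 3, a ≠ 0 → b ≠ 0 → rr Q a * rr Q b ∈ L) → Kill3 L

/-- `O₄⁺(3) ≀ S₂` -/
def BoxD3 : Prop := ∀ (F V : Type) [Field F] [Finite F] [AddCommGroup V] [Module F V] [Finite V]
  (Q : QuadraticForm F V) (L : Subgroup (Gam Q)) (W : Fin 2 → Submodule F V), Nondeg Q → Nat.card F = 3 → Dec Q W →
  (∀ i, finrank F (W i) = 4) → (∀ i, HasTS Q (W i)) → Prm L W →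
  (∀ a ∈ W 1, ∀ b ∈ W 1, Q a ≠ 0 → Q b = Q a → rr Q a * rr Q b ∈ L) → Kill3 L

/-- the torus `(q² + 1)²` -/
def BoxB : Prop := ∀ (F V : Type) [Field F] [Finite F] [AddCommGroup V] [Module F V] [Finite V]
  (Q : QuadraticForm F V) (L : Subgroup (Gam Q)) (W : Fin 2 → Submodule F V) (X : Subgroup (V ≃ₗ[F] V)) (r : ℕ),
  Nondeg Q → Dec Q W → (∀ i, finrank F (W i) = 4) → Prm L W → X ≤ O Q → (∀ x ∈ X, ∀ y ∈ X, x * y = y * x) →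
  (∀ x ∈ X, x ^ r = 1) → (∀ c : F, c ^ r = 1 → c = 1) → (∀ x ∈ X, ∀ i, ∀ w ∈ W i, x w ∈ W i) →
  (∀ i, ∃ x ∈ X, ∃ w ∈ W i, x w ≠ w) →
  (∀ i, ∀ U ≤ W i, (∀ x ∈ X, ∀ w ∈ U, x w ∈ U) → U = ⊥ ∨ U = W i) →
  (∀ x ∈ X, ∀ i, (∃ w ∈ W i, x w ≠ w) → ∀ U ≤ W i, (∀ w ∈ U, x w ∈ U) → U = ⊥ ∨ U = W i) →
  (∀ M ∈ L, ∀ x ∈ X, conjLin M x ∈ X) → Kill2 L

/-- two opposite long root subgroups generate a non-solvable group if `q ≥ 4` -/
def BoxSL2 : Prop := ∀ (F V : Type) [Field F] [Finite F] [AddCommGroup V] [Module F V] [Finite V]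
  (Q : QuadraticForm F V) (H : Subgroup (P Q)) (e e' f f' : V) (he : Q e = 0) (hf : Q f = 0), Good Q →
  4 ≤ Nat.card F → Q e' = 0 → Q f' = 0 → polar Q e e' = 0 → polar Q f f' = 0 →
  polar Q e f * polar Q e' f' - polar Q e f' * polar Q e' f ≠ 0 →
  (∀ (c : F) (h : polar Q e (c • e') = 0), ((⟨siegel Q e (c • e') he h, siegel_mem_E he h⟩ : E Q) : P Q) ∈ H) →
  (∀ (c : F) (h : polar Q f (c • f') = 0), ((⟨siegel Q f (c • f') hf h, siegel_mem_E hf h⟩ : E Q) : P Q) ∈ H) →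
  ¬ Group.IsSolvable H

/-- a non-degenerate subspace of dimension at least four with a quadratic isometry contains two opposite invariant
totally singular planes -/
def BoxU2 : Prop := ∀ (F V : Type) [Field F] [Finite F] [AddCommGroup V] [Module F V] [Finite V]
  (Q : QuadraticForm F V) (W : Submodule F V) (J : V ≃ₗ[F] V) (t : F), 4 ≤ finrank F W →
  (∀ x ∈ W, (∀ y ∈ W, polar Q x y = 0) → x = 0) → J ∈ O Q → (∀ x ∈ W, J x ∈ W) →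
  (∀ x ∈ W, J (J x) = t • J x - x) → t ^ 2 ≠ 4 →
  ∃ e ∈ W, ∃ f ∈ W, Q e = 0 ∧ Q f = 0 ∧ polar Q e (J e) = 0 ∧ polar Q f (J f) = 0 ∧
    polar Q e f * polar Q (J e) (J f) - polar Q e (J f) * polar Q (J e) f ≠ 0

/-- all geometric boxes -/
structure Geo : Prop where
  a : BoxA
  fr : BoxFr
  c : BoxC
  d2 : BoxD2
  d3 : BoxD3
  b : BoxB
  sl2 : BoxSL2
  u2 : BoxU2

end Cfsg.Agent.SB.D4
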