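import Cfsg.Agent.SB.D4.Tri
import Cfsg.Agent.SB.Mono
import Cfsg.Agent.S0293

/-!
# S5765, `PΩ₈⁺(q)`: from the geometric statements to base size four (helper97)
-/

set_option autoImplicit false

namespace Cfsg.Agent.SB.D4

open QuadraticMap Module Cfsg.Agent.LieClassical.QuadForms Cfsg.Agent.LieClassical.OrthCore
  Cfsg.Agent.LieClassical.OrthTrans Cfsg.Agent.ClassicalGeometry.OrthSemi Cfsg.Agent.ClassicalGeometry.OrthAut1
  Cfsg.Agent.ClassicalGeometry.TrialityOct Cfsg.Agent.ClassicalGeometry.Triality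
  Cfsg.Agent.H989.OutOrth.Basic Cfsg.Agent.H989.OutOrth.Tri Cfsg.Agent.H786.FC

variable {F : Type} [Field F]

theorem autConj {G : Type*} [Group G] (α : MulAut G) (x : G) : α * MulAut.conj x * α⁻¹ = MulAut.conj (α x) := by
  ext y
  simp [MulAut.conj_apply]

/-- the semisimilitude of an element of `Ω` -/
def og : E8 F →* Gam (Q8 F) := (ofO (Q8 F)).comp (Subgroup.inclusion E_le_O)

theorem og_apply (g : E8 F) (x : V8 F) : (og g).1 x = g.1 x := rfl

theorem Psi_og (g : E8 F) : Psi (Q8 F) (og g) = MulAut.conj (g : G8 F) := Psi_ofO g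

theorem og_conjE (M : Gam (Q8 F)) (g : E8 F) : og (conjE (Q8 F) M g) = M * og g * M⁻¹ :=
  Subtype.ext (Equiv.ext fun _ => rfl)

theorem conjE_apply (M : Gam (Q8 F)) (g : E8 F) (x : V8 F) : (conjE (Q8 F) M g).1 (M.1 x) = M.1 (g.1 x) :=
  conjLin_apply' M g.1 x

theorem gam_smul (M : Gam (Q8 F)) : ∃ σ : F ≃+* F, ∀ (a : F) (v : V8 F), M.1 (a • v) = σ a • M.1 v := by
  obtain ⟨σ, c, h⟩ := M.2
  exact ⟨σ, h.smul⟩

theorem gam_zero (M : Gam (Q8 F)) : M.1 0 = 0 := by
  obtain ⟨σ, c, h⟩ := M.2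
  exact h.map_zero

theorem gam_ne (M : Gam (Q8 F)) {v : V8 F} (h : v ≠ 0) : M.1 v ≠ 0 := fun h1 =>
  h (M.1.injective (h1.trans (gam_zero M).symm))

theorem gam_sing (M : Gam (Q8 F)) {v : V8 F} (h : Q8 F v = 0) : Q8 F (M.1 v) = 0 := by
  obtain ⟨σ, c, hM⟩ := M.2
  rw [hM.form, h, map_zero, mul_zero]

theorem gam_neg (M : Gam (Q8 F)) (v : V8 F) : M.1 (-v) = - M.1 v := by
  obtain ⟨σ, c, hM⟩ := M.2
  rw [← zero_sub, hM.sub, hM.map_zero, zero_sub]

/-! ### rotations -/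

theorem ol_lin (a b z : V8 F) :
    omul (oconj b) (omul a z) + omul (oconj a) (omul b z) = polar (Q8 F) a b • z := by
  have h := oconj_omul_omul (a + b) z
  rw [oconj_add, add_omul, add_omul, omul_add, omul_add, oconj_omul_omul, oconj_omul_omul, Q_add, add_smul,
    add_smul] at h
  linear_combination (exp := 1) h

theorem or_lin (a b z : V8 F) :
    omul (omul z a) (oconj b) + omul (omul z b) (oconj a) = polar (Q8 F) a b • z := by
  have h := omul_omul_oconj (a + b) z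
  rw [oconj_add, omul_add, omul_add, add_omul, add_omul, omul_omul_oconj, omul_omul_oconj, Q_add, add_smul,
    add_smul] at h
  linear_combination (exp := 1) h

theorem omul_sub' (x y z : V8 F) : omul x (y - z) = omul x y - omul x z := (lmul x).map_sub y z
theorem sub_omul' (x y z : V8 F) : omul (y - z) x = omul y x - omul z x := (rmul x).map_sub y z

theorem eigen_aux {c β l e : F} (hc : c ≠ 0) (he : e * e = 1) (hl : l * l = 1)
    (h : (e * l * c) ^ 2 - β * (e * l * c) + c * c = 0) : β ^ 2 = 4 * c ^ 2 := by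
  have h1 : (e * l) * (e * l) = 1 := by linear_combination l * l * he + hl
  have h2 : c * (β * (e * l) - 2 * c) = 0 := by linear_combination -h + c ^ 2 * h1
  have h3 := (mul_eq_zero.1 h2).resolve_left hc
  linear_combination (β * (e * l) + 2 * c) * h3 - β ^ 2 * h1

/-- the triality images of a non-degenerate rotation `r_a r_b` fix no nonsingular point -/
theorem rot_asym {a b : V8 F} (ha : Q8 F a ≠ 0) (hb : Q8 F b = Q8 F a) (hab : polar (Q8 F) a b ^ 2 ≠ 4 * Q8 F a ^ 2)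
    {y y₁ y₂ : E8 F} (hy : og y = rr (Q8 F) a * rr (Q8 F) b) (h : T3 y y₁ y₂) {w : V8 F} (hw : Q8 F w ≠ 0) {l : F}
    (hl : y₁.1 w = l • w ∨ y₂.1 w = l • w) : False := by
  have hb' : Q8 F b ≠ 0 := hb ▸ ha
  have hy' : y.1 = refl (Q8 F) a ha * refl (Q8 F) b hb' := by
    refine LinearEquiv.ext fun x => ?_
    rw [← og_apply, hy, rr_eq ha, rr_eq hb']
    rfl
  have h1 := tri_refl ha rfl hb ha hb'
  rw [← hy'] at h1
  obtain ⟨e, he, h2, h3⟩ := h1.unique (t3_iff.1 h).2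
  have hw0 : oconj w ≠ 0 := fun h0 => hw (by rw [← norm_oconj, h0, map_zero])
  have hll : ∀ g : E8 F, g.1 w = l • w → l * l = 1 := fun g hg => by
    have h4 := mem_O.1 (E_le_O g.2) w
    rw [hg, QuadraticMap.map_smul, smul_eq_mul] at h4
    exact mul_right_cancel₀ hw (h4.trans (one_mul _).symm)
  have hee : e * e = 1 := by
    have h4 := mem_O.1 (E_le_O (kap_conj_mem y₁.2)) (one8 F)
    rw [h2, QuadraticMap.map_smul, mem_O.1 (tri1_mem ha rfl hb), norm_one8] at h4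
    simpa using h4
  have hei : e⁻¹ = e := inv_eq_of_mul_eq_one_left hee
  apply hab
  rcases hl with hl | hl
  · have h4 : oconj (y₁.1 (oconj (oconj w))) = e • (Q8 F a)⁻¹ • omul a (omul (oconj b) (oconj w)) := h2 (oconj w)
    rw [oconj_oconj, hl, oconj_smul] at h4
    set z := oconj w
    have h5 : omul a (omul (oconj b) z) = (e * l * Q8 F a) • z := by
      calc omul a (omul (oconj b) z) = (e * Q8 F a) • e • (Q8 F a)⁻¹ • omul a (omul (oconj b) z) := by
            rw [smul_smul, smul_smul]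
            have : e * Q8 F a * e * (Q8 F a)⁻¹ = 1 := by field_simp; linear_combination hee
            rw [this, one_smul]
        _ = _ := by rw [← h4, smul_smul]; congr 1; ring
    have h6 := ol_lin a b (omul (oconj b) z)
    rw [omul_oconj_omul, omul_smul, h5, omul_smul] at h6
    have h7 := congrArg (omul a) h6
    rw [omul_add, omul_smul, omul_smul, omul_smul, h5, omul_oconj_omul, smul_smul, smul_smul, smul_smul,
      ← add_smul, hb] at h7
    refine eigen_aux ha hee (hll _ hl) ?_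
    linear_combination smul_left_injective F hw0 h7
  · have h4 : oconj (y₂.1 (oconj (oconj w))) = e⁻¹ • (Q8 F a)⁻¹ • omul (omul (oconj w) (oconj b)) a := h3 (oconj w)
    rw [oconj_oconj, hl, oconj_smul, hei] at h4
    set z := oconj w
    have h5 : omul (omul z (oconj b)) a = (e * l * Q8 F a) • z := by
      calc omul (omul z (oconj b)) a = (e * Q8 F a) • e • (Q8 F a)⁻¹ • omul (omul z (oconj b)) a := by
            rw [smul_smul, smul_smul]
            have : e * Q8 F a * e * (Q8 F a)⁻¹ = 1 := by field_simp; linear_combination hee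
            rw [this, one_smul]
        _ = _ := by rw [← h4, smul_smul]; congr 1; ring
    have h6 := or_lin a b (omul z (oconj b))
    rw [omul_oconj_omul', smul_omul, h5, smul_omul] at h6
    have h7 := congrArg (fun t => omul t a) h6
    simp only [add_omul, smul_omul] at h7
    rw [h5, omul_oconj_omul', smul_smul, smul_smul, smul_smul, ← add_smul, hb] at h7
    refine eigen_aux ha hee (hll _ hl) ?_
    linear_combination smul_left_injective F hw0 h7

section fin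

variable [Fintype F]

theorem simple8 : IsSimpleGroup (G8 F) := Cfsg.Agent.LieClassical.OrthSimple.good_isSimpleGroup good8

theorem card8 : 360 < Nat.card (G8 F) := by
  have h1 := S0293.result (F := F) rfl 4 le_rfl
  rw [Cfsg.Agent.H989.OutOrth.Forms.card_P good8, coe_plusForm]
  have hq : 2 ≤ Fintype.card F := Fintype.one_lt_card
  generalize Fintype.card F = q at *
  generalize Nat.card (Cfsg.POmega F (Cfsg.quadFormPlus 4 F)) = n at *
  have h2 : Nat.gcd 4 (q ^ 4 - 1) ≤ 4 := Nat.gcd_le_left _ (by norm_num)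
  have h3 : 2 ^ 12 ≤ q ^ (4 * (4 - 1)) := Nat.pow_le_pow_left hq 12
  have h4 : 0 < q ^ 4 - 1 := by have := Nat.pow_le_pow_left hq 4; omega
  have h5 : 0 < ∏ i ∈ Finset.range (4 - 1), (q ^ (2 * (i + 1)) - 1) :=
    Finset.prod_pos fun i _ => by have := Nat.one_lt_pow (n := 2 * (i + 1)) (by omega) hq; omega
  have h6 : 2 ^ 12 * 1 * 1 ≤ Nat.gcd 4 (q ^ 4 - 1) * n := by
    rw [h1]; exact Nat.mul_le_mul (Nat.mul_le_mul h3 h4) h5
  have h7 := Nat.mul_le_mul_right n h2
  omega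

theorem noncomm8 : ¬ IsMulCommutative (G8 F) := by
  intro h
  have h1 : commutator (G8 F) = ⊤ := by
    have h2 := congrArg (Subgroup.map (QuotientGroup.mk' (Subgroup.center (E8 F)))) (commutator_E (good8 (F := F)))
    rwa [commutator_def, Subgroup.map_commutator, ← MonoidHom.range_eq_map, QuotientGroup.range_mk',
      ← commutator_def] at h2
  have h3 : commutator (G8 F) = ⊥ := by
    rw [commutator_def, Subgroup.commutator_eq_bot_iff_le_centralizer]
    exact fun a _ b _ => h.is_comm.comm b a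
  have := simple8 (F := F)
  exact bot_ne_top (h3.symm.trans h1)

theorem as8 : AS (InnG (G8 F)) := have := simple8 (F := F); as_inn noncomm8

theorem finite8 : Finite (G8 F) := Nat.finite_of_card_ne_zero (by have := card8 (F := F); omega)

theorem finite_aut : Finite (MulAut (G8 F)) :=
  have := finite8 (F := F)
  Finite.of_injective (fun α : MulAut (G8 F) => (α : G8 F → G8 F)) DFunLike.coe_injective

theorem good_of_four {S : Subgroup (MulAut (G8 F))} (hS : Group.IsSolvable S) (h : Four (InnG (G8 F)) S) :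
    Good (InnG (G8 F)) S := by
  have := finite_aut (F := F)
  have := simple8 (F := F)
  exact as8.good_of_four (by rw [← Nat.card_congr (innEquiv noncomm8).toEquiv]; exact card8) hS h

theorem exists_rot {v u : V8 F} (hv : Q8 F v ≠ 0) (hu : Q8 F u = Q8 F v) :
    ∃ x : E8 F, og x = rr (Q8 F) v * rr (Q8 F) u := by
  have hu' : Q8 F u ≠ 0 := hu ▸ hv
  refine ⟨⟨_, good8.refl_mul_refl_mem hu' hv hu⟩, ?_⟩
  rw [rr_eq hv, rr_eq hu']
  rfl

omit [Fintype F] in
theorem cjv_eq {v u : V8 F} {x : E8 F} (hx : og x = rr (Q8 F) v * rr (Q8 F) u) (M : Gam (Q8 F)) :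
    Psi (Q8 F) (cjv v u M) = (MulAut.conj (x : G8 F))⁻¹ * Psi (Q8 F) M * MulAut.conj (x : G8 F) := by
  rw [← Psi_og, ← map_inv, ← map_mul, ← map_mul, hx, mul_inv_rev, rr_inv, rr_inv, cjv]

theorem Psi_of_scal {M : Gam (Q8 F)} (h : IsScal M) : Psi (Q8 F) M = 1 := by
  obtain ⟨c, hc⟩ := h
  have hc0 : c ≠ 0 := by
    rintro rfl
    exact gam_ne M e8_ne (by rw [hc, zero_smul])
  rw [← Psi_scal good8 (Units.mk0 c hc0)]
  congr 1
  exact Subtype.ext (Equiv.ext hc)

theorem four_of_kill3 {S : Subgroup (MulAut (G8 F))} (h : Kill3 (S.comap (Psi (Q8 F)))) : Four (InnG (G8 F)) S := by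
  obtain ⟨v₁, u₁, v₂, u₂, v₃, u₃, a, b, h1, h1', h2, h2', h3, h3', ha, hb, hab, hy, hy', hfix, hkill⟩ := h
  obtain ⟨x₁, hx₁⟩ := exists_rot h1 h1'
  obtain ⟨x₂, hx₂⟩ := exists_rot h2 h2'
  obtain ⟨x₃, hx₃⟩ := exists_rot h3 h3'
  obtain ⟨y, hyy⟩ := exists_rot ha hb
  obtain ⟨y₁, y₂, hT⟩ := exists_T3 y
  refine ⟨_, ⟨(x₁ : G8 F), rfl⟩, _, ⟨(x₂ : G8 F), rfl⟩, _, ⟨(x₃ : G8 F), rfl⟩, fun s hs e1 e2 e3 => ?_⟩
  have key : ∀ (M : Gam (Q8 F)) (z : E8 F), s (y : G8 F) = (conjE (Q8 F) M z : E8 F) →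
      ∃ l : F, z.1 (M⁻¹.1 v₁) = l • M⁻¹.1 v₁ := by
    intro M z hz
    rw [Subgroup.mem_comap, ← hyy, Psi_og] at hy
    rw [Subgroup.mem_comap, cjv_eq hx₁, ← hyy, Psi_og] at hy'
    have h4 : og (conjE (Q8 F) M z) ∈ S.comap (Psi (Q8 F)) := by
      rw [Subgroup.mem_comap, Psi_og, ← hz, ← autConj]
      exact mul_mem (mul_mem hs hy) (inv_mem hs)
    have h5 : cjv v₁ u₁ (og (conjE (Q8 F) M z)) ∈ S.comap (Psi (Q8 F)) := by
      rw [Subgroup.mem_comap, cjv_eq hx₁, Psi_og, ← hz, ← autConj]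
      have h6 := mul_mem (mul_mem e1 hy') (inv_mem e1)
      convert h6 using 1
      group
    obtain ⟨l, hl⟩ := hfix _ h4 h5
    obtain ⟨σ, hσ⟩ := gam_smul M⁻¹
    refine ⟨σ l, ?_⟩
    rw [← hσ, ← hl]
    exact (inv_apply M.1 _).symm
  obtain ⟨M, hM | hM | hM⟩ := cosets s
  · subst hM
    exact Psi_of_scal (hkill M hs (by rwa [Subgroup.mem_comap, cjv_eq hx₁]) (by rwa [Subgroup.mem_comap, cjv_eq hx₂])
      (by rwa [Subgroup.mem_comap, cjv_eq hx₃]))
  · obtain ⟨l, hl⟩ := key M y₁ (hM _ _ _ hT)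
    exact (rot_asym ha hb hab hyy hT (Q_ne M⁻¹ h1) (Or.inl hl)).elim
  · obtain ⟨l, hl⟩ := key M y₂ (hM _ _ _ hT)
    exact (rot_asym ha hb hab hyy hT (Q_ne M⁻¹ h1) (Or.inr hl)).elim

theorem four_of_small {A : Type*} [Group A] [Finite A] {T S N : Subgroup A} (hT : AS T) (hS : Group.IsSolvable S)
    (hN : N.index = 3) {x y : A} (hx : x ∈ T) (hy : y ∈ T)
    (h : ∀ s ∈ S, x⁻¹ * s * x ∈ S → y⁻¹ * s * y ∈ S → s ∈ N → s = 1) : Four T S := by
  let D : Subgroup A := S ⊓ S.comap (MulAut.conj x⁻¹).toMonoidHom ⊓ S.comap (MulAut.conj y⁻¹).toMonoidHom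
  have hD : ∀ k, k ∈ D ↔ k ∈ S ∧ x⁻¹ * k * x ∈ S ∧ y⁻¹ * k * y ∈ S := fun k => by simp [D, and_assoc]
  have h3 : Nat.card D ≤ 3 := by
    rw [← hN]
    refine Nat.card_le_card_of_injective (fun d : D => ((d : A) : A ⧸ N)) fun d d' hd => ?_
    have h4 := (hD _).1 (mul_mem (inv_mem d.2) d'.2)
    exact Subtype.ext (inv_mul_eq_one.1 (h _ h4.1 h4.2.1 h4.2.2 (QuotientGroup.eq.1 hd)))
  by_cases h0 : D = ⊥
  · refine four_of_two hx hy fun s hs h1 h2 => ?_
    have h4 := (hD s).2 ⟨hs, h1, h2⟩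
    rwa [h0, Subgroup.mem_bot] at h4
  obtain ⟨⟨d, hd⟩, hd1⟩ := Subgroup.ne_bot_iff_exists_ne_one.1 h0
  have hz : ∃ z ∈ T, z⁻¹ * d * z ∉ S := by
    by_contra hc
    push Not at hc
    let X : Subgroup A := ⨅ z : T, S.comap (MulAut.conj (z : A)⁻¹).toMonoidHom
    have hX : ∀ k, k ∈ X ↔ ∀ z ∈ T, z⁻¹ * k * z ∈ S := fun k => by simp [X, Subgroup.mem_iInf]
    rcases hT.eq_bot_or_le (X := X) (fun t ht k hk => (hX _).2 fun z hz => by
      have h4 := (hX k).1 hk (t⁻¹ * z) (mul_mem (inv_mem ht) hz)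
      convert h4 using 1
      group) with h4 | h4
    · have h5 := (hX d).2 hc
      rw [h4, Subgroup.mem_bot] at h5
      exact hd1 (Subtype.ext h5)
    · exact hT.not_le hS fun t ht => by simpa using (hX t).1 (h4 ht) 1 (one_mem _)
  obtain ⟨z, hz, hdz⟩ := hz
  refine ⟨x, hx, y, hy, z, hz, fun s hs h1 h2 h4 => ?_⟩
  let D' : Subgroup D := (S.comap (MulAut.conj z⁻¹).toMonoidHom).subgroupOf D
  have hD' : ∀ k : D, k ∈ D' ↔ z⁻¹ * k * z ∈ S := fun k => by simp [D', Subgroup.mem_subgroupOf]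
  have h5 : D' ≠ ⊤ := fun h6 => hdz ((hD' ⟨d, hd⟩).1 (h6 ▸ Subgroup.mem_top _))
  have h6 := D'.card_mul_index
  have h7 : D'.index ≠ 1 := fun h8 => h5 (Subgroup.index_eq_one.1 h8)
  have h8 : D'.index ≠ 0 := Subgroup.index_ne_zero_of_finite
  have h9 : Nat.card D' ≤ 1 := by
    by_contra h10
    have := Nat.mul_le_mul (show 2 ≤ Nat.card D' by omega) (show 2 ≤ D'.index by omega)
    omega
  have h10 : (⟨s, (hD s).2 ⟨hs, h1, h2⟩⟩ : D) ∈ D' := (hD' _).2 h4
  rw [Subgroup.eq_bot_of_card_le D' h9, Subgroup.mem_bot] at h10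
  exact congrArg Subtype.val h10

theorem four_of_kill2 {S : Subgroup (MulAut (G8 F))} (hS : Group.IsSolvable S) (h : Kill2 (S.comap (Psi (Q8 F)))) :
    Four (InnG (G8 F)) S := by
  obtain ⟨v₁, u₁, v₂, u₂, h1, h1', h2, h2', hkill⟩ := h
  obtain ⟨x₁, hx₁⟩ := exists_rot h1 h1'
  obtain ⟨x₂, hx₂⟩ := exists_rot h2 h2'
  have := finite_aut (F := F)
  refine four_of_small as8 hS index_three ⟨(x₁ : G8 F), rfl⟩ ⟨(x₂ : G8 F), rfl⟩ ?_
  rintro _ hs e1 e2 ⟨M, rfl⟩
  exact Psi_of_scal (hkill M hs (by rwa [Subgroup.mem_comap, cjv_eq hx₁]) (by rwa [Subgroup.mem_comap, cjv_eq hx₂]))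

end fin

end Cfsg.Agent.SB.D4
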