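import Cfsg.Agent.SB.D4.LA

/-!
# S5765, `PΩ₈⁺(q)` with triality: `O₄⁺(3) ≀ S₂` (helper52)
-/

set_option autoImplicit false
set_option linter.unusedSectionVars false

namespace Cfsg.Agent.SB.D4.G

open QuadraticMap Module Cfsg.Agent.LieClassical.OrthCore
  Cfsg.Agent.ClassicalGeometry.OrthSemi Cfsg.Agent.H989.OutOrth.Basic

section

variable {F V : Type} [Field F] [AddCommGroup V] [Module F V] {Q : QuadraticForm F V}

theorem ND.exists_dual {W : Submodule F V} (h : ND Q W) {e u : V} (he : e ∈ W) (hu : u ∈ W) (H : Ind F e u) :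
    ∃ y ∈ W, polar Q e y = 0 ∧ polar Q u y = 1 := by
  obtain ⟨y, hy, hy'⟩ := h.exists_ne he H.left_ne
  obtain ⟨z, hz, hz'⟩ := h.exists_ne (add_mem hu (Submodule.smul_mem _ (-(polar Q u y / polar Q e y)) he))
    (H.add_right _).right_ne
  rw [polar_add_left, polar_smul_left, smul_eq_mul] at hz'
  refine ⟨(polar Q u z + -(polar Q u y / polar Q e y) * polar Q e z)⁻¹ • (z - (polar Q e z / polar Q e y) • y),
    Submodule.smul_mem _ _ (sub_mem hz (Submodule.smul_mem _ _ hy)), ?_, ?_⟩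
  · rw [polar_smul_right, polar_sub_right, polar_smul_right, smul_eq_mul (_ / _), div_mul_cancel₀ _ hy', sub_self,
      smul_zero]
  · rw [polar_smul_right, polar_sub_right, polar_smul_right, smul_eq_mul, smul_eq_mul, inv_mul_eq_one₀ hz']
    ring

theorem polar_sing {x : V} (h : Q x = 0) : polar Q x x = 0 := by rw [polar_self, h, smul_zero]

variable (Q) in
/-- a hyperbolic basis -/
structure HB (W : Submodule F V) (e f u w : V) : Prop where
  me : e ∈ W
  mf : f ∈ W
  mu : u ∈ W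
  mw : w ∈ W
  qe : Q e = 0
  qf : Q f = 0
  qu : Q u = 0
  qw : Q w = 0
  ef : polar Q e f = 1
  eu : polar Q e u = 0
  ew : polar Q e w = 0
  fu : polar Q f u = 0
  fw : polar Q f w = 0
  uw : polar Q u w = 1
  span : ∀ z ∈ W, ∃ a b c d : F, z = a • e + b • f + c • u + d • w

theorem exists_hb [Finite V] {W : Submodule F V} (h : ND Q W) (h4 : finrank F W = 4) (hT : HasTS Q W) :
    ∃ e f u w, HB Q W e f u w := by
  obtain ⟨e, he, u, hu, qe, qu, eu, e0, hne⟩ := hT
  have H := ind_of_ne e0 hne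
  obtain ⟨u₀, hu₀, a1, a2⟩ := h.exists_dual he hu H
  obtain ⟨f₀, hf₀, b1, b2⟩ := h.exists_dual hu he H.symm
  have ue : polar Q u e = 0 := by rw [polar_comm]; exact eu
  obtain ⟨f, mf, qf, ef, uf⟩ : ∃ f ∈ W, Q f = 0 ∧ polar Q e f = 1 ∧ polar Q u f = 0 := by
    refine ⟨f₀ + (-Q f₀) • e, add_mem hf₀ (Submodule.smul_mem _ _ he), ?_, ?_, ?_⟩
    · rw [Q_add, QuadraticMap.map_smul, qe, polar_smul_right, polar_comm, b2]; simp
    · rw [polar_add_right, polar_smul_right, polar_sing qe, b2]; simp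
    · rw [polar_add_right, polar_smul_right, ue, b1]; simp
  have fe : polar Q f e = 1 := by rw [polar_comm]; exact ef
  have fu : polar Q f u = 0 := by rw [polar_comm]; exact uf
  obtain ⟨u₁, hu₁, c1, c2, c3⟩ : ∃ w ∈ W, polar Q e w = 0 ∧ polar Q f w = 0 ∧ polar Q u w = 1 := by
    refine ⟨u₀ + (-polar Q f u₀) • e, add_mem hu₀ (Submodule.smul_mem _ _ he), ?_, ?_, ?_⟩
    · rw [polar_add_right, polar_smul_right, polar_sing qe, a1]; simp
    · rw [polar_add_right, polar_smul_right, fe]; simp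
    · rw [polar_add_right, polar_smul_right, ue, a2]; simp
  obtain ⟨w, mw, qw, ew, fw, uw⟩ : ∃ w ∈ W, Q w = 0 ∧ polar Q e w = 0 ∧ polar Q f w = 0 ∧ polar Q u w = 1 := by
    refine ⟨u₁ + (-Q u₁) • u, add_mem hu₁ (Submodule.smul_mem _ _ hu), ?_, ?_, ?_, ?_⟩
    · rw [Q_add, QuadraticMap.map_smul, qu, polar_smul_right, polar_comm, c3]; simp
    · rw [polar_add_right, polar_smul_right, eu, c1]; simp
    · rw [polar_add_right, polar_smul_right, fu, c2]; simp
    · rw [polar_add_right, polar_smul_right, polar_sing qu, c3]; simp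
  refine ⟨e, f, u, w, he, mf, hu, mw, qe, qf, qu, qw, ef, eu, ew, fu, fw, uw, fun z hz => ?_⟩
  have we : polar Q w e = 0 := by rw [polar_comm]; exact ew
  have wf : polar Q w f = 0 := by rw [polar_comm]; exact fw
  have wu : polar Q w u = 1 := by rw [polar_comm]; exact uw
  have h1 : LinearIndependent F ![e, f, u, w] := by
    rw [Fintype.linearIndependent_iff]
    intro g hg
    rw [Fin.sum_univ_four] at hg
    have hg' : g 0 • e + g 1 • f + g 2 • u + g 3 • w = 0 := hg
    have k : ∀ y, g 0 * polar Q y e + g 1 * polar Q y f + g 2 * polar Q y u + g 3 * polar Q y w = 0 := fun y => by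
      have := congrArg (polar Q y) hg'
      simpa only [polar_add_right, polar_smul_right, smul_eq_mul, polar_zero_right] using this
    have k1 := k e
    have k2 := k f
    have k3 := k u
    have k4 := k w
    simp only [polar_sing qe, polar_sing qf, polar_sing qu, polar_sing qw, ef, eu, ew, fe, fu, fw, ue, uf, uw, we, wf,
      wu, mul_zero, mul_one, add_zero, zero_add] at k1 k2 k3 k4
    intro i
    fin_cases i
    exacts [k2, k1, k4, k3]
  have h3 : Submodule.span F (Set.range ![e, f, u, w]) = W := by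
    apply Submodule.eq_of_le_of_finrank_eq
    · rw [Submodule.span_le]
      rintro _ ⟨i, rfl⟩
      fin_cases i
      exacts [he, mf, hu, mw]
    · rw [finrank_span_eq_card h1, h4]
      rfl
  rw [← h3, Submodule.mem_span_range_iff_exists_fun] at hz
  obtain ⟨g, hg⟩ := hz
  rw [Fin.sum_univ_four] at hg
  exact ⟨g 0, g 1, g 2, g 3, hg.symm⟩

theorem HB.all {W : Submodule F V} {e f u w : V} (H : HB Q W e f u w) (hW : ND Q W) {M : Gam Q} {c : F}
    (hM : IsSS Q (RingEquiv.refl F) (c * c) M.1) (hMW : ∀ x ∈ W, M.1 x ∈ W) (e1 : M.1 e = c • e) (e2 : M.1 f = c • f)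
    (e3 : M.1 u = c • u) : ∀ x ∈ W, M.1 x = c • x := by
  refine hyp hW hM hMW H.mu H.qu fun z hz hz' => ?_
  obtain ⟨a, b, s, d, rfl⟩ := H.span z hz
  have ue : polar Q u e = 0 := by rw [polar_comm]; exact H.eu
  have uf : polar Q u f = 0 := by rw [polar_comm]; exact H.fu
  simp only [polar_add_right, polar_smul_right, ue, uf, polar_sing H.qu, H.uw, smul_eq_mul, mul_zero, mul_one,
    zero_add] at hz'
  rw [hz', zero_smul, add_zero, hM.add, hM.add, hM.smul, hM.smul, hM.smul, e1, e2, e3]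
  simp only [RingEquiv.refl_apply]
  module

theorem HB.e_ne {W : Submodule F V} {e f u w : V} (H : HB Q W e f u w) : e ≠ 0 := fun h =>
  zero_ne_one (α := F) (by rw [← H.ef, h, polar_zero_left])

theorem HB.f_ne {W : Submodule F V} {e f u w : V} (H : HB Q W e f u w) : f ≠ 0 := fun h =>
  zero_ne_one (α := F) (by rw [← H.ef, h, polar_zero_right])

theorem HB.q1 {W : Submodule F V} {e f u w : V} (H : HB Q W e f u w) : Q (e + f) = 1 := by
  rw [Q_add, H.qe, H.qf, H.ef, zero_add, zero_add]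

theorem HB.q2 {W : Submodule F V} {e f u w : V} (H : HB Q W e f u w) : Q (e + f + u) = 1 := by
  rw [Q_add, H.q1, H.qu, polar_add_left, H.eu, H.fu, add_zero, add_zero, add_zero]

theorem f3_three [Finite F] (h : Nat.card F = 3) : (3 : F) = 0 := by
  have h1 : Nat.card F • (1 : F) = 0 := card_nsmul_eq_zero'
  rw [h] at h1
  simpa using h1

end

theorem boxD3 : BoxD3 := by
  intro F V _ _ _ _ _ Q L W hQ h hD h4 hT hL hy
  obtain ⟨e, f, u, w, H⟩ := exists_hb (hD.ndG hQ 0) (h4 0) (hT 0)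
  obtain ⟨e', f', x, x', H'⟩ := exists_hb (hD.ndG hQ 1) (h4 1) (hT 1)
  have h01 : (0 : Fin 2) ≠ 1 := by decide
  have h3 : ∀ i, 3 ≤ finrank F (W i) := fun i => by rw [h4]; omega
  have m1 : e' + f' ∈ W 1 := add_mem H'.me H'.mf
  have m2 : e' + f' + x ∈ W 1 := add_mem m1 H'.mu
  have m3 : e + f + u ∈ W 0 := add_mem (add_mem H.me H.mf) H.mu
  have n1 : Q (e' + f') ≠ 0 := by rw [H'.q1]; exact one_ne_zero
  have n2 : Q (e' + f' + x) ≠ 0 := by rw [H'.q2]; exact one_ne_zero
  have n3 : Q (e + f + u) ≠ 0 := by rw [H.q2]; exact one_ne_zero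
  have q1 : Q (e' + f') = Q (e + (e' + f')) := by
    rw [Q_add e, H.qe, hD.orth 0 1 h01 _ H.me _ m1, zero_add, add_zero]
  have q2 : Q (e' + f' + x) = Q (f + (e' + f' + x)) := by
    rw [Q_add f, H.qf, hD.orth 0 1 h01 _ H.mf _ m2, zero_add, add_zero]
  have q3 : Q (e + f + u) = Q (e' + (e + f + u)) := by
    rw [Q_add e', H'.qe, hD.orth 1 0 h01.symm _ H'.me _ m3, zero_add, add_zero]
  have ma : e' + (-1 : F) • f' ∈ W 1 := add_mem H'.me (Submodule.smul_mem _ _ H'.mf)
  have mb : x + (-1 : F) • x' ∈ W 1 := add_mem H'.mu (Submodule.smul_mem _ _ H'.mw)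
  have qa : Q (e' + (-1 : F) • f') = -1 := by
    rw [Q_add, QuadraticMap.map_smul, H'.qe, H'.qf, polar_smul_right, H'.ef]; simp
  have qb : Q (x + (-1 : F) • x') = -1 := by
    rw [Q_add, QuadraticMap.map_smul, H'.qu, H'.qw, polar_smul_right, H'.uw]; simp
  have qa' : Q (e' + (-1 : F) • f') ≠ 0 := by rw [qa]; simp
  have hyL := hy _ ma _ mb qa' (qb.trans qa.symm)
  have fe : polar Q f' e' = 1 := by rw [polar_comm]; exact H'.ef
  have o1 : polar Q (e' + f') (e' + (-1 : F) • f') = 0 := by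
    simp only [polar_add_left, polar_add_right, polar_smul_right, polar_sing H'.qe, polar_sing H'.qf, H'.ef, fe]
    simp
  have o2 : polar Q (e' + f') (x + (-1 : F) • x') = 0 := by
    simp only [polar_add_left, polar_add_right, polar_smul_right, H'.eu, H'.ew, H'.fu, H'.fw]
    simp
  refine ⟨e + (e' + f'), e' + f', f + (e' + f' + x), e' + f' + x, e' + (e + f + u), e + f + u, e' + (-1 : F) • f',
    x + (-1 : F) • x', q1 ▸ n1, q1, q2 ▸ n2, q2, q3 ▸ n3, q3, qa', qb.trans qa.symm, ?_, hyL, ?_,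
    fun M hM c1 => fix_two hQ hD h3 hL h01 H.me m1 H.e_ne H.qe n1 hM c1, fun M hM c1 c2 c3 => ?_⟩
  · simp only [polar_add_left, polar_add_right, polar_smul_right, polar_smul_left, H'.eu, H'.ew, H'.fu, H'.fw, qa]
    intro e
    exact one_ne_zero (α := F) (by simp only [smul_zero, add_zero] at e; linear_combination -e - f3_three h)
  · rwa [cjv_comm (by rw [polar_add_left, o1, hD.orth 0 1 h01 _ H.me _ ma, add_zero])
      (by rw [polar_add_left, o2, hD.orth 0 1 h01 _ H.me _ mb, add_zero]) o1 o2]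
  have f1 := fix_two hQ hD h3 hL h01 H.me m1 H.e_ne H.qe n1 hM c1
  have f2 := fix_two hQ hD h3 hL h01 H.mf m2 H.f_ne H.qf n2 hM c2
  have f3 := fix_two hQ hD h3 hL h01.symm H'.me m3 H'.e_ne H'.qe n3 hM c3
  have hMW := no_swap hQ hD (hL M hM) (hL _ (inv_mem hM)) H.me m1 H.e_ne H.qe n1 f1
  obtain ⟨l, f1⟩ := f1
  obtain ⟨l2, f2⟩ := f2
  obtain ⟨l3, f3⟩ := f3
  obtain ⟨e1, e2⟩ := eig_two hQ hD h01 (hMW 0) (hMW 1) H.me m1 f1
  obtain ⟨e3, e4⟩ := eig_two hQ hD h01 (hMW 0) (hMW 1) H.mf m2 f2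
  obtain ⟨e5, e6⟩ := eig_two hQ hD h01.symm (hMW 1) (hMW 0) H'.me m3 f3
  obtain ⟨σ, k, hσ⟩ := M.2
  have hS := isSS_of_eig hσ (aut_small (by omega) σ) n1 e2
  have k1 : l = l2 := by
    have := hS.polar e f
    rw [e1, e3, polar_smul_left, polar_smul_right, H.ef, map_one, mul_one, smul_eq_mul, smul_eq_mul, mul_one] at this
    exact (mul_left_cancel₀ (left_ne_zero_of_mul hS.ne) this).symm
  have k2 : l = l3 := by
    have := hS.polar e' (e' + f')
    rw [e5, e2, polar_smul_left, polar_smul_right, polar_add_right, polar_sing H'.qe, H'.ef, zero_add, map_one,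
      mul_one, smul_eq_mul, smul_eq_mul, mul_one] at this
    exact (mul_right_cancel₀ (left_ne_zero_of_mul hS.ne) this).symm
  subst k1 k2
  have e7 : M.1 u = l • u := by rwa [gam_add, gam_add, e1, e3, smul_add, smul_add, add_right_inj] at e6
  have e8 : M.1 f' = l • f' := by rwa [gam_add, e5, smul_add, add_right_inj] at e2
  have e9 : M.1 x = l • x := by rwa [gam_add, e2, smul_add l (e' + f'), add_right_inj] at e4
  refine scal_of_dec hD (fun a x => hS.smul a x) (c := l) fun i => ?_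
  fin_cases i
  · exact H.all (hD.ndG hQ 0) hS (hMW 0) e1 e3 e7
  · exact H'.all (hD.ndG hQ 1) hS (hMW 1) e5 e8 e9

end Cfsg.Agent.SB.D4.G
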