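import Cfsg.Agent.SB.D4.GAD2
import Cfsg.Agent.SB.D4.GAD3

/-!
# S5765, `PΩ₈⁺(q)` with triality: four planes (helper52)
-/

set_option autoImplicit false
set_option linter.unusedSectionVars false

namespace Cfsg.Agent.SB.D4.G

open QuadraticMap Module Cfsg.Agent.LieClassical.OrthCore
  Cfsg.Agent.ClassicalGeometry.OrthSemi Cfsg.Agent.H989.OutOrth.Basic

section

variable {F V : Type} [Field F] [AddCommGroup V] [Module F V] {Q : QuadraticForm F V}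

theorem ND.eq_zero_of_two [Finite V] {W : Submodule F V} (h : ND Q W) (h2 : finrank F W = 2) {x y z : V} (hx : x ∈ W)
    (hy : y ∈ W) (H : Ind F x y) (hz : z ∈ W) (h3 : polar Q z x = 0) (h4 : polar Q z y = 0) : z = 0 := by
  refine h z hz fun w hw => ?_
  obtain ⟨s, t, rfl⟩ := span_two h2 hx hy H hw
  rw [polar_add_right, polar_smul_right, polar_smul_right, h3, h4, smul_zero, smul_zero, add_zero]

/-- avoiding a value -/
theorem ND.avoid [Finite F] [Finite V] {W : Submodule F V} (h : ND Q W) (h2 : finrank F W = 2) (h3 : 3 ≤ Nat.card F)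
    {u : V} (hu : u ∈ W) (hu0 : u ≠ 0) (c : F) : ∃ u' ∈ W, Ind F u u' ∧ c + Q u' ≠ 0 := by
  by_contra hcon
  push Not at hcon
  obtain ⟨y, hy, H⟩ := exists_ind h2.ge u hu0
  obtain ⟨g, hg0, hg1⟩ : ∃ g : F, g ≠ 0 ∧ g ≠ 1 := by
    by_contra hg
    push Not at hg
    have : Nat.card F = 2 := (Nat.card_eq_two_iff' (0 : F)).2 ⟨1, one_ne_zero, fun y hy => hg y hy⟩
    omega
  have k : ∀ t : F, c + (Q y + t * t * Q u + t * polar Q y u) = 0 := fun t => by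
    have := hcon _ (add_mem hy (Submodule.smul_mem _ t hu)) (H.add_right t)
    rwa [Q_add, QuadraticMap.map_smul, polar_smul_right, smul_eq_mul, smul_eq_mul] at this
  have k1 : Q u = 0 := by
    have e : g * (g - 1) * Q u = 0 := by linear_combination k g - g * k 1 + (g - 1) * k 0
    exact (mul_eq_zero.1 e).resolve_left (mul_ne_zero hg0 (sub_ne_zero.2 hg1))
  have k2 : polar Q y u = 0 := by linear_combination k 1 - k 0 - k1
  exact hu0 (h.eq_zero_of_two h2 hu hy H hu (polar_sing k1) (by rw [polar_comm]; exact k2))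

theorem _root_.Cfsg.Agent.SB.D4.Dec.polar_sumG {ι : Type} [Fintype ι] {P : ι → Submodule F V} (hD : Dec Q P) {x : ι → V} (hx : ∀ i, x i ∈ P i)
    {i : ι} {y : V} (hy : y ∈ P i) : polar Q (∑ j, x j) y = polar Q (x i) y := by
  rw [← polarBilin_apply_apply, map_sum, LinearMap.sum_apply, Finset.sum_eq_single i]
  · rfl
  · exact fun j _ hj => hD.orth j i hj _ (hx j) y hy
  · exact fun h => absurd (Finset.mem_univ i) h

theorem _root_.Cfsg.Agent.SB.D4.Dec.form_sumG {P : Fin 4 → Submodule F V} (hD : Dec Q P) {x : Fin 4 → V} (hx : ∀ i, x i ∈ P i) :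
    Q (∑ j, x j) = Q (x 0) + Q (x 1) + Q (x 2) + Q (x 3) := by
  have o : ∀ i j, i ≠ j → polar Q (x i) (x j) = 0 := fun i j h => hD.orth i j h _ (hx i) _ (hx j)
  rw [Fin.sum_univ_four, Q_add, Q_add, Q_add]
  simp only [polar_add_left, o 0 1 (by decide), o 0 2 (by decide), o 0 3 (by decide), o 1 2 (by decide),
    o 1 3 (by decide), o 2 3 (by decide), add_zero]

/-- a vector with exactly one zero component -/
theorem ga_fix {P : Fin 4 → Submodule F V} (hQ : Nondeg Q) (hD : Dec Q P) (h2 : ∀ i, finrank F (P i) = 2)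
    {L : Subgroup (Gam Q)} (hL : Prm L P) {x : Fin 4 → V} (hx : ∀ i, x i ∈ P i) {i : Fin 4} (h0 : x i = 0)
    (h1 : ∀ j, j ≠ i → x j ≠ 0) (hv : Q (∑ j, x j) ≠ 0) {u : V} (hu : u ∈ P 0) {M : Gam Q} (hM : M ∈ L)
    (hc : cjv (∑ j, x j) u M ∈ L) : Fix M (∑ j, x j) ∧ ∀ y ∈ P i, M.1 y ∈ P i := by
  have k : ∀ j, j ≠ i → ∃ z ∈ P j, polar Q (∑ j, x j) z ≠ 0 := fun j hj => by
    obtain ⟨z, hz, hz'⟩ := (hD.ndG hQ j).exists_ne (hx j) (h1 j hj)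
    exact ⟨z, hz, by rwa [hD.polar_sumG hx hz]⟩
  have d : ∀ i : Fin 4, i + 1 ≠ i + 2 ∧ i + 1 ≠ i + 3 ∧ i + 2 ≠ i + 3 ∧ i + 1 ≠ i ∧ i + 2 ≠ i ∧ i + 3 ≠ i := by decide
  obtain ⟨d1, d2, d3, d4, d5, d6⟩ := d i
  have f := fix_planes hQ hD (fun i => (h2 i).ge) hL hv hu d1 d2 d3 (k _ d4) (k _ d5) (k _ d6) hM hc
  refine ⟨f, fix_block hQ hD (hL M hM) (hL _ (inv_mem hM)) f (exists_ne_zero (by rw [h2]; omega)) (fun y hy => ?_) k⟩
  rw [hD.polar_sumG hx hy, h0, polar_zero_left]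

theorem eig_plane [Finite V] {W : Submodule F V} (h2 : finrank F W = 2) {x y : V} (hx : x ∈ W) (hy : y ∈ W)
    (H : Ind F x y) {M : Gam Q} (hM : ∀ (a : F) (x : V), M.1 (a • x) = a • M.1 x) {c : F} (e1 : M.1 x = c • x)
    (e2 : M.1 y = c • y) : ∀ z ∈ W, M.1 z = c • z := by
  intro z hz
  obtain ⟨s, t, rfl⟩ := span_two h2 hx hy H hz
  rw [gam_add, hM, hM, e1, e2]
  module

end

theorem boxA : BoxA := by
  intro F V _ _ _ _ _ Q L P hQ hD h2 hL hq hy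
  have hav : ∀ i j k, ∀ u ∈ P i, ∀ x ∈ P j, ∀ y ∈ P k, u ≠ 0 → x ≠ 0 → y ≠ 0 →
      ∃ u' ∈ P i, Ind F u u' ∧ Q x + Q y + Q u' ≠ 0 := by
    intro i j k u hu x hx y hy hu0 hx0 hy0
    by_cases h3 : 3 ≤ Nat.card F
    · exact (hD.ndG hQ i).avoid (h2 i) h3 hu hu0 _
    have hA := hq.resolve_left h3
    have h : Nat.card F = 2 := by have := Finite.one_lt_card (α := F); omega
    obtain ⟨u', hu', H⟩ := exists_ind (h2 i).ge u hu0
    refine ⟨u', hu', H, ?_⟩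
    rw [f2_val h (hA j) hx hx0, f2_val h (hA k) hy hy0, f2_val h (hA i) hu' H.right_ne, f2_two h, zero_add]
    exact one_ne_zero
  obtain ⟨g, hg0, hg⟩ := exists_gen F
  obtain ⟨t1, mt1, qt1⟩ := (hD.ndG hQ 2).exists_nonsing (by rw [h2]; omega)
  have nt1 : t1 ≠ 0 := fun h0 => qt1 (by rw [h0, map_zero])
  obtain ⟨p1, mp1, qp1⟩ := (hD.ndG hQ 0).exists_val (h2 0).ge (g * Q t1)
  have np1 : p1 ≠ 0 := fun h0 => mul_ne_zero hg0 qt1 (by rw [← qp1, h0, map_zero])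
  obtain ⟨s0, ms0, ns0⟩ := exists_ne_zero (W := P 1) (by rw [h2]; omega)
  obtain ⟨s1, ms1, Hs0, q1⟩ := hav 1 0 2 s0 ms0 p1 mp1 t1 mt1 ns0 np1 nt1
  obtain ⟨s2, ms2, Hs⟩ := exists_ind (h2 1).ge s1 Hs0.right_ne
  obtain ⟨p2, mp2, Hp⟩ := exists_ind (h2 0).ge p1 np1
  obtain ⟨u0, mu0, nu0⟩ := exists_ne_zero (W := P 3) (by rw [h2]; omega)
  obtain ⟨u2, mu2, Hu0, q2⟩ := hav 3 0 1 u0 mu0 p2 mp2 s2 ms2 nu0 Hp.right_ne Hs.right_ne
  obtain ⟨u3, mu3, Hu⟩ := exists_ind (h2 3).ge u2 Hu0.right_ne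
  obtain ⟨t3, mt3, Ht, q3⟩ := hav 2 1 3 t1 mt1 (s1 + s2) (add_mem ms1 ms2) u3 mu3 nt1 Hs.add_ne Hu.right_ne
  set X1 : Fin 4 → V := ![p1, s1, t1, 0] with hX1
  set X2 : Fin 4 → V := ![p2, s2, 0, u2] with hX2
  set X3 : Fin 4 → V := ![0, s1 + s2, t3, u3] with hX3
  have m1 : ∀ i, X1 i ∈ P i := fun i => by fin_cases i; exacts [mp1, ms1, mt1, zero_mem _]
  have m2 : ∀ i, X2 i ∈ P i := fun i => by fin_cases i; exacts [mp2, ms2, zero_mem _, mu2]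
  have m3 : ∀ i, X3 i ∈ P i := fun i => by fin_cases i; exacts [zero_mem _, add_mem ms1 ms2, mt3, mu3]
  have n1 : ∀ j, j ≠ 3 → X1 j ≠ 0 := fun j hj => by fin_cases j; exacts [np1, Hs.left_ne, nt1, absurd rfl hj]
  have n2 : ∀ j, j ≠ 2 → X2 j ≠ 0 := fun j hj => by
    fin_cases j; exacts [Hp.right_ne, Hs.right_ne, absurd rfl hj, Hu.left_ne]
  have n3 : ∀ j, j ≠ 0 → X3 j ≠ 0 := fun j hj => by
    fin_cases j; exacts [absurd rfl hj, Hs.add_ne, Ht.right_ne, Hu.right_ne]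
  have r1 : Q (∑ j, X1 j) ≠ 0 := by
    rw [hD.form_sumG m1]
    show Q p1 + Q s1 + Q t1 + Q 0 ≠ 0
    rw [map_zero]
    exact fun e => q1 (by linear_combination e)
  have r2 : Q (∑ j, X2 j) ≠ 0 := by
    rw [hD.form_sumG m2]
    show Q p2 + Q s2 + Q 0 + Q u2 ≠ 0
    rw [map_zero]
    exact fun e => q2 (by linear_combination e)
  have r3 : Q (∑ j, X3 j) ≠ 0 := by
    rw [hD.form_sumG m3]
    show Q 0 + Q (s1 + s2) + Q t3 + Q u3 ≠ 0
    rw [map_zero]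
    exact fun e => q3 (by linear_combination e)
  obtain ⟨c1, mc1, qc1⟩ := (hD.ndG hQ 0).exists_val (h2 0).ge (Q (∑ j, X1 j))
  obtain ⟨c2, mc2, qc2⟩ := (hD.ndG hQ 0).exists_val (h2 0).ge (Q (∑ j, X2 j))
  obtain ⟨c3, mc3, qc3⟩ := (hD.ndG hQ 0).exists_val (h2 0).ge (Q (∑ j, X3 j))
  have o3 : ∀ z ∈ P 3, polar Q (∑ j, X1 j) z = 0 := fun z hz => by
    rw [hD.polar_sumG m1 hz]
    exact polar_zero_left _ _
  obtain ⟨a, b, qa, qb, hab, hyL, hyc⟩ : ∃ a b, Q a ≠ 0 ∧ Q b = Q a ∧ polar Q a b ^ 2 ≠ 4 * Q a ^ 2 ∧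
      rr Q a * rr Q b ∈ L ∧ cjv (∑ j, X1 j) c1 (rr Q a * rr Q b) ∈ L := by
    rcases hy with ⟨a, ha, b, hb, qa, qb, hab, hyL⟩ | ⟨h20, hy⟩
    · refine ⟨a, b, qa, qb, hab, hyL, ?_⟩
      rwa [cjv_comm (o3 a ha) (o3 b hb) (hD.orth 0 3 (by decide) _ mc1 a ha) (hD.orth 0 3 (by decide) _ mc1 b hb)]
    · set b := t3 + (-(polar Q t1 t3 / (2 * Q t1))) • t1 with hb
      have mb : b ∈ P 2 := add_mem mt3 (Submodule.smul_mem _ _ mt1)
      have Hb : Ind F t1 b := Ht.add_right _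
      have ob : polar Q t1 b = 0 := by
        rw [hb, polar_add_right, polar_smul_right, polar_self, smul_eq_mul, nsmul_eq_mul, Nat.cast_ofNat, neg_mul,
          div_mul_cancel₀ _ (mul_ne_zero h20 qt1), add_neg_cancel]
      have qb : Q b ≠ 0 := fun e => Hb.right_ne
        ((hD.ndG hQ 2).eq_zero_of_two (h2 2) mt1 mb Hb mb (by rw [polar_comm]; exact ob) (polar_sing e))
      obtain ⟨a, ha, qa⟩ := (hD.ndG hQ 3).exists_val (h2 3).ge (Q b)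
      have hyL := hy a ha b mb (qa ▸ qb) qa.symm
      refine ⟨a, b, qa ▸ qb, qa.symm, ?_, hyL, ?_⟩
      · rw [hD.orth 3 2 (by decide) a ha b mb, qa]
        intro e
        have e' : (2 * Q b) ^ 2 = 0 := by linear_combination -e
        exact mul_ne_zero h20 qb (pow_eq_zero_iff two_ne_zero |>.1 e')
      · rwa [cjv_comm (o3 a ha) (by rw [hD.polar_sumG m1 mb]; exact ob) (hD.orth 0 3 (by decide) _ mc1 a ha)
          (hD.orth 0 2 (by decide) _ mc1 b mb)]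
  refine ⟨_, c1, _, c2, _, c3, a, b, r1, qc1, r2, qc2, r3, qc3, qa, qb, hab, hyL, hyc,
    fun M hM k1 => (ga_fix hQ hD h2 hL m1 (i := 3) rfl n1 r1 mc1 hM k1).1, fun M hM k1 k2 k3 => ?_⟩
  obtain ⟨⟨l1, f1⟩, b3⟩ := ga_fix hQ hD h2 hL m1 (i := 3) rfl n1 r1 mc1 hM k1
  obtain ⟨⟨l2, f2⟩, b2⟩ := ga_fix hQ hD h2 hL m2 (i := 2) rfl n2 r2 mc2 hM k2
  obtain ⟨⟨l, f3⟩, b0⟩ := ga_fix hQ hD h2 hL m3 (i := 0) rfl n3 r3 mc3 hM k3
  have b1 : ∀ y ∈ P 1, M.1 y ∈ P 1 := by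
    obtain ⟨j, hj⟩ := hL M hM 1
    by_cases e : j = 1
    · exact e ▸ hj
    exfalso
    have bj : ∀ y ∈ P j, M.1 y ∈ P j := by fin_cases j; exacts [b0, absurd rfl e, b2, b3]
    have h1 := Pm.inv_mem hQ hD (hL _ (inv_mem hM)) (exists_ne_zero (by rw [h2]; omega)) bj _ (hj s0 ms0)
    rw [gam_inv] at h1
    exact ns0 (hD.infG hQ e h1 ms0)
  have hMP : ∀ i, ∀ y ∈ P i, M.1 y ∈ P i := fun i => by fin_cases i; exacts [b0, b1, b2, b3]
  have e1 := eig_comp hQ hD hMP m1 f1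
  have e2 := eig_comp hQ hD hMP m2 f2
  have e3 := eig_comp hQ hD hMP m3 f3
  have es1 : M.1 s1 = l1 • s1 := e1 1
  have es2 : M.1 s2 = l2 • s2 := e2 1
  have es3 : M.1 (s1 + s2) = l • (s1 + s2) := e3 1
  rw [gam_add, es1, es2] at es3
  obtain ⟨rfl, rfl⟩ := Hs.eig es3
  obtain ⟨σ, k, hσ⟩ := M.2
  have ep1 : M.1 p1 = l2 • p1 := e1 0
  have et1 : M.1 t1 = l2 • t1 := e1 2
  have k1 := hσ.form p1
  have k2 := hσ.form t1
  rw [ep1, QuadraticMap.map_smul, qp1, map_mul, smul_eq_mul] at k1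
  rw [et1, QuadraticMap.map_smul, smul_eq_mul] at k2
  have k3 : σ g = g := by
    have e : (σ g - g) * (k * σ (Q t1)) = 0 := by linear_combination g * k2 - k1
    exact sub_eq_zero.1 ((mul_eq_zero.1 e).resolve_right (mul_ne_zero hσ.ne (by simpa using qt1)))
  have lin : ∀ (a : F) (x : V), M.1 (a • x) = a • M.1 x := fun a x => by rw [hσ.smul, hg σ k3]
  refine scal_of_dec hD lin (c := l2) fun i => ?_
  fin_cases i
  · exact eig_plane (h2 0) mp1 mp2 Hp lin ep1 (e2 0)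
  · exact eig_plane (h2 1) ms1 ms2 Hs lin es1 es2
  · exact eig_plane (h2 2) mt1 mt3 Ht lin et1 (e3 2)
  · exact eig_plane (h2 3) mu2 mu3 Hu lin (e2 3) (e3 3)

end Cfsg.Agent.SB.D4.G
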