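import Cfsg.Agent.SB.D4.LA

/-!
# S5765, `PΩ₈⁺(q)` with triality: `O₄⁺(2) ≀ S₂` (helper52)
-/

set_option autoImplicit false
set_option linter.unusedSectionVars false

namespace Cfsg.Agent.SB.D4.G

open QuadraticMap Module Cfsg.Agent.LieClassical.OrthCore
  Cfsg.Agent.ClassicalGeometry.OrthSemi Cfsg.Agent.H989.OutOrth.Basic

section

variable {F V : Type} [Field F] [AddCommGroup V] [Module F V] {Q : QuadraticForm F V}

theorem f2_eq_one (h : Nat.card F = 2) {c : F} (hc : c ≠ 0) : c = 1 := by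
  obtain ⟨y, -, hy⟩ := (Nat.card_eq_two_iff' (0 : F)).1 h
  exact (hy c hc).trans (hy 1 one_ne_zero).symm

theorem f2_two (h : Nat.card F = 2) : (1 : F) + 1 = 0 := by
  by_contra h0
  exact one_ne_zero (add_eq_left.1 (f2_eq_one h h0))

theorem f2_val (h : Nat.card F = 2) {W : Submodule F V} (hW : Aniso Q W) {x : V} (hx : x ∈ W) (h0 : x ≠ 0) :
    Q x = 1 := f2_eq_one h fun e => h0 (hW x hx e)

theorem f2_self (h : Nat.card F = 2) (x : V) : polar Q x x = 0 := by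
  rw [polar_self, two_smul, ← one_mul (Q x), ← add_mul, f2_two h, zero_mul]

theorem f2_polar (h : Nat.card F = 2) {W : Submodule F V} (hW : Aniso Q W) {x y : V} (hx : x ∈ W) (hy : y ∈ W)
    (H : Ind F x y) : polar Q x y = 1 := by
  have h1 := Q_add (Q := Q) x y
  rw [f2_val h hW (add_mem hx hy) H.add_ne, f2_val h hW hx H.left_ne, f2_val h hW hy H.right_ne, f2_two h,
    zero_add] at h1
  exact h1.symm

theorem d2_half [Finite V] (h : Nat.card F = 2) {P P' : Submodule F V} (hP : Aniso Q P) (hP' : Aniso Q P')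
    (d1 : finrank F P = 2) (d2 : finrank F P' = 2) (ho : ∀ x ∈ P, ∀ y ∈ P', polar Q x y = 0) (hW : ND Q (P ⊔ P'))
    {a b c d : V} (ha : a ∈ P) (hb : b ∈ P) (hc : c ∈ P') (hd : d ∈ P') (H : Ind F a b) (H' : Ind F c d) {M : Gam Q}
    (hM : IsSS Q (RingEquiv.refl F) (1 * 1) M.1) (hMW : ∀ x ∈ P ⊔ P', M.1 x ∈ P ⊔ P') (e1 : M.1 a = a)
    (e2 : M.1 c = c) (e3 : M.1 (b + d) = b + d) : ∀ x ∈ P ⊔ P', M.1 x = (1 : F) • x := by
  refine hyp hW hM hMW (u := a + c) (Submodule.add_mem_sup ha hc) ?_ fun z hz hz' => ?_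
  · rw [Q_add, f2_val h hP ha H.left_ne, f2_val h hP' hc H'.left_ne, ho a ha c hc, f2_two h, add_zero]
  obtain ⟨x, hx, y, hy, rfl⟩ := Submodule.mem_sup.1 hz
  obtain ⟨s, t, rfl⟩ := span_two d1 ha hb H hx
  obtain ⟨s', t', rfl⟩ := span_two d2 hc hd H' hy
  have o1 : polar Q c a = 0 := by rw [polar_comm]; exact ho a ha c hc
  have o2 : polar Q c b = 0 := by rw [polar_comm]; exact ho b hb c hc
  simp only [polar_add_left, polar_add_right, polar_smul_right, f2_self h, f2_polar h hP ha hb H,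
    f2_polar h hP' hc hd H', ho a ha c hc, ho a ha d hd, o1, o2, smul_eq_mul, mul_zero, mul_one, zero_add,
    add_zero] at hz'
  have ht : t' = t := by linear_combination hz' - t * f2_two h
  subst ht
  have e : s • a + t' • b + (s' • c + t' • d) = s • a + s' • c + t' • (b + d) := by module
  rw [e, hM.add, hM.add, hM.smul, hM.smul, hM.smul, e1, e2, e3, one_smul]
  rfl

theorem finrank_sup_of [Finite V] {ι : Type} {P : ι → Submodule F V} (hQ : Nondeg Q) (hD : Dec Q P) {i j : ι}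
    (hij : i ≠ j) : finrank F ↥(P i ⊔ P j) = finrank F (P i) + finrank F (P j) := by
  have h1 := Submodule.finrank_sup_add_finrank_inf_eq (P i) (P j)
  have h2 : P i ⊓ P j = ⊥ := (Submodule.eq_bot_iff _).2 fun x hx => hD.infG hQ hij hx.1 hx.2
  rwa [h2, finrank_bot, add_zero] at h1

theorem dec_pair {P : Fin 4 → Submodule F V} (hD : Dec Q P) : Dec Q ![P 0 ⊔ P 1, P 2 ⊔ P 3] := by
  have key : ∀ x ∈ P 0 ⊔ P 1, ∀ y ∈ P 2 ⊔ P 3, polar Q x y = 0 := by
    intro x hx y hy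
    obtain ⟨a, ha, b, hb, rfl⟩ := Submodule.mem_sup.1 hx
    obtain ⟨c, hc, d, hd, rfl⟩ := Submodule.mem_sup.1 hy
    simp only [polar_add_left, polar_add_right, hD.orth 0 2 (by decide) a ha c hc, hD.orth 0 3 (by decide) a ha d hd,
      hD.orth 1 2 (by decide) b hb c hc, hD.orth 1 3 (by decide) b hb d hd, add_zero]
  constructor
  · intro i j hij x hx y hy
    fin_cases i <;> fin_cases j
    · exact absurd rfl hij
    · exact key x hx y hy
    · rw [polar_comm]; exact key y hy x hx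
    · exact absurd rfl hij
  · rw [eq_top_iff, ← hD.span]
    refine iSup_le fun i => ?_
    fin_cases i
    · exact le_iSup_of_le 0 le_sup_left
    · exact le_iSup_of_le 0 le_sup_right
    · exact le_iSup_of_le 1 le_sup_left
    · exact le_iSup_of_le 1 le_sup_right

end

theorem boxD2 : BoxD2 := by
  intro F V _ _ _ _ _ Q L P hQ h hD h2 hA hL hy
  have bas : ∀ i, ∃ x ∈ P i, ∃ y ∈ P i, Ind F x y := fun i => by
    obtain ⟨x, hx, hx0⟩ := exists_ne_zero (W := P i) (by rw [h2]; omega)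
    obtain ⟨y, hy, H⟩ := exists_ind (W := P i) (by rw [h2]) x hx0
    exact ⟨x, hx, y, hy, H⟩
  obtain ⟨a', ha', b', hb', H0⟩ := bas 0
  obtain ⟨c', hc', d', hd', H1⟩ := bas 1
  obtain ⟨a, ha, b, hb, H2⟩ := bas 2
  obtain ⟨c, hc, d, hd, H3⟩ := bas 3
  have hD' := dec_pair hD
  set W : Fin 2 → Submodule F V := ![P 0 ⊔ P 1, P 2 ⊔ P 3] with hWd
  have h01 : (0 : Fin 2) ≠ 1 := by decide
  have h3 : ∀ i, 3 ≤ finrank F (W i) := fun i => by
    fin_cases i
    · exact (show 3 ≤ finrank F ↥(P 0 ⊔ P 1) by rw [finrank_sup_of hQ hD (by decide), h2, h2]; omega)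
    · exact (show 3 ≤ finrank F ↥(P 2 ⊔ P 3) by rw [finrank_sup_of hQ hD (by decide), h2, h2]; omega)
  have sing : ∀ i j, i ≠ j → ∀ x ∈ P i, ∀ y ∈ P j, x ≠ 0 → y ≠ 0 → x + y ≠ 0 ∧ Q (x + y) = 0 := by
    intro i j hij x hx y hy hx0 hy0
    refine ⟨(hD.indG hQ hij hx hy hx0 hy0).add_ne, ?_⟩
    rw [Q_add, f2_val h (hA i) hx hx0, f2_val h (hA j) hy hy0, hD.orth i j hij x hx y hy, f2_two h, add_zero]
  obtain ⟨n1, s1⟩ := sing 0 1 (by decide) a' ha' c' hc' H0.left_ne H1.left_ne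
  obtain ⟨n2, s2⟩ := sing 0 1 (by decide) b' hb' d' hd' H0.right_ne H1.right_ne
  obtain ⟨n3, s3⟩ := sing 2 3 (by decide) b hb d hd H2.right_ne H3.right_ne
  have m1 : a' + c' ∈ W 0 := Submodule.add_mem_sup ha' hc'
  have m2 : b' + d' ∈ W 0 := Submodule.add_mem_sup hb' hd'
  have m3 : b + d ∈ W 1 := Submodule.add_mem_sup hb hd
  have k1 : a ∈ W 1 := Submodule.mem_sup_left ha
  have k2 : c ∈ W 1 := Submodule.mem_sup_right hc
  have k3 : a' ∈ W 0 := Submodule.mem_sup_left ha'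
  have qa : Q a ≠ 0 := fun e => H2.left_ne (hA 2 a ha e)
  have qc : Q c ≠ 0 := fun e => H3.left_ne (hA 3 c hc e)
  have qa' : Q a' ≠ 0 := fun e => H0.left_ne (hA 0 a' ha' e)
  have q1 : Q a = Q (a' + c' + a) := by rw [Q_add, s1, hD'.orth 0 1 h01 _ m1 _ k1, zero_add, add_zero]
  have q2 : Q c = Q (b' + d' + c) := by rw [Q_add, s2, hD'.orth 0 1 h01 _ m2 _ k2, zero_add, add_zero]
  have q3 : Q a' = Q (b + d + a') := by rw [Q_add, s3, hD'.orth 1 0 h01.symm _ m3 _ k3, zero_add, add_zero]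
  have hyL := hy c hc d hd H3.left_ne H3.right_ne
  have o : ∀ z ∈ P 3, polar Q (a' + c' + a) z = 0 := fun z hz => by
    rw [polar_add_left, hD'.orth 0 1 h01 _ m1 z (Submodule.mem_sup_right hz), hD.orth 2 3 (by decide) a ha z hz,
      add_zero]
  refine ⟨a' + c' + a, a, b' + d' + c, c, b + d + a', a', c, d, q1 ▸ qa, q1, q2 ▸ qc, q2, q3 ▸ qa', q3, qc, ?_, ?_,
    hyL, ?_, fun M hM c1 => fix_two hQ hD' h3 hL h01 m1 k1 n1 s1 qa hM c1, fun M hM c1 c2 c3 => ?_⟩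
  · rw [f2_val h (hA 3) hc H3.left_ne, f2_val h (hA 3) hd H3.right_ne]
  · rw [f2_polar h (hA 3) hc hd H3, f2_val h (hA 3) hc H3.left_ne]
    intro e
    exact one_ne_zero (α := F) (by linear_combination e + 2 * f2_two h)
  · rwa [cjv_comm (o c hc) (o d hd) (hD.orth 2 3 (by decide) a ha c hc) (hD.orth 2 3 (by decide) a ha d hd)]
  have f1 := fix_two hQ hD' h3 hL h01 m1 k1 n1 s1 qa hM c1
  have f2 := fix_two hQ hD' h3 hL h01 m2 k2 n2 s2 qc hM c2
  have f3 := fix_two hQ hD' h3 hL h01.symm m3 k3 n3 s3 qa' hM c3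
  have hMW := no_swap hQ hD' (hL M hM) (hL _ (inv_mem hM)) m1 k1 n1 s1 qa f1
  obtain ⟨l1, f1⟩ := f1
  obtain ⟨l2, f2⟩ := f2
  obtain ⟨l3, f3⟩ := f3
  obtain ⟨e1, e2⟩ := eig_two hQ hD' h01 (hMW 0) (hMW 1) m1 k1 f1
  obtain ⟨e3, e4⟩ := eig_two hQ hD' h01 (hMW 0) (hMW 1) m2 k2 f2
  obtain ⟨e5, e6⟩ := eig_two hQ hD' h01.symm (hMW 1) (hMW 0) m3 k3 f3
  obtain rfl := f2_eq_one h (eig_ne M n1 e1)
  obtain rfl := f2_eq_one h (eig_ne M n2 e3)
  obtain rfl := f2_eq_one h (eig_ne M n3 e5)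
  obtain ⟨σ, k, hσ⟩ := M.2
  have hS := isSS_of_eig hσ (aut_small (by omega) σ) qa e2
  rw [one_smul] at e1 e2 e3 e4 e5 e6
  have e7 : M.1 c' = c' := by rwa [gam_add, e6, add_right_inj] at e1
  refine scal_of_dec hD' (fun a x => hS.smul a x) (c := 1) fun i => ?_
  fin_cases i
  · exact d2_half h (hA 0) (hA 1) (h2 0) (h2 1) (hD.orth 0 1 (by decide)) (hD'.ndG hQ 0) ha' hb' hc' hd' H0 H1 hS
      (hMW 0) e6 e7 e3
  · exact d2_half h (hA 2) (hA 3) (h2 2) (h2 3) (hD.orth 2 3 (by decide)) (hD'.ndG hQ 1) ha hb hc hd H2 H3 hS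
      (hMW 1) e2 e4 e5

end Cfsg.Agent.SB.D4.G
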