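import Cfsg.Agent.SB.D4.LA

/-!
# S5765, `PΩ₈⁺(q)` with triality: the torus `(q² + 1)²` (helper52)
-/

set_option autoImplicit false
set_option linter.unusedSectionVars false

namespace Cfsg.Agent.SB.D4.G

open QuadraticMap Module Cfsg.Agent.LieClassical.OrthCore
  Cfsg.Agent.ClassicalGeometry.OrthSemi Cfsg.Agent.H989.OutOrth.Basic

section

variable {F V : Type} [Field F] [AddCommGroup V] [Module F V] {Q : QuadraticForm F V}

theorem gcb_pow (z : V ≃ₗ[F] V) {a : V} {c : F} (h : z a = c • a) (n : ℕ) : (z ^ n) a = c ^ n • a := by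
  induction n with
  | zero => simp
  | succ n ih => rw [pow_succ, LinearEquiv.mul_apply, h, map_smul, ih, smul_smul, pow_succ']

theorem gcb_eq {X : Subgroup (V ≃ₗ[F] V)} {r : ℕ} (h1 : ∀ x ∈ X, x ^ r = 1) (h2 : ∀ c : F, c ^ r = 1 → c = 1)
    {y y' : V ≃ₗ[F] V} (hy : y ∈ X) (hy' : y' ∈ X) {a : V} (ha : a ≠ 0) {c d : F} (hc : c ≠ 0)
    (h : c • y' a = d • y a) : c = d := by
  have h3 : (y⁻¹ * y') a = (c⁻¹ * d) • a := by
    have e : y' a = (c⁻¹ * d) • y a := by rw [mul_smul, ← h, smul_smul, inv_mul_cancel₀ hc, one_smul]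
    rw [LinearEquiv.mul_apply, e, map_smul, ← LinearEquiv.mul_apply, inv_mul_cancel, LinearEquiv.coe_one, id]
  have h4 := gcb_pow _ h3 r
  rw [h1 _ (mul_mem (inv_mem hy) hy'), LinearEquiv.coe_one, id] at h4
  have h5 : (c⁻¹ * d) ^ r = 1 := by
    have e : (1 - (c⁻¹ * d) ^ r) • a = 0 := by rw [sub_smul, one_smul, ← h4, sub_self]
    exact (sub_eq_zero.1 ((smul_eq_zero.1 e).resolve_right ha)).symm
  exact (inv_mul_eq_one₀ hc).1 (h2 _ h5)

theorem gcb_all {X : Subgroup (V ≃ₗ[F] V)} (hc : ∀ x ∈ X, ∀ y ∈ X, x * y = y * x) {W : Submodule F V}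
    (hX : ∀ x ∈ X, ∀ w ∈ W, x w ∈ W) (h1 : ∀ U ≤ W, (∀ x ∈ X, ∀ w ∈ U, x w ∈ U) → U = ⊥ ∨ U = W)
    {x : V ≃ₗ[F] V} (hx : x ∈ X) (h2 : ∀ U ≤ W, (∀ w ∈ U, x w ∈ U) → U = ⊥ ∨ U = W) {M : Gam Q}
    (hM : ∀ (a : F) (x : V), M.1 (a • x) = a • M.1 x) (hMW : ∀ w ∈ W, M.1 w ∈ W) (hx' : conjLin M x ∈ X)
    {a : V} (ha : a ∈ W) (ha0 : a ≠ 0) {c : F} (e1 : M.1 a = c • a) (e2 : M.1 (x a) = c • x a) :
    ∀ w ∈ W, M.1 w = c • w := by
  have hc0 := eig_ne M ha0 e1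
  have e3 : conjLin M x a = x a := by
    have e := conjLin_apply' M x a
    rw [e1, e2, map_smul] at e
    exact smul_right_injective V hc0 e
  have k1 : ∀ w ∈ W, conjLin M x w = x w := by
    have := h1 (W ⊓ LinearMap.eqLocus (conjLin M x).toLinearMap x.toLinearMap) inf_le_left (by
      rintro y hy w ⟨hw, hw'⟩
      refine ⟨hX y hy w hw, ?_⟩
      have hw2 : conjLin M x w = x w := hw'
      show conjLin M x (y w) = x (y w)
      rw [← LinearEquiv.mul_apply, hc _ hx' y hy, LinearEquiv.mul_apply, hw2, ← LinearEquiv.mul_apply, hc y hy x hx,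
        LinearEquiv.mul_apply])
    rcases this with h | h
    · exact absurd ((Submodule.eq_bot_iff _).1 h a ⟨ha, e3⟩) ha0
    · intro w hw
      rw [← h] at hw
      exact hw.2
  have := h2 (W ⊓ eigS M hM c) inf_le_left (by
    rintro w ⟨hw, hw'⟩
    refine ⟨hX x hx w hw, ?_⟩
    have hw2 : M.1 w = c • w := hw'
    show M.1 (x w) = c • x w
    rw [← conjLin_apply', k1 _ (hMW w hw), hw2, map_smul])
  rcases this with h | h
  · exact absurd ((Submodule.eq_bot_iff _).1 h a ⟨ha, e1⟩) ha0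
  · intro w hw
    rw [← h] at hw
    exact hw.2

end

theorem boxB : BoxB := by
  intro F V _ _ _ _ _ Q L W X r hQ hD h4 hL hO hc hr hr' hX hnt hirr hirr' hN
  have h01 : (0 : Fin 2) ≠ 1 := by decide
  obtain ⟨a, ha, ha0, hQa⟩ := exists_sing (Q := Q) (W := W 0) (by rw [h4]; omega)
  obtain ⟨b, hb, hQb⟩ := (hD.ndG hQ 1).exists_nonsing (by rw [h4]; omega)
  obtain ⟨x, hx, hx'⟩ := hnt 0
  obtain ⟨y, hy, hy'⟩ := hnt 1
  obtain ⟨g, hg0, hg⟩ := exists_gen F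
  have hb0 : b ≠ 0 := fun h0 => hQb (by rw [h0, map_zero])
  have ma : x a ∈ W 0 := hX x hx 0 a ha
  have mb : g • y b ∈ W 1 := Submodule.smul_mem _ _ (hX y hy 1 b hb)
  have qa : Q (x a) = 0 := by rw [hO hx a, hQa]
  have qb : Q (g • y b) ≠ 0 := by
    rw [QuadraticMap.map_smul, hO hy b, smul_eq_mul]
    exact mul_ne_zero (mul_ne_zero hg0 hg0) hQb
  have xa0 : x a ≠ 0 := by simpa using ha0
  have q1 : Q b = Q (a + b) := by rw [Q_add, hQa, hD.orth 0 1 h01 a ha b hb, zero_add, add_zero]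
  have q2 : Q (g • y b) = Q (x a + g • y b) := by rw [Q_add, qa, hD.orth 0 1 h01 _ ma _ mb, zero_add, add_zero]
  refine ⟨a + b, b, x a + g • y b, g • y b, q1 ▸ hQb, q1, q2 ▸ qb, q2, fun M hM c1 c2 => ?_⟩
  have h3 : ∀ i, 3 ≤ finrank F (W i) := fun i => by rw [h4]; omega
  have f1 := fix_two hQ hD h3 hL h01 ha hb ha0 hQa hQb hM c1
  have f2 := fix_two hQ hD h3 hL h01 ma mb xa0 qa qb hM c2
  have hMW := no_swap hQ hD (hL M hM) (hL _ (inv_mem hM)) ha hb ha0 hQa hQb f1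
  obtain ⟨l, f1⟩ := f1
  obtain ⟨m, f2⟩ := f2
  obtain ⟨e1, e2⟩ := eig_two hQ hD h01 (hMW 0) (hMW 1) ha hb f1
  obtain ⟨e3, e4⟩ := eig_two hQ hD h01 (hMW 0) (hMW 1) ma mb f2
  have hl := eig_ne M ha0 e1
  obtain ⟨σ, k, hσ⟩ := M.2
  have k1 : l = m := by
    refine gcb_eq hr hr' hx (hN M hM x hx) ha0 hl ?_
    rw [← map_smul, ← e1, conjLin_apply', e3]
  subst k1
  have hσg : σ g ≠ 0 := by simpa using hg0
  have k2 : σ g * l = l * g := by
    refine gcb_eq hr hr' hy (hN M hM y hy) hb0 (mul_ne_zero hσg hl) ?_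
    rw [mul_smul, ← map_smul, ← e2, conjLin_apply', ← hσ.smul, e4, smul_smul]
  have k3 := hg σ (by rw [mul_comm] at k2; exact mul_left_cancel₀ hl k2)
  have lin : ∀ (a : F) (x : V), M.1 (a • x) = a • M.1 x := fun a x => by rw [hσ.smul, k3]
  have e5 : M.1 (y b) = l • y b := by
    rw [lin, smul_comm] at e4
    exact smul_right_injective V hg0 e4
  refine scal_of_dec hD lin (c := l) fun i => ?_
  fin_cases i
  · exact gcb_all hc (fun x hx => hX x hx 0) (hirr 0) hx (hirr' x hx 0 hx') lin (hMW 0) (hN M hM x hx) ha ha0 e1 e3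
  · exact gcb_all hc (fun x hx => hX x hx 1) (hirr 1) hy (hirr' y hy 1 hy') lin (hMW 1) (hN M hM y hy) hb hb0 e2 e5

end Cfsg.Agent.SB.D4.G
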