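import Cfsg.Agent.SB.D4.GA
import Cfsg.Agent.SB.D4.GCB

/-!
# S5765, `PΩ₈⁺(q)` with triality: `GU₃(q) × O₂⁻(q)` (helper52)
-/

set_option autoImplicit false
set_option linter.unusedSectionVars false

namespace Cfsg.Agent.SB.D4.G

open QuadraticMap Module Cfsg.Agent.LieClassical.OrthCore
  Cfsg.Agent.ClassicalGeometry.OrthSemi Cfsg.Agent.H989.OutOrth.Basic

section

variable {F V : Type} [Field F] [AddCommGroup V] [Module F V] {Q : QuadraticForm F V}

variable (Q) in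
/-- a quadratic isometry of `W` -/
structure QI (W : Submodule F V) (J : V ≃ₗ[F] V) (t : F) : Prop where
  iso : J ∈ O Q
  sq : ∀ x ∈ W, J (J x) = t • J x - x
  n1 : 2 - t ≠ 0
  n2 : 2 + t ≠ 0

variable {W : Submodule F V} {J : V ≃ₗ[F] V} {t : F}

theorem QI.form (H : QI Q W J t) (x : V) : Q (J x) = Q x := H.iso x

theorem QI.polar (H : QI Q W J t) (x y : V) : polar Q (J x) (J y) = polar Q x y := by
  simp only [QuadraticMap.polar, ← map_add, H.form]

theorem QI.self (H : QI Q W J t) {u : V} (hu : u ∈ W) : QuadraticMap.polar Q u (J u) = t * Q u := by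
  have h1 := H.form (J u)
  have h2 := H.polar u (J u)
  rw [H.sq u hu] at h1 h2
  rw [sub_eq_add_neg, Q_add, QuadraticMap.map_smul, QuadraticMap.map_neg, H.form, polar_neg_right, polar_smul_left,
    polar_comm, smul_eq_mul, smul_eq_mul] at h1
  rw [polar_sub_right, polar_smul_right, polar_self, H.form, polar_comm, smul_eq_mul, nsmul_eq_mul] at h2
  push_cast at h2
  have e : (2 - t) * (QuadraticMap.polar Q u (J u) - t * Q u) = 0 := by linear_combination -h2 + h1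
  exact sub_eq_zero.1 ((mul_eq_zero.1 e).resolve_left H.n1)

theorem QI.perp (H : QI Q W J t) {e x : V} (he : e ∈ W) (h1 : QuadraticMap.polar Q e x = 0)
    (h2 : QuadraticMap.polar Q (J e) x = 0) : QuadraticMap.polar Q e (J x) = 0 := by
  have h3 := H.polar (J e) x
  rw [H.sq e he, polar_sub_left, polar_smul_left, H.polar, h1, h2, smul_zero, zero_sub, neg_eq_zero] at h3
  exact h3

theorem QI.add_ne (H : QI Q W J t) {e x : V} (he : e ∈ W) (qe : Q e ≠ 0) (h1 : QuadraticMap.polar Q e x = 0)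
    (h2 : QuadraticMap.polar Q (J e) x = 0) : e + x ≠ 0 := by
  intro h
  rw [← neg_eq_of_add_eq_zero_right h, polar_neg_right, neg_eq_zero] at h1 h2
  rw [polar_self, nsmul_eq_mul] at h1
  rw [polar_comm, H.self he] at h2
  push_cast at h1
  exact mul_ne_zero H.n1 qe (by linear_combination h1 - h2)

theorem QI.split [Finite V] (H : QI Q W J t) {U : Submodule F V} (hUW : U ≤ W) (hUJ : ∀ x ∈ U, J x ∈ U) (hU : ND Q U)
    {e : V} (he : e ∈ U) (qe : Q e ≠ 0) : ∃ U' ≤ U, (∀ x ∈ U', J x ∈ U') ∧ ND Q U' ∧ finrank F U' + 2 = finrank F U ∧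
      (∀ x ∈ U', QuadraticMap.polar Q e x = 0 ∧ QuadraticMap.polar Q (J e) x = 0) ∧
      ∀ z ∈ U, ∃ a b : F, ∃ y ∈ U', z = a • e + b • J e + y := by
  set U' : Submodule F V := U ⊓ (LinearMap.ker (polarBilin Q e) ⊓ LinearMap.ker (polarBilin Q (J e))) with hU'
  have mem : ∀ x, x ∈ U' ↔ x ∈ U ∧ QuadraticMap.polar Q e x = 0 ∧ QuadraticMap.polar Q (J e) x = 0 := fun x => Iff.rfl
  have p1 : QuadraticMap.polar Q e e = 2 * Q e := by rw [polar_self, nsmul_eq_mul]; rfl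
  have p2 : QuadraticMap.polar Q e (J e) = t * Q e := H.self (hUW he)
  have p3 : QuadraticMap.polar Q (J e) e = t * Q e := by rw [polar_comm, p2]
  have p4 : QuadraticMap.polar Q (J e) (J e) = 2 * Q e := by rw [H.polar, p1]
  have hd : (2 - t) * (2 + t) * Q e ≠ 0 := mul_ne_zero (mul_ne_zero H.n1 H.n2) qe
  have zero : ∀ a b : F, QuadraticMap.polar Q e (a • e + b • J e) = 0 →
      QuadraticMap.polar Q (J e) (a • e + b • J e) = 0 → a = 0 ∧ b = 0 := by
    intro a b h1 h2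
    simp only [polar_add_right, polar_smul_right, p1, p2, p3, p4, smul_eq_mul] at h1 h2
    exact ⟨(mul_eq_zero.1 (show _ * a = 0 by linear_combination 2 * h1 - t * h2)).resolve_left hd,
      (mul_eq_zero.1 (show _ * b = 0 by linear_combination 2 * h2 - t * h1)).resolve_left hd⟩
  have dec : ∀ z ∈ U, ∃ a b : F, ∃ y ∈ U', z = a • e + b • J e + y := by
    intro z hz
    set a := (2 * QuadraticMap.polar Q e z - t * QuadraticMap.polar Q (J e) z) / ((2 - t) * (2 + t) * Q e) with ha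
    set b := (2 * QuadraticMap.polar Q (J e) z - t * QuadraticMap.polar Q e z) / ((2 - t) * (2 + t) * Q e) with hb
    have ha' := (eq_div_iff hd).1 ha
    have hb' := (eq_div_iff hd).1 hb
    have hd' : (2 - t) * (2 + t) ≠ 0 := mul_ne_zero H.n1 H.n2
    refine ⟨a, b, z - (a • e + b • J e), (mem _).2 ⟨sub_mem hz (add_mem (Submodule.smul_mem _ _ he)
      (Submodule.smul_mem _ _ (hUJ e he))), ?_, ?_⟩, by abel⟩
    · simp only [polar_sub_right, polar_add_right, polar_smul_right, p1, p2, smul_eq_mul]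
      exact (mul_eq_zero.1 (show (2 - t) * (2 + t) * _ = 0 by linear_combination -2 * ha' - t * hb')).resolve_left hd'
    · simp only [polar_sub_right, polar_add_right, polar_smul_right, p3, p4, smul_eq_mul]
      exact (mul_eq_zero.1 (show (2 - t) * (2 + t) * _ = 0 by linear_combination -2 * hb' - t * ha')).resolve_left hd'
  refine ⟨U', inf_le_left, fun x hx => ?_, fun x hx h => ?_, ?_, fun x hx => ((mem x).1 hx).2, dec⟩
  · obtain ⟨h1, h2, h3⟩ := (mem x).1 hx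
    exact (mem _).2 ⟨hUJ x h1, H.perp (hUW he) h2 h3, by rw [H.polar, h2]⟩
  · obtain ⟨h1, h2, h3⟩ := (mem x).1 hx
    refine hU x h1 fun z hz => ?_
    obtain ⟨a, b, y, hy, rfl⟩ := dec z hz
    rw [polar_add_right, polar_add_right, polar_smul_right, polar_smul_right, h y hy, polar_comm _ x e, h2,
      polar_comm _ x (J e), h3, smul_zero, smul_zero, add_zero, add_zero]
  · have h1 : LinearIndependent F ![e, J e] := LinearIndependent.pair_iff.2 fun a b hab =>
      zero a b (by rw [hab, polar_zero_right]) (by rw [hab, polar_zero_right])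
    have h2 : finrank F (Submodule.span F (Set.range ![e, J e])) = 2 := by rw [finrank_span_eq_card h1]; rfl
    rw [Matrix.range_cons, Matrix.range_cons, Matrix.range_empty, Set.union_empty, Set.singleton_union] at h2
    have h3 := Submodule.finrank_sup_add_finrank_inf_eq U' (Submodule.span F {e, J e})
    have h4 : U' ⊓ Submodule.span F {e, J e} = ⊥ := (Submodule.eq_bot_iff _).2 fun x hx => by
      obtain ⟨a, b, rfl⟩ := Submodule.mem_span_pair.1 hx.2
      obtain ⟨-, k1, k2⟩ := (mem _).1 hx.1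
      obtain ⟨rfl, rfl⟩ := zero a b k1 k2
      simp
    have h5 : U' ⊔ Submodule.span F {e, J e} = U := by
      refine le_antisymm (sup_le inf_le_left (Submodule.span_le.2 ?_)) fun z hz => ?_
      · rintro x (rfl | rfl)
        exacts [he, hUJ e he]
      · obtain ⟨a, b, y, hy, rfl⟩ := dec z hz
        rw [add_comm]
        exact Submodule.add_mem_sup hy (Submodule.mem_span_pair.2 ⟨a, b, rfl⟩)
    rw [h4, h5, h2, finrank_bot, add_zero] at h3
    exact h3.symm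

theorem dec_two {W P : Submodule F V} (ho : ∀ x ∈ W, ∀ y ∈ P, polar Q x y = 0) (hs : W ⊔ P = ⊤) : Dec Q ![W, P] := by
  constructor
  · intro i j hij x hx y hy
    fin_cases i <;> fin_cases j
    · exact absurd rfl hij
    · exact ho x hx y hy
    · rw [polar_comm]; exact ho y hy x hx
    · exact absurd rfl hij
  · rw [eq_top_iff, ← hs]
    exact sup_le (le_iSup_of_le 0 le_rfl) (le_iSup_of_le 1 le_rfl)

theorem fix_fixed {ι : Type} {P : ι → Submodule F V} (hQ : Nondeg Q) (hD : Dec Q P) {L : Subgroup (Gam Q)}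
    (hL : ∀ M ∈ L, ∀ i, ∀ x ∈ P i, M.1 x ∈ P i) {i j : ι} (hij : i ≠ j) {a b : V} (ha : a ∈ P i) (hb : b ∈ P j)
    (ha0 : a ≠ 0) (hQa : Q a = 0) (hQb : Q b ≠ 0) {M : Gam Q} (hM : M ∈ L) (hc : cjv (a + b) b M ∈ L) :
    ∃ c : F, M.1 a = c • a ∧ M.1 b = c • b := by
  have hv : Q (a + b) ≠ 0 := by rwa [Q_add, hQa, hD.orth i j hij a ha b hb, zero_add, add_zero]
  have key : ∀ k, ∀ x ∈ P k, (rr Q (M.1 (a + b)) * rr Q (a + b)).1 x ∈ P k := by
    intro k x hx
    rw [rr_eq_cjv hv b]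
    exact hL M hM k _ (hD.rr_memG hb k _ (hL _ (inv_mem hc) k _ (hD.rr_memG hb k x hx)))
  obtain ⟨c, h⟩ := la_two_fixed hQ hD hij ha hb ha0 hQa hQb (key i) (key j)
  exact ⟨c, eig_two hQ hD hij (hL M hM i) (hL M hM j) ha hb h⟩

end

theorem boxC : BoxC := by
  intro F V _ _ _ _ _ Q L W P J t hQ h3 ho hs h6 h2 hA hJ hJW hJ2 ht hL hy
  have H : QI Q W J t := ⟨hJ, hJ2, fun e => ht 1 (by linear_combination e), fun e => ht (-1) (by linear_combination e)⟩
  have hD := dec_two ho hs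
  have h01 : (0 : Fin 2) ≠ 1 := by decide
  have hW : ND Q W := hD.ndG hQ 0
  have hm : (-1 : F) ≠ 0 := by simp
  obtain ⟨e1, m1, q1⟩ := hW.exists_val (by omega) 1
  obtain ⟨U1, l1, j1, n1, d1, o1, s1⟩ := H.split le_rfl hJW hW m1 (by rw [q1]; exact one_ne_zero)
  obtain ⟨e2, m2, q2⟩ := n1.exists_val (by omega) (-1)
  obtain ⟨U2, l2, j2, n2, d2, o2, s2⟩ := H.split l1 j1 n1 m2 (by rw [q2]; exact hm)
  obtain ⟨e3, m3, q3⟩ := n2.exists_val (by omega) (-1)
  obtain ⟨U3, l3, j3, n3, d3, o3, s3⟩ := H.split (l2.trans l1) j2 n2 m3 (by rw [q3]; exact hm)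
  obtain rfl : U3 = ⊥ := Submodule.finrank_eq_zero.1 (by omega)
  have w2 : e2 ∈ W := l1 m2
  have w3 : e3 ∈ W := l1 (l2 m3)
  obtain ⟨a12, b12⟩ := o1 e2 m2
  obtain ⟨c12, d12⟩ := o1 _ (j1 e2 m2)
  obtain ⟨a13, b13⟩ := o1 e3 (l2 m3)
  obtain ⟨c13, d13⟩ := o1 _ (j1 e3 (l2 m3))
  obtain ⟨a23, b23⟩ := o2 e3 m3
  obtain ⟨c23, d23⟩ := o2 _ (j2 e3 m3)
  obtain ⟨b1, mb1, nb1⟩ := exists_ne_zero (W := P) (by omega)
  obtain ⟨b2, mb2, Hb⟩ := exists_ind h2.ge b1 nb1
  have mb3 : b1 + b2 ∈ P := add_mem mb1 mb2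
  have qb1 : Q b1 ≠ 0 := fun e => nb1 (hA _ mb1 e)
  have qb2 : Q b2 ≠ 0 := fun e => Hb.right_ne (hA _ mb2 e)
  have qb3 : Q (b1 + b2) ≠ 0 := fun e => Hb.add_ne (hA _ mb3 e)
  have ma1 : e1 + e2 ∈ W := add_mem m1 w2
  have ma2 : J e1 + e3 ∈ W := add_mem (hJW _ m1) w3
  have ma3 : e1 + J e2 ∈ W := add_mem m1 (hJW _ w2)
  have qa1 : Q (e1 + e2) = 0 := by rw [Q_add, q1, q2, a12]; ring
  have qa2 : Q (J e1 + e3) = 0 := by rw [Q_add, H.form, q1, q3, b13]; ring
  have qa3 : Q (e1 + J e2) = 0 := by rw [Q_add, H.form, q1, q2, c12]; ring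
  have qe1 : Q e1 ≠ 0 := by rw [q1]; exact one_ne_zero
  have qe3 : Q e3 ≠ 0 := by rw [q3]; exact hm
  have na1 : e1 + e2 ≠ 0 := H.add_ne m1 qe1 a12 b12
  have na2 : J e1 + e3 ≠ 0 := by
    rw [add_comm]
    exact H.add_ne w3 qe3 (by rw [polar_comm]; exact b13) (by rw [polar_comm]; exact d13)
  have na3 : e1 + J e2 ≠ 0 := H.add_ne m1 qe1 c12 d12
  have r : ∀ a ∈ W, ∀ b ∈ P, Q a = 0 → Q b = Q (a + b) := fun a ha b hb h => by
    rw [Q_add, h, ho a ha b hb, zero_add, add_zero]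
  have r1 := r _ ma1 _ mb1 qa1
  have r2 := r _ ma2 _ mb2 qa2
  have r3 := r _ ma3 _ mb3 qa3
  have hL' : ∀ M ∈ L, ∀ i, ∀ x ∈ (![W, P] : Fin 2 → Submodule F V) i, M.1 x ∈ (![W, P] : Fin 2 → Submodule F V) i := by
    intro M hM i
    fin_cases i
    exacts [(hL M hM).1, (hL M hM).2.1]
  have hyL := hy e3 w3 qe3
  have op : ∀ x ∈ W, polar Q b1 x = 0 := fun x hx => by rw [polar_comm]; exact ho x hx b1 mb1
  refine ⟨e1 + e2 + b1, b1, J e1 + e3 + b2, b2, e1 + J e2 + (b1 + b2), b1 + b2, e3, J e3, r1 ▸ qb1, r1, r2 ▸ qb2, r2,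
    r3 ▸ qb3, r3, qe3, H.form e3, ?_, hyL, ?_, fun M hM c1 => ?_, fun M hM c1 c2 c3 => ?_⟩
  · rw [H.self w3, q3]
    exact fun e => mul_ne_zero H.n1 H.n2 (by linear_combination -e)
  · rwa [cjv_comm (by rw [polar_add_left, polar_add_left, a13, a23, op _ w3, add_zero, add_zero])
      (by rw [polar_add_left, polar_add_left, c13, c23, op _ (hJW _ w3), add_zero, add_zero]) (op _ w3)
      (op _ (hJW _ w3))]
  · obtain ⟨c, k1, k2⟩ := fix_fixed hQ hD hL' h01 ma1 mb1 na1 qa1 qb1 hM c1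
    exact ⟨c, by rw [gam_add, k1, k2, ← smul_add]⟩
  obtain ⟨c, k1, k2⟩ := fix_fixed hQ hD hL' h01 ma1 mb1 na1 qa1 qb1 hM c1
  obtain ⟨c', k3, k4⟩ := fix_fixed hQ hD hL' h01 ma2 mb2 na2 qa2 qb2 hM c2
  obtain ⟨l, k5, k6⟩ := fix_fixed hQ hD hL' h01 ma3 mb3 na3 qa3 qb3 hM c3
  rw [gam_add, k2, k4] at k6
  obtain ⟨rfl, rfl⟩ := Hb.eig k6
  obtain ⟨σ, k, hσ⟩ := M.2
  have hS := isSS_of_eig hσ (aut_small h3 σ) qb1 k2
  have lin : ∀ (a : F) (x : V), M.1 (a • x) = a • M.1 x := fun a x => hS.smul a x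
  refine scal_of_dec hD lin (c := c') fun i => ?_
  fin_cases i
  swap
  · exact eig_plane h2 mb1 mb2 Hb lin k2 k4
  rcases (hL M hM).2.2 with hc | hc
  · have inv : ∀ x ∈ W, x ∈ eigS M lin c' → J x ∈ eigS M lin c' := fun x hx h => by
      rw [mem_eigS] at h ⊢
      rw [hc x hx, h, map_smul]
    have g1 : e2 - J e2 ∈ eigS M lin c' := by
      have e : e2 - J e2 = (e1 + e2) - (e1 + J e2) := by abel
      rw [e]
      exact sub_mem k1 k5
    have g2 : e2 ∈ eigS M lin c' := by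
      have e : e2 = (2 - t)⁻¹ • ((1 - t) • (e2 - J e2) + J (e2 - J e2)) := by
        have e' : (1 - t) • (e2 - J e2) + J (e2 - J e2) = (2 - t) • e2 := by
          rw [map_sub, hJ2 e2 w2]; module
        rw [e', smul_smul, inv_mul_cancel₀ H.n1, one_smul]
      rw [e]
      exact Submodule.smul_mem _ _ (add_mem (Submodule.smul_mem _ _ g1) (inv _ (sub_mem w2 (hJW _ w2)) g1))
    have g3 : e1 ∈ eigS M lin c' := (add_mem_cancel_right g2).1 k1
    have g4 : e3 ∈ eigS M lin c' := (add_mem_cancel_left (inv _ m1 g3)).1 k3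
    have g : ∀ x ∈ W, x ∈ eigS M lin c' → ∀ a b : F, a • x + b • J x ∈ eigS M lin c' := fun x hx h a b =>
      add_mem (Submodule.smul_mem _ _ h) (Submodule.smul_mem _ _ (inv x hx h))
    intro z hz
    obtain ⟨x1, y1, z1, hz1, rfl⟩ := s1 z hz
    obtain ⟨x2, y2, z2, hz2, rfl⟩ := s2 z1 hz1
    obtain ⟨x3, y3, z3, hz3, rfl⟩ := s3 z2 hz2
    rw [(Submodule.mem_bot F).1 hz3, add_zero]
    exact add_mem (g _ m1 g3 _ _) (add_mem (g _ w2 g2 _ _) (g _ w3 g4 _ _))
  · exfalso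
    have p1 := hS.polar (J (e1 + e2)) (J e1 + e3)
    rw [← H.polar, hc _ ma1, k1, k3, map_smul, polar_smul_left, polar_smul_right, RingEquiv.refl_apply, smul_smul,
      smul_eq_mul, map_add, map_add, hJ2 e1 m1] at p1
    have p2 := mul_left_cancel₀ hS.ne p1
    have a21 : polar Q e2 e1 = 0 := by rw [polar_comm]; exact a12
    have b21 : polar Q e2 (J e1) = 0 := by rw [polar_comm]; exact b12
    simp only [polar_add_left, polar_add_right, polar_sub_right, polar_smul_right, H.polar, H.self m1, polar_self, q1,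
      a21, b21, c13, c23, b13, b23, smul_eq_mul, nsmul_eq_mul] at p2
    push_cast at p2
    exact mul_ne_zero H.n1 H.n2 (by linear_combination -p2)

end Cfsg.Agent.SB.D4.G
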