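import Cfsg.Agent.SB.D4.K4

/-!
# S5765, `PΩ₈⁺(q)`: odd primes dividing `q ± 1`, blocks (helper97)
-/

set_option autoImplicit false
set_option linter.unusedSectionVars false

namespace Cfsg.Agent.SB.D4

open QuadraticMap Module Cfsg.Agent.LieClassical.QuadForms Cfsg.Agent.LieClassical.OrthCore
  Cfsg.Agent.LieClassical.OrthTrans Cfsg.Agent.ClassicalGeometry.OrthSemi Cfsg.Agent.ClassicalGeometry.OrthAut1
  Cfsg.Agent.ClassicalGeometry.TrialityOct Cfsg.Agent.ClassicalGeometry.Triality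
  Cfsg.Agent.H989.OutOrth.Basic Cfsg.Agent.H989.OutOrth.Tri Cfsg.Agent.H786.FC

section gen

variable {F V : Type} [Field F] [AddCommGroup V] [Module F V] {Q : QuadraticForm F V}
  {Y : Subgroup (V ≃ₗ[F] V)} {r : ℕ}

theorem Bl_rel {θ : Y → F} {v : V} (hv : v ∈ Bl Y θ) (a : Y) : a.1 (a.1 v) = θ a • a.1 v - v := by
  have h := congrArg a.1 (mem_Bl.1 hv a)
  rw [map_add, map_smul, show a.1 (a.1⁻¹ v) = v from a.1.apply_symm_apply v] at h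
  exact eq_sub_of_add_eq h

theorem fix_of_two (hc : (r : F) ≠ 0) {a : V ≃ₗ[F] V} (ha : a ^ r = 1) {v : V} (h : a (a v) = (2 : F) • a v - v) :
    a v = v := by
  have h1 : ∀ j : ℕ, (a ^ j) v = v + (j : F) • (a v - v) := fun j => by
    induction j with
    | zero => simp
    | succ j ih =>
      rw [pow_succ', LinearEquiv.mul_apply, ih, map_add, map_smul, map_sub, h, Nat.cast_succ]
      module
  have h2 := h1 r
  rw [ha, LinearEquiv.coe_one, id_eq, left_eq_add, smul_eq_zero] at h2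
  exact sub_eq_zero.1 (h2.resolve_left hc)

theorem fix_of_sq (hr : r.Prime) (ho : Odd r) (hc : (r : F) ≠ 0) {a : V ≃ₗ[F] V} (ha : a ^ r = 1) {v : V} {t : F}
    (ht : t ^ 2 = 4) (h : a (a v) = t • a v - v) : a v = v := by
  by_cases h2 : t = 2
  · exact fix_of_two hc ha (h2 ▸ h)
  have h3 : t = -2 := eq_neg_of_add_eq_zero_left
    ((mul_eq_zero.1 (show (t - 2) * (t + 2) = 0 by linear_combination ht)).resolve_left (sub_ne_zero.2 h2))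
  have h4 : (2 : F) ≠ 0 := fun e => h2 (by rw [h3, e, neg_zero])
  have key : ∀ w, a w = -w → w = 0 := fun w hw => by
    have h5 := fix_of_pow hr ha (j := 2) (v := w) (fun h2 => by
      rw [(Nat.prime_dvd_prime_iff_eq hr Nat.prime_two).1 h2] at ho
      exact absurd ho (by decide)) (by rw [pow_two, LinearEquiv.mul_apply, hw, map_neg, hw, neg_neg])
    refine (smul_eq_zero.1 ?_).resolve_left h4
    rw [two_smul, ← eq_neg_iff_add_eq_zero, ← hw, h5]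
  have h6 := key (a v + v) (by rw [map_add, h, h3]; module)
  rw [key v (eq_neg_of_add_eq_zero_left h6), map_zero]

theorem Fx_eq_Bl (hc : (r : F) ≠ 0) (hp : ∀ a ∈ Y, a ^ r = 1) : Fx Y = Bl Y fun _ => 2 := by
  ext v
  refine ⟨fun hv => mem_Bl.2 fun a => ?_, fun hv => mem_Fx.2 fun a ha => fix_of_two hc (hp a ha) (Bl_rel hv ⟨a, ha⟩)⟩
  rw [mem_Fx.1 hv a a.2, mem_Fx.1 hv _ (inv_mem a.2), two_smul]

variable (Y) in
/-- `Y` acts on `W` through the quadratic element `x` -/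
structure Gen (W : Submodule F V) (x : V ≃ₗ[F] V) (t : F) : Prop where
  mem : x ∈ Y
  ne : t ^ 2 ≠ 4
  inv : ∀ v ∈ W, x v ∈ W
  rel : ∀ v ∈ W, x (x v) = t • x v - v
  fpf : ∀ v ∈ W, x v = v → v = 0
  pow : ∀ b ∈ Y, ∃ j : ℕ, ∀ v ∈ W, b v = (x ^ j) v

theorem exists_gen (hr : r.Prime) (ho : Odd r) (hc : (r : F) ≠ 0) (hcomm : ∀ a ∈ Y, ∀ b ∈ Y, a * b = b * a)
    (hp : ∀ a ∈ Y, a ^ r = 1) {θ : Y → F} (h : ¬ Bl Y θ ≤ Fx Y) : ∃ x t, Gen Y (Bl Y θ) x t := by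
  have hsr : ∀ g ∈ Y, ∀ w ∈ Bl Y θ, w ≠ 0 → g w = w → ∀ v ∈ Bl Y θ, g v = v := fun g hg w hw h0 h1 v hv => by
    have h2 := Bl_rel hw ⟨g, hg⟩
    simp only [h1] at h2
    have h3 : θ ⟨g, hg⟩ = 2 := smul_left_injective F h0 (by
      show _ • w = (2 : F) • w
      rw [two_smul, ← sub_eq_iff_eq_add, ← h2])
    exact fix_of_two hc (hp g hg) (h3 ▸ Bl_rel hv ⟨g, hg⟩)
  obtain ⟨v, hv, h1⟩ := SetLike.not_le_iff_exists.1 h
  rw [mem_Fx] at h1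
  push Not at h1
  obtain ⟨x, hx, h1⟩ := h1
  exact ⟨x, θ ⟨x, hx⟩, hx, fun ht => h1 (fix_of_sq hr ho hc (hp x hx) ht (Bl_rel hv ⟨x, hx⟩)),
    fun w hw => Bl_inv hcomm θ hx hw, fun w hw => Bl_rel hw ⟨x, hx⟩,
    fun w hw h2 => by_contra fun h0 => h1 (hsr x hx w hw h0 h2 v hv),
    fun b hb => pow_of_sr hr hc hcomm hp (fun a ha v hv => Bl_inv hcomm θ ha hv) hsr hx ⟨v, hv, h1⟩ hb⟩

theorem Dec.le_prp {ι : Type} {P : ι → Submodule F V} (h : Dec Q P) {i j : ι} (hij : i ≠ j) : P i ≤ prp Q (P j) :=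
  fun x hx => mem_prp.2 (h.orth i j hij x hx)

theorem Dec.add_le {ι : Type} {P : ι → Submodule F V} [FiniteDimensional F V] (hQ : Nondeg Q) (h : Dec Q P) {i j : ι}
    (hij : i ≠ j) : finrank F (P i) + finrank F (P j) ≤ finrank F V := by
  have h1 := Submodule.finrank_mono (h.le_prp hij)
  have h2 := finrank_prp hQ (P j)
  omega

theorem Dec.enum {ι : Type} [Finite ι] {P : ι → Submodule F V} [FiniteDimensional F V] (hQ : Nondeg Q) (h : Dec Q P)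
    {d n : ℕ} (hd : ∀ i, P i ≠ ⊥ → finrank F (P i) = d) (hn : (n + 1) * d = finrank F V) {i₀ : ι} (h0 : P i₀ ≠ ⊥) :
    ∃ f : Fin (n + 1) → ι, Dec Q (P ∘ f) ∧ (∀ k, finrank F (P (f k)) = d) ∧ f (Fin.last n) = i₀ ∧
      ∀ L : Subgroup (Gam Q), Prm L P → Prm L (P ∘ f) := by
  classical
  have := Fintype.ofFinite ι
  have h1 := h.sum_finrank hQ
  rw [← Finset.sum_filter_of_ne (p := fun i => P i ≠ ⊥) (fun i _ h2 h3 => h2 (by rw [h3, finrank_bot])),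
    Finset.sum_congr rfl fun i hi => hd i (Finset.mem_filter.1 hi).2, Finset.sum_const, smul_eq_mul, ← hn] at h1
  have hd0 : 0 < d := Nat.pos_of_ne_zero fun e => h0 (Submodule.finrank_eq_zero.1 ((hd i₀ h0).trans e))
  obtain ⟨f, k1, k2, k3, k4⟩ := exists_enum _ (Nat.eq_of_mul_eq_mul_right hd0 h1)
    (Finset.mem_filter.2 ⟨Finset.mem_univ i₀, h0⟩)
  have k5 : ∀ i, P i ≠ ⊥ → ∃ k, f k = i := fun i hi => k3 i (Finset.mem_filter.2 ⟨Finset.mem_univ i, hi⟩)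
  exact ⟨f, h.reindex f k1 k5, fun k => hd _ (Finset.mem_filter.1 (k2 k)).2, k4, fun L hL => hL.reindex f k5⟩

end gen

variable {F : Type} [Field F] [Fintype F]

namespace Cx

variable {S : Subgroup (MulAut (G8 F))} {X : Subgroup (G8 F)} {r : ℕ} (h : Cx S X r) (ho : Odd r)
include h ho

theorem gen_rot {W : Submodule F (V8 F)} {x : GL8 F} {t : F} (hG : Gen (h.Y ho) W x t) {u : V8 F} (hu : u ∈ W)
    (hu' : Q8 F u ≠ 0) : rr (Q8 F) u * rr (Q8 F) (x u) ∈ LL S :=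
  h.rot_memY ho hu' (mem_O.1 (h.Y_le ho hG.mem) u) fun g hg => by
    obtain ⟨j, hj⟩ := hG.pow g hg
    rw [hj u hu, hj _ (hG.inv u hu), rr_pow (h.Y_le ho hG.mem) (hG.rel u hu) hG.ne hu']

theorem gen_big (G : Geo) (hq : 4 ≤ Nat.card F) {W : Submodule F (V8 F)} {x : GL8 F} {t : F}
    (hG : Gen (h.Y ho) W x t) (hN : Nd (Q8 F) W) (h4 : 4 ≤ finrank F W) : False := by
  have hO := h.Y_le ho hG.mem
  obtain ⟨e, he, f, hf, h1, h2, h3, h5, h6⟩ := G.u2 F (V8 F) (Q8 F) W x t h4 hN hO hG.inv hG.rel hG.ne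
  refine h.no_sl2 G.sl2 hq h1 ((mem_O.1 hO e).trans h1) h2 ((mem_O.1 hO f).trans h2) h3 h5 h6 fun y hy => ?_
  obtain ⟨a, ha, ha'⟩ := h.lift ho y hy
  obtain ⟨j, hj⟩ := hG.pow _ ha'
  refine ⟨a, ha, ?_, ?_⟩
  · rw [hj e he, hj _ (hG.inv e he), wd_pow (hG.rel e he)]
  · rw [hj f hf, hj _ (hG.inv f hf), wd_pow (hG.rel f hf)]

theorem ex_gen {θ : h.Y ho → F} (hθ : ¬ Bl (h.Y ho) θ ≤ Fx (h.Y ho)) : ∃ x t, Gen (h.Y ho) (Bl (h.Y ho) θ) x t :=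
  exists_gen h.prime ho h.char (h.Y_comm ho) (h.Y_pow ho) hθ

variable (hk : orderOf (Nat.card F : ZMod r) ∣ 2)
include hk

theorem sym_card : ∀ a ∈ h.Y ho, sym a ^ Fintype.card F = sym a := fun a ha => by
  have : Fact r.Prime := ⟨h.prime⟩
  rw [sym_pow_card]
  rcases sq_eq_one_iff.1 (orderOf_dvd_iff_pow_eq_one.1 hk) with e | e
  · rw [pow_eq_self (h.Y_pow ho a ha) (Nat.card_eq_fintype_card (α := F) ▸ e)]
  · rw [pow_eq_inv (h.Y_pow ho a ha) (Nat.card_eq_fintype_card (α := F) ▸ e), sym_inv]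

theorem dec : Dec (Q8 F) (Bl (h.Y ho)) :=
  have := finite_sub (h.Y ho)
  dec_Bl (h.Y_le ho) (h.Y_comm ho) (h.sym_card ho hk)

theorem eq_two {θ : h.Y ho → F} (h0 : Bl (h.Y ho) θ ≠ ⊥) (hθ : Bl (h.Y ho) θ ≤ Fx (h.Y ho)) :
    Bl (h.Y ho) θ = Fx (h.Y ho) := by
  rw [Fx_eq_Bl h.char (h.Y_pow ho)] at hθ ⊢
  by_contra h1
  exact h0 (eq_bot_iff.2 (((h.dec ho hk).nd nondeg8' _).inf_prp ▸
    le_inf hθ ((h.dec ho hk).le_prp fun e => h1 (congrArg _ e))))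

theorem ex_block : ∃ θ, ¬ Bl (h.Y ho) θ ≤ Fx (h.Y ho) := by
  by_contra hc
  push Not at hc
  exact h.Fx_ne_top ho (eq_top_iff.2 ((h.dec ho hk).span ▸ iSup_le hc))

theorem bl_even (θ : h.Y ho → F) : Even (finrank F (Bl (h.Y ho) θ)) := by
  classical
  have key : ∀ θ, ¬ Bl (h.Y ho) θ ≤ Fx (h.Y ho) → Even (finrank F (Bl (h.Y ho) θ)) := fun θ hθ => by
    obtain ⟨x, t, hG⟩ := h.ex_gen ho hθ
    exact even_of_fpf h.prime ho (h.Y_le ho hG.mem) (h.Y_pow ho x hG.mem) ((h.dec ho hk).nd nondeg8' θ) hG.inv hG.fpf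
  by_contra hc
  have := finite_sub (h.Y ho)
  have := Fintype.ofFinite (h.Y ho → F)
  have h1 := (h.dec ho hk).sum_finrank nondeg8'
  have h0 : ∀ θ, ¬ Even (finrank F (Bl (h.Y ho) θ)) → Bl (h.Y ho) θ = Fx (h.Y ho) := fun θ hθ =>
    h.eq_two ho hk (fun e => hθ (by rw [e, finrank_bot]; exact Even.zero)) (by_contra fun e => hθ (key θ e))
  rw [← Finset.add_sum_erase _ _ (Finset.mem_univ θ), finrank8] at h1
  have h2 : Even (∑ θ' ∈ Finset.univ.erase θ, finrank F (Bl (h.Y ho) θ')) := Finset.even_sum _ fun θ' hθ' => by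
    by_contra h3
    have h4 := (h.dec ho hk).le_prp (Finset.ne_of_mem_erase hθ')
    rw [h0 θ' h3, ← h0 θ hc] at h4
    rw [← inf_eq_left.2 h4, ((h.dec ho hk).nd nondeg8' θ).inf_prp, finrank_bot] at hc
    exact hc Even.zero
  obtain ⟨m, hm⟩ := h2
  exact hc ⟨4 - m, by omega⟩

theorem half {e : V8 F} (he : Q8 F e = 0) (he0 : e ≠ 0) (heC : e ∈ Fx (h.Y ho)) :
    ∃ U : Submodule F (V8 F), (∀ u ∈ U, Q8 F u = 0) ∧ (∀ g ∈ h.Y ho, ∀ u ∈ U, g u ∈ U) ∧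
      ∀ θ, 2 * finrank F ↥(U ⊓ Bl (h.Y ho) θ) = finrank F (Bl (h.Y ho) θ) := by
  classical
  obtain ⟨U, h1, h2, h3⟩ := h.tf1Y ho he he0 heC
  have := finite_sub (h.Y ho)
  have := Fintype.ofFinite (h.Y ho)
  have h4 := finrank_le_sum (h.Y_comm ho) (h.sym_card ho hk) h3
  have h5 := (h.dec ho hk).sum_finrank nondeg8'
  have h6 : ∀ θ ∈ Finset.univ, 2 * finrank F ↥(U ⊓ Bl (h.Y ho) θ) ≤ finrank F (Bl (h.Y ho) θ) := fun θ _ =>
    ((h.dec ho hk).nd nondeg8' θ).two_mul_le inf_le_right fun x hx y hy => polar_of_ts h2 hx.1 hy.1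
  refine ⟨U, h2, h3, fun θ => (Finset.sum_eq_sum_iff_of_le h6).1 (le_antisymm (Finset.sum_le_sum h6) ?_) θ
    (Finset.mem_univ θ)⟩
  rw [h5, finrank8, ← Finset.mul_sum]
  omega

theorem fx_ts (h4 : 4 ≤ finrank F (Fx (h.Y ho))) : HasTS (Q8 F) (Fx (h.Y ho)) := by
  obtain ⟨e, heC, he0, he⟩ := LieClassical.OrthFinite.exists_sing_mem (Q := Q8 F) (Fx (h.Y ho)) (by omega)
  obtain ⟨U, h1, -, h3⟩ := h.half ho hk he he0 heC
  have h5 := h3 fun _ => 2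
  rw [← Fx_eq_Bl h.char (h.Y_pow ho)] at h5
  exact hasTS_of_le (U := U ⊓ Fx (h.Y ho)) inf_le_right (fun u hu => h1 u hu.1) (by omega)

theorem planes (G : Geo) (h2 : ∀ θ, finrank F (Bl (h.Y ho) θ) ≤ 2)
    (hA : 3 ≤ Nat.card F ∨ ∀ θ, finrank F (Bl (h.Y ho) θ) = 2 → Aniso (Q8 F) (Bl (h.Y ho) θ)) : Kill3 (LL S) := by
  have := finite_sub (h.Y ho)
  obtain ⟨θ, hθ⟩ := h.ex_block ho hk
  have h0 : Bl (h.Y ho) θ ≠ ⊥ := fun e => hθ (e ▸ bot_le)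
  obtain ⟨f, k1, k2, k3, k4⟩ := (h.dec ho hk).enum nondeg8' (d := 2) (n := 3) (fun θ hθ => by
    have := h2 θ
    have := mt Submodule.finrank_eq_zero.1 hθ
    obtain ⟨m, hm⟩ := h.bl_even ho hk θ
    omega) finrank8.symm h0
  obtain ⟨x, t, hG⟩ := h.ex_gen ho hθ
  obtain ⟨u, hu, hu'⟩ := ((h.dec ho hk).nd nondeg8' θ).exists_nonsing h0
  have hO := h.Y_le ho hG.mem
  refine G.a F (V8 F) (Q8 F) _ _ nondeg8' k1 k2 (k4 _ (prm_Bl (h.Y_conj ho))) (hA.imp id fun hA i => hA _ (k2 i))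
    (Or.inl ⟨u, ?_, x u, ?_, hu', mem_O.1 hO u, fun e => hG.ne ?_, h.gen_rot ho hG hu hu'⟩)
  · exact (congrArg (Bl (h.Y ho)) k3).ge hu
  · exact (congrArg (Bl (h.Y ho)) k3).ge (hG.inv u hu)
  · rw [polar_rot hO (hG.rel u hu) hG.ne, mul_pow] at e
    exact mul_right_cancel₀ (pow_ne_zero 2 hu') e

theorem big (G : Geo) (hq : 4 ≤ Nat.card F) : Kill3 (LL S) := by
  refine h.planes ho hk G (fun θ => by_contra fun h2 => ?_) (Or.inl (by omega))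
  have h4 : 4 ≤ finrank F (Bl (h.Y ho) θ) := by
    obtain ⟨m, hm⟩ := h.bl_even ho hk θ
    omega
  by_cases hθ : Bl (h.Y ho) θ ≤ Fx (h.Y ho)
  · obtain ⟨e, he, e', he', f, hf, f', hf', k1, k2, k3, k4, k5, k6, k7, k8, k9, k10⟩ :=
      opp (h.nd_FxY ho) (h.fx_ts ho hk (h4.trans (Submodule.finrank_mono hθ)))
    refine h.no_sl2 G.sl2 hq k1 k2 k3 k4 k5 k6 (by simp [k7, k8, k9]) fun y hy => (h.lift ho y hy).imp fun a ha => ?_
    rw [mem_Fx.1 he _ ha.2, mem_Fx.1 he' _ ha.2, mem_Fx.1 hf _ ha.2, mem_Fx.1 hf' _ ha.2]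
    exact ⟨ha.1, rfl, rfl⟩
  · obtain ⟨x, t, hG⟩ := h.ex_gen ho hθ
    exact h.gen_big ho G hq hG ((h.dec ho hk).nd nondeg8' θ) h4

end Cx

end Cfsg.Agent.SB.D4
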