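import Cfsg.Agent.SB.D4.Odd
import Cfsg.Agent.H920.FP.Zero

/-!
# S5765, `PΩ₈⁺(q)`: primes dividing `q² + 1` (helper97)
-/

set_option autoImplicit false
set_option linter.unusedSectionVars false

namespace Cfsg.Agent.SB.D4

open QuadraticMap Module Cfsg.Agent.LieClassical.QuadForms Cfsg.Agent.LieClassical.OrthCore
  Cfsg.Agent.LieClassical.OrthTrans Cfsg.Agent.ClassicalGeometry.OrthSemi Cfsg.Agent.ClassicalGeometry.OrthAut1
  Cfsg.Agent.ClassicalGeometry.TrialityOct Cfsg.Agent.ClassicalGeometry.Triality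
  Cfsg.Agent.H989.OutOrth.Basic Cfsg.Agent.H989.OutOrth.Tri Cfsg.Agent.H786.FC

section gen

variable {F V : Type} [Field F] [AddCommGroup V] [Module F V] {Q : QuadraticForm F V}
  {Y : Subgroup (V ≃ₗ[F] V)} {r : ℕ}

theorem add_pow_card [Fintype F] [Nontrivial V] {f g : Module.End F V} (h : Commute f g) :
    (f + g) ^ Fintype.card F = f ^ Fintype.card F + g ^ Fintype.card F := by
  obtain ⟨p, hp⟩ := CharP.exists F
  obtain ⟨n, hp', hn⟩ := FiniteField.card F p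
  have : Fact p.Prime := ⟨hp'⟩
  have := charP_of_injective_algebraMap (algebraMap F (Module.End F V)).injective p
  rw [hn, add_pow_char_pow_of_commute _ _ h]

theorem toLin_pow (a : V ≃ₗ[F] V) (n : ℕ) : (a ^ n).toLinearMap = a.toLinearMap ^ n :=
  map_pow LinearEquiv.automorphismGroup.toLinearMapMonoidHom a n

theorem toLin_comm {a b : V ≃ₗ[F] V} (h : a * b = b * a) : Commute a.toLinearMap b.toLinearMap :=
  Commute.map h LinearEquiv.automorphismGroup.toLinearMapMonoidHom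

theorem sym_pow_card [Fintype F] [Nontrivial V] (a : V ≃ₗ[F] V) :
    sym a ^ Fintype.card F = sym (a ^ Fintype.card F) := by
  rw [sym, add_pow_card (toLin_comm (by simp)), ← toLin_pow, ← toLin_pow, inv_pow, sym]

theorem sym_inv (a : V ≃ₗ[F] V) : sym a⁻¹ = sym a := by rw [sym, inv_inv, add_comm, sym]

theorem pow_eq_self {G : Type*} [Group G] {a : G} (ha : a ^ r = 1) {m : ℕ} (h : (m : ZMod r) = 1) : a ^ m = a := by
  have h1 := (ZMod.natCast_eq_natCast_iff m 1 r).1 (h.trans Nat.cast_one.symm)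
  exact (pow_eq_pow_iff_modEq.2 (h1.of_dvd (orderOf_dvd_of_pow_eq_one ha))).trans (pow_one a)

theorem pow_eq_inv {G : Type*} [Group G] {a : G} (ha : a ^ r = 1) {m : ℕ} (h : (m : ZMod r) = -1) : a ^ m = a⁻¹ := by
  obtain ⟨c, hc⟩ := (ZMod.natCast_eq_zero_iff (m + 1) r).1 (by rw [Nat.cast_succ, h, neg_add_cancel])
  rw [eq_inv_iff_mul_eq_one, ← pow_succ, hc, pow_mul, ha, one_pow]

theorem pow_of_sr (hr : r.Prime) (hc : (r : F) ≠ 0) (hcomm : ∀ a ∈ Y, ∀ b ∈ Y, a * b = b * a)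
    (hp : ∀ a ∈ Y, a ^ r = 1) {U : Submodule F V} (hU : ∀ a ∈ Y, ∀ v ∈ U, a v ∈ U)
    (hsr : ∀ g ∈ Y, ∀ w ∈ U, w ≠ 0 → g w = w → ∀ v ∈ U, g v = v) {x : V ≃ₗ[F] V} (hx : x ∈ Y)
    (hx' : ∃ v ∈ U, x v ≠ v) {b : V ≃ₗ[F] V} (hb : b ∈ Y) : ∃ j : ℕ, ∀ v ∈ U, b v = (x ^ j) v := by
  obtain ⟨v₀, hv₀, hv₀'⟩ := hx'
  obtain ⟨i, w, hw, hw0, h1⟩ := cyc hr hc (hcomm x hx b hb) (hp x hx) (hp b hb) (U := U)
    (by rintro rfl; exact hv₀' (by rw [(Submodule.mem_bot F).1 hv₀, map_zero])) (hU x hx) (hU b hb)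
    fun v hv h => by_contra fun h0 => hv₀' (hsr x hx v hv h0 h v₀ hv₀)
  refine ⟨(r - 1) * i, fun v hv => ?_⟩
  have h2 : x ^ ((r - 1) * i) * (x ^ i * b) = b := by
    rw [← mul_assoc, ← pow_add, ← Nat.succ_mul, Nat.succ_eq_add_one, Nat.sub_add_cancel hr.pos, pow_mul, hp x hx,
      one_pow, one_mul]
  conv_lhs => rw [← h2]
  rw [LinearEquiv.mul_apply, hsr _ (mul_mem (pow_mem hx i) hb) w hw hw0 h1 v hv]

/-- irreducible -/
def Irr (Y : Subgroup (V ≃ₗ[F] V)) (U : Submodule F V) : Prop :=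
  ∀ U' ≤ U, (∀ g ∈ Y, ∀ v ∈ U', g v ∈ U') → U' = ⊥ ∨ U' = U

theorem Irr.sr (hcomm : ∀ a ∈ Y, ∀ b ∈ Y, a * b = b * a) {U : Submodule F V} (hU : ∀ a ∈ Y, ∀ v ∈ U, a v ∈ U)
    (hI : Irr Y U) : ∀ g ∈ Y, ∀ w ∈ U, w ≠ 0 → g w = w → ∀ v ∈ U, g v = v := by
  intro g hg w hw hw0 h v hv
  rcases hI (U ⊓ Fx (Subgroup.zpowers g)) inf_le_left (fun a ha v hv => ⟨hU a ha v hv.1, mem_Fx_zpowers.2 (by
    rw [comm_apply hcomm hg ha, mem_Fx_zpowers.1 hv.2])⟩) with h1 | h1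
  · exact (hw0 ((Submodule.eq_bot_iff _).1 h1 w ⟨hw, mem_Fx_zpowers.2 h⟩)).elim
  · exact mem_Fx_zpowers.1 (inf_eq_left.1 h1 hv)

theorem Irr.schur [Fintype F] {U : Submodule F V} (hU : ∀ a ∈ Y, ∀ v ∈ U, a v ∈ U) (hI : Irr Y U)
    {s : Module.End F V} (hs : s ^ Fintype.card F = s) (hsU : ∀ v ∈ U, s v ∈ U)
    (hc : ∀ g ∈ Y, Commute s g.toLinearMap) : ∃ c : F, ∀ v ∈ U, s v = c • v := by
  by_contra hcon
  have h1 : ∀ c : F, U ⊓ LinearMap.ker (s - c • 1) = ⊥ := fun c => by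
    refine (hI _ inf_le_left fun g hg v hv => ⟨hU g hg v hv.1, ?_⟩).resolve_right fun h => hcon ⟨c, fun v hv => ?_⟩
    · have h2 : s v - c • v = 0 := hv.2
      have h3 : s (g v) = g (s v) := LinearMap.congr_fun (hc g hg) v
      show s (g v) - c • g v = 0
      rw [h3, ← map_smul, ← map_sub, h2, map_zero]
    · exact sub_eq_zero.1 (inf_eq_left.1 h hv)
  have h2 := le_iSup_eig hs hsU
  simp only [h1, iSup_bot, le_bot_iff] at h2
  exact hcon ⟨0, fun v hv => by rw [h2] at hv; rw [(Submodule.mem_bot F).1 hv, map_zero, smul_zero]⟩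

theorem end_pow_inv {f : Module.End F V} {U : Submodule F V} (h : ∀ v ∈ U, f v ∈ U) (n : ℕ) :
    ∀ v ∈ U, (f ^ n) v ∈ U := by
  induction n with
  | zero => exact fun _ hv => hv
  | succ n ih => exact fun v hv => by rw [pow_succ, Module.End.mul_apply]; exact ih _ (h v hv)

/-- the quartic relation -/
def qrt (x : V ≃ₗ[F] V) (σ π : F) : Module.End F V :=
  x.toLinearMap ^ 4 - (σ • (x.toLinearMap ^ 3 + x.toLinearMap) - π • x.toLinearMap ^ 2 - 1)

theorem qrt_apply (x : V ≃ₗ[F] V) (σ π : F) (v : V) :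
    qrt x σ π v = x (x (x (x v))) - (σ • (x (x (x v)) + x v) - π • x (x v) - v) := rfl

theorem Irr.quartic [Fintype F] [Nontrivial V] (hcomm : ∀ a ∈ Y, ∀ b ∈ Y, a * b = b * a) {U : Submodule F V}
    (hU : ∀ a ∈ Y, ∀ v ∈ U, a v ∈ U) (hI : Irr Y U) {x : V ≃ₗ[F] V} (hx : x ∈ Y)
    (hq : (x ^ Fintype.card F) ^ Fintype.card F = x⁻¹) : ∃ σ π : F, ∀ v ∈ U, qrt x σ π v = 0 := by
  have h1 : (sym x ^ Fintype.card F) ^ Fintype.card F = sym x := by rw [sym_pow_card, sym_pow_card, hq, sym_inv]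
  have h2 : ∀ v ∈ U, sym x v ∈ U := fun v hv => add_mem (hU x hx v hv) (hU _ (inv_mem hx) v hv)
  have h3 : ∀ g ∈ Y, Commute (sym x) g.toLinearMap := fun g hg =>
    (toLin_comm (hcomm x hx g hg)).add_left (toLin_comm (hcomm _ (inv_mem hx) g hg))
  have h4 := Commute.self_pow (sym x) (Fintype.card F)
  obtain ⟨σ, hσ⟩ := hI.schur hU (s := sym x + sym x ^ Fintype.card F) (by rw [add_pow_card h4, h1, add_comm])
    (fun v hv => add_mem (h2 v hv) (end_pow_inv h2 _ v hv)) fun g hg => (h3 g hg).add_left ((h3 g hg).pow_left _)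
  obtain ⟨π, hπ⟩ := hI.schur hU (s := sym x ^ Fintype.card F * sym x) (by rw [h4.symm.mul_pow, h1, h4.eq])
    (fun v hv => end_pow_inv h2 _ _ (h2 v hv)) fun g hg => ((h3 g hg).pow_left _).mul_left (h3 g hg)
  refine ⟨σ, π + 2, fun v hv => ?_⟩
  have h5 := hU x hx _ (hU x hx v hv)
  have h6 := hσ _ (h2 _ h5)
  rw [LinearMap.add_apply, ← Module.End.mul_apply (sym x ^ Fintype.card F), hπ _ h5] at h6
  have h7 : ∀ w, x⁻¹ (x w) = w := fun w => x.symm_apply_apply w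
  simp only [sym_apply, map_add, h7] at h6
  rw [qrt_apply]
  linear_combination (norm := module) h6

/-- the cyclic subspace -/
def T4 (x : V ≃ₗ[F] V) (v : V) : Submodule F V := Submodule.span F (Set.range ![v, x v, x (x v), x (x (x v))])

theorem T4_inv {x : V ≃ₗ[F] V} {v : V} {σ π : F} (h : qrt x σ π v = 0) : ∀ w ∈ T4 x v, x w ∈ T4 x v := by
  have h1 : ∀ i, ![v, x v, x (x v), x (x (x v))] i ∈ T4 x v := fun i => Submodule.subset_span ⟨i, rfl⟩
  have h2 : T4 x v ≤ (T4 x v).comap x.toLinearMap := by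
    refine Submodule.span_le.2 ?_
    rintro _ ⟨i, rfl⟩
    fin_cases i
    · exact h1 1
    · exact h1 2
    · exact h1 3
    · show x (x (x (x v))) ∈ T4 x v
      rw [sub_eq_zero.1 ((qrt_apply x σ π v).symm.trans h)]
      exact sub_mem (sub_mem (Submodule.smul_mem _ _ (add_mem (h1 3) (h1 1))) (Submodule.smul_mem _ _ (h1 2))) (h1 0)
  exact h2

theorem ts_span {s : Set V} (h1 : ∀ x ∈ s, Q x = 0) (h2 : ∀ x ∈ s, ∀ y ∈ s, polar Q x y = 0) :
    ∀ u ∈ Submodule.span F s, Q u = 0 := by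
  have h3 : Submodule.span F s ≤ prp Q (Submodule.span F s) := Submodule.span_le.2 fun x hx => mem_prp.2 fun y hy =>
    (Submodule.span_le (p := LinearMap.ker (polarBilin Q x))).2 (h2 x hx) hy
  intro u hu
  induction hu using Submodule.span_induction with
  | mem x hx => exact h1 x hx
  | zero => exact map_zero Q
  | add x y hx hy k1 k2 => rw [Q_add, k1, k2, mem_prp.1 (h3 hx) y hy, add_zero, add_zero]
  | smul c x _ k => rw [QuadraticMap.map_smul, k, smul_zero]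

theorem T4_ts {x : V ≃ₗ[F] V} (hx : x ∈ O Q) {v : V} {σ π : F} (h : qrt x σ π (x⁻¹ v) = 0) (h0 : Q v = 0)
    (h1 : polar Q v (x v) = 0) (h2 : polar Q v (x (x v)) = 0) : ∀ u ∈ T4 x v, Q u = 0 := by
  have h3 : polar Q v (x (x (x v))) = 0 := by
    have h4 := sub_eq_zero.1 ((qrt_apply x σ π _).symm.trans h)
    rw [show x (x⁻¹ v) = v from x.apply_symm_apply v] at h4
    rw [h4, polar_sub_right, polar_sub_right, polar_smul_right, polar_smul_right, polar_add_right, ← polar_inv hx,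
      polar_comm _ (x v), h1, h2, polar_self_of_sing h0]
    simp
  refine ts_span ?_ ?_
  · rintro _ ⟨i, rfl⟩
    fin_cases i <;> simp [mem_O.1 hx, h0]
  · rintro _ ⟨i, rfl⟩ _ ⟨j, rfl⟩
    fin_cases i <;> fin_cases j <;>
      simp [polar_map hx, h0, h1, h2, h3, polar_comm _ _ v]

theorem gmap_inv {L : Subgroup (Gam Q)} (hL : ∀ M ∈ L, ∀ a ∈ Y, conjLin M a ∈ Y) {M : Gam Q} (hM : M ∈ L)
    {U : Submodule F V} (hU : ∀ a ∈ Y, ∀ v ∈ U, a v ∈ U) : ∀ a ∈ Y, ∀ v ∈ gmap M U, a v ∈ gmap M U := by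
  intro a ha v hv
  rw [mem_gmap, ← conjLin_apply']
  exact hU _ (hL _ (inv_mem hM) a ha) _ hv

theorem dec_prp [FiniteDimensional F V] (hQ : Nondeg Q) {W : Submodule F V} (hW : Nd Q W) : Dec Q ![W, prp Q W] := by
  refine ⟨fun i j hij x hx y hy => ?_, ?_⟩
  · fin_cases i <;> fin_cases j
    · exact (hij rfl).elim
    · exact (polar_comm _ _ _).trans (mem_prp.1 hy x hx)
    · exact mem_prp.1 hx y hy
    · exact (hij rfl).elim
  · rw [eq_top_iff, ← hW.sup_prp hQ]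
    exact sup_le (le_iSup ![W, prp Q W] 0) (le_iSup ![W, prp Q W] 1)

end gen

variable {F : Type} [Field F] [Fintype F]

namespace Cx

variable {S : Subgroup (MulAut (G8 F))} {X : Subgroup (G8 F)} {r : ℕ} (h : Cx S X r) (ho : Odd r)
  (h4 : orderOf (Nat.card F : ZMod r) = 4)
include h ho h4

theorem four_fx : Fx (h.Y ho) = ⊥ := by
  have := finite_sub (h.Y ho)
  obtain ⟨m, h1, h2⟩ := order_dvd h.prime h.char (h.Y_pow ho) (U := ⊤) fun _ _ _ _ => trivial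
  rw [top_inf_eq, finrank_top, finrank8] at h1
  rw [h4] at h2
  have h3 : finrank F (Fx (h.Y ho)) ≠ 8 := fun e =>
    h.Fx_ne_top ho (Submodule.eq_top_of_finrank_eq (e.trans finrank8.symm))
  rw [← Submodule.finrank_eq_zero]
  by_contra h0
  have hN := h.nd_FxY ho
  obtain ⟨e, heC, he0, he⟩ := LieClassical.OrthFinite.exists_sing_mem (Q := Q8 F) (Fx (h.Y ho)) (by omega)
  obtain ⟨U, k1, k2, k3⟩ := h.tf1Y ho he he0 heC
  obtain ⟨m', k4, k5⟩ := order_dvd h.prime h.char (h.Y_pow ho) k3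
  rw [h4] at k5
  have k6 := hN.two_mul_le (U := U ⊓ Fx (h.Y ho)) inf_le_right fun x hx y hy => polar_of_ts k2 hx.1 hy.1
  have k7 : U ⊓ Fx (h.Y ho) = ⊥ := Submodule.finrank_eq_zero.1 (by omega)
  have k8 := (hN.nd_prp nondeg8').two_mul_le (U := U) (fun u hu => mem_prp.2 fun c hc => (polar_comm _ _ _).trans
    (perp_of_fx h.prime h.char (h.Y_le ho) (h.Y_pow ho) k3 hc (fun w hw => by
      rw [k7] at hw; rw [(Submodule.mem_bot F).1 hw, polar_zero_right]) hu)) fun x hx y hy => polar_of_ts k2 hx hy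
  have k9 := finrank_prp nondeg8' (Fx (h.Y ho))
  rw [finrank8] at k9
  omega

theorem four_dvd {U : Submodule F (V8 F)} (hU : ∀ g ∈ h.Y ho, ∀ v ∈ U, g v ∈ U) : 4 ∣ finrank F U := by
  obtain ⟨m, h1, h2⟩ := order_dvd h.prime h.char (h.Y_pow ho) hU
  rw [h.four_fx ho h4, inf_bot_eq, finrank_bot, zero_add] at h1
  rwa [h1, ← h4]

theorem four_irr {U : Submodule F (V8 F)} (hU : finrank F U = 4) : Irr (h.Y ho) U := fun U' h1 h2 => by
  have h3 := h.four_dvd ho h4 h2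
  have h5 := Submodule.finrank_mono h1
  by_cases h0 : finrank F U' = 0
  · exact Or.inl (Submodule.finrank_eq_zero.1 h0)
  · exact Or.inr (Submodule.eq_of_le_of_finrank_eq h1 (by omega))

theorem four_ts {U : Submodule F (V8 F)} (hU : ∀ g ∈ h.Y ho, ∀ v ∈ U, g v ∈ U) (hs : ∀ u ∈ U, Q8 F u = 0) :
    U = ⊥ := by
  rw [← Submodule.finrank_eq_zero]
  by_contra h0
  have h1 := h.four_dvd ho h4 hU
  have h2 : finrank F U ≤ 4 := ClassicalGeometry.TrialitySpaces.finrank_le_four hs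
  obtain ⟨e, -, he0, he⟩ := h.tf2Y ho (U := U) (by omega) hs hU
  have h3 := h.four_dvd ho h4 (U := Submodule.span F {e}) fun g hg v hv => by
    obtain ⟨c, rfl⟩ := Submodule.mem_span_singleton.1 hv
    obtain ⟨l, hl⟩ := he g hg
    rw [map_smul, hl]
    exact Submodule.smul_mem _ _ (Submodule.smul_mem _ _ (Submodule.mem_span_singleton_self e))
  rw [finrank_span_singleton he0] at h3
  omega

theorem four_nt {U : Submodule F (V8 F)} (hU : U ≠ ⊥) : ∃ x ∈ h.Y ho, ∃ w ∈ U, x w ≠ w := by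
  by_contra hc
  push Not at hc
  exact hU (eq_bot_iff.2 fun w hw => h.four_fx ho h4 ▸ mem_Fx.2 fun a ha => hc a ha w hw)

theorem four_str {U : Submodule F (V8 F)} (hU : ∀ g ∈ h.Y ho, ∀ v ∈ U, g v ∈ U) (h0 : U ≠ ⊥) (hI : Irr (h.Y ho) U) :
    ∃ x ∈ h.Y ho, ∃ σ π : F, (∀ v ∈ U, qrt x σ π v = 0) ∧ ∀ b ∈ h.Y ho, ∃ j : ℕ, ∀ v ∈ U, b v = (x ^ j) v := by
  have : Fact r.Prime := ⟨h.prime⟩
  obtain ⟨x, hx, hx'⟩ := h.four_nt ho h4 h0
  have h1 : (Nat.card F : ZMod r) ^ 2 = -1 := by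
    refine (sq_eq_one_iff.1 ?_).resolve_left fun e => ?_
    · rw [← pow_mul, ← pow_orderOf_eq_one (Nat.card F : ZMod r), h4]
    · have h2 := orderOf_dvd_of_pow_eq_one e
      rw [h4] at h2
      omega
  obtain ⟨σ, π, h2⟩ := hI.quartic (h.Y_comm ho) hU hx (by
    rw [← pow_mul]
    exact pow_eq_inv (h.Y_pow ho x hx) (by rw [Nat.cast_mul, ← Nat.card_eq_fintype_card, ← h1, pow_two]))
  exact ⟨x, hx, σ, π, h2, fun b hb => pow_of_sr h.prime h.char (h.Y_comm ho) (h.Y_pow ho) hU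
    (hI.sr (h.Y_comm ho) hU) hx hx' hb⟩

theorem four_ex : ∃ W : Submodule F (V8 F), finrank F W = 4 ∧ ∀ g ∈ h.Y ho, ∀ v ∈ W, g v ∈ W := by
  by_cases hI : Irr (h.Y ho) ⊤
  · obtain ⟨x, hx, σ, π, h1, h2⟩ := h.four_str ho h4 (U := ⊤) (fun _ _ _ _ => trivial) top_ne_bot hI
    have h3 : ∀ g ∈ h.Y ho, ∀ v ∈ T4 x (e8 F), g v ∈ T4 x (e8 F) := fun g hg v hv => by
      obtain ⟨j, hj⟩ := h2 g hg
      rw [hj v trivial]
      exact pow_inv (T4_inv (h1 _ trivial)) j v hv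
    have h5 : finrank F (T4 x (e8 F)) ≤ 4 := finrank_range_le_card _
    rcases hI _ le_top h3 with h6 | h6
    · exact (e8_ne ((Submodule.eq_bot_iff _).1 h6 _ (Submodule.subset_span ⟨0, rfl⟩))).elim
    · rw [h6, finrank_top, finrank8] at h5
      omega
  · unfold Irr at hI
    push Not at hI
    obtain ⟨W, -, h1, h2, h3⟩ := hI
    have h5 := h.four_dvd ho h4 h1
    have h6 := Submodule.finrank_lt h3
    have h7 := mt Submodule.finrank_eq_zero.1 h2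
    rw [finrank8] at h6
    exact ⟨W, by omega, h1⟩

theorem four_nd {W : Submodule F (V8 F)} (hW : finrank F W = 4) (hU : ∀ g ∈ h.Y ho, ∀ v ∈ W, g v ∈ W) :
    Nd (Q8 F) W := by
  rcases h.four_irr ho h4 hW (W ⊓ prp (Q8 F) W) inf_le_left
    (fun g hg v hv => ⟨hU g hg v hv.1, prp_inv (h.Y_le ho hg) (hU g hg) hv.2⟩) with h1 | h1
  · exact fun x hx h2 => (Submodule.eq_bot_iff _).1 h1 x ⟨hx, mem_prp.2 h2⟩
  · let T : Submodule F (V8 F) :=
      { carrier := {v | v ∈ W ∧ Q8 F v = 0}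
        add_mem' := fun {a b} ha hb => ⟨add_mem ha.1 hb.1, by
          rw [Q_add, ha.2, hb.2, mem_prp.1 (inf_eq_left.1 h1 ha.1) b hb.1, add_zero, add_zero]⟩
        zero_mem' := ⟨zero_mem _, map_zero _⟩
        smul_mem' := fun c v hv => ⟨W.smul_mem c hv.1, by rw [QuadraticMap.map_smul, hv.2, smul_zero]⟩ }
    obtain ⟨e, heW, he0, he⟩ := LieClassical.OrthFinite.exists_sing_mem (Q := Q8 F) W (by omega)
    exact (he0 ((Submodule.eq_bot_iff _).1 (h.four_ts ho h4 (U := T)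
      (fun g hg v hv => ⟨hU g hg v hv.1, (mem_O.1 (h.Y_le ho hg) v).trans hv.2⟩) fun _ hv => hv.2) e ⟨heW, he⟩)).elim

theorem four_uniq {W U : Submodule F (V8 F)} (hW : finrank F W = 4) (hW' : ∀ g ∈ h.Y ho, ∀ v ∈ W, g v ∈ W)
    (hU : finrank F U = 4) (hU' : ∀ g ∈ h.Y ho, ∀ v ∈ U, g v ∈ U) : U = W ∨ U = prp (Q8 F) W := by
  by_contra hc
  push Not at hc
  have hN := h.four_nd ho h4 hW hW'
  have hP := finrank_prp nondeg8' W
  rw [finrank8] at hP
  have hP' : ∀ g ∈ h.Y ho, ∀ v ∈ prp (Q8 F) W, g v ∈ prp (Q8 F) W := fun g hg v hv =>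
    prp_inv (h.Y_le ho hg) (hW' g hg) hv
  have key : ∀ W' : Submodule F (V8 F), finrank F W' = 4 → (∀ g ∈ h.Y ho, ∀ v ∈ W', g v ∈ W') → U ≠ W' →
      U ⊓ W' = ⊥ := fun W' k1 k2 k3 =>
    (h.four_irr ho h4 hU _ inf_le_left fun g hg v hv => ⟨hU' g hg v hv.1, k2 g hg v hv.2⟩).resolve_right fun e =>
      k3 (Submodule.eq_of_le_of_finrank_eq (inf_eq_left.1 e) (hU.trans k1.symm))
  have k1 := Submodule.finrank_sup_add_finrank_inf_eq U W
  rw [key W hW hW' hc.1, finrank_bot] at k1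
  have k2 : U ⊔ W = ⊤ := Submodule.eq_top_of_finrank_eq (by rw [finrank8]; omega)
  have kill : ∀ φ : Module.End F (V8 F), (∀ v ∈ W, φ v = 0) → (∀ v ∈ U, φ v ∈ U) →
      (∀ v ∈ prp (Q8 F) W, φ v ∈ prp (Q8 F) W) → ∀ v, φ v = 0 := fun φ k3 k5 k6 v => by
    obtain ⟨u, hu, w, hw, rfl⟩ := Submodule.mem_sup.1 (k2 ▸ Submodule.mem_top : v ∈ U ⊔ W)
    rw [map_add, k3 w hw, add_zero]
    obtain ⟨w, hw, w', hw', e⟩ := Submodule.mem_sup.1 (hN.sup_prp nondeg8' ▸ Submodule.mem_top : u ∈ W ⊔ prp (Q8 F) W)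
    refine (Submodule.eq_bot_iff _).1 (key _ (by omega) hP' hc.2) _ ⟨k5 u hu, ?_⟩
    rw [← e, map_add, k3 w hw, zero_add]
    exact k6 w' hw'
  obtain ⟨x, hx, σ, π, h1, h2⟩ := h.four_str ho h4 hW' (by rintro rfl; simp at hW) (h.four_irr ho h4 hW)
  have hq : ∀ U : Submodule F (V8 F), (∀ v ∈ U, x v ∈ U) → ∀ v ∈ U, qrt x σ π v ∈ U := fun U k v hv =>
    sub_mem (k _ (k _ (k _ (k v hv)))) (sub_mem (sub_mem (U.smul_mem _ (add_mem (k _ (k _ (k v hv))) (k v hv)))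
      (U.smul_mem _ (k _ (k v hv)))) hv)
  have h3 := kill _ h1 (hq U (hU' x hx)) (hq _ (hP' x hx))
  obtain ⟨v, hv0, hv⟩ := H920.FP.cw ![Q8 F, LinearMap.BilinMap.toQuadraticMap ((polarBilin (Q8 F)).compl₂ x.toLinearMap),
    LinearMap.BilinMap.toQuadraticMap ((polarBilin (Q8 F)).compl₂ (x * x).toLinearMap)] (by simp)
  refine hv0 ((Submodule.eq_bot_iff _).1 (h.four_ts ho h4 (U := T4 x v) (fun g hg w hw => ?_)
    (T4_ts (h.Y_le ho hx) (h3 _) (hv 0) (hv 1) (hv 2))) v (Submodule.subset_span ⟨0, rfl⟩))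
  obtain ⟨j, hj⟩ := h2 g hg
  have h5 := kill (g.toLinearMap - (x ^ j).toLinearMap) (fun v hv => sub_eq_zero.2 (hj v hv))
    (fun v hv => sub_mem (hU' g hg v hv) (hU' _ (pow_mem hx j) v hv))
    (fun v hv => sub_mem (hP' g hg v hv) (hP' _ (pow_mem hx j) v hv)) w
  rw [show g w = (x ^ j) w from sub_eq_zero.1 h5]
  exact pow_inv (T4_inv (h3 v)) j w hw

theorem four (hB : BoxB) : Kill2 (LL S) := by
  obtain ⟨W, hW, hW'⟩ := h.four_ex ho h4
  have hP := finrank_prp nondeg8' W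
  rw [finrank8] at hP
  have hd : ∀ i, finrank F (![W, prp (Q8 F) W] i) = 4 := fun i => by
    fin_cases i
    · exact hW
    · show finrank F (prp (Q8 F) W) = 4
      omega
  have hi : ∀ g ∈ h.Y ho, ∀ i, ∀ v ∈ ![W, prp (Q8 F) W] i, g v ∈ ![W, prp (Q8 F) W] i := fun g hg i => by
    fin_cases i
    · exact hW' g hg
    · exact fun v hv => prp_inv (h.Y_le ho hg) (hW' g hg) hv
  refine hB F (V8 F) (Q8 F) _ ![W, prp (Q8 F) W] (h.Y ho) r nondeg8' (dec_prp nondeg8' (h.four_nd ho h4 hW hW')) hd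
    (fun M hM i => ?_) (h.Y_le ho) (h.Y_comm ho) (h.Y_pow ho) (fun c hc => ?_) hi
    (fun i => h.four_nt ho h4 fun e => by have := hd i; rw [e, finrank_bot] at this; omega)
    (fun i => h.four_irr ho h4 (hd i)) (fun x hx i hx' U hU hU' => ?_) (h.Y_conj ho)
  · rcases h.four_uniq ho h4 hW hW' ((finrank_gmap M _).trans (hd i))
      (gmap_inv (h.Y_conj ho) hM fun g hg => hi g hg i) with e | e
    · exact ⟨0, fun x hx => e.le (apply_mem_gmap.2 hx)⟩
    · exact ⟨1, fun x hx => e.le (apply_mem_gmap.2 hx)⟩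
  · have : Fact r.Prime := ⟨h.prime⟩
    by_contra h1
    have h2 : r ∣ Fintype.card F - 1 := orderOf_eq_prime hc h1 ▸ orderOf_dvd_of_pow_eq_one
      (FiniteField.pow_card_sub_one_eq_one c (by rintro rfl; simp [h.prime.ne_zero] at hc))
    rw [← ZMod.natCast_eq_zero_iff, Nat.cast_sub Fintype.card_pos, Nat.cast_one, sub_eq_zero] at h2
    rw [Nat.card_eq_fintype_card, h2, orderOf_one] at h4
    omega
  · obtain ⟨m, h1, h2⟩ := order_dvd_one h.prime h.char (h.Y_pow ho x hx) hU'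
    obtain ⟨w, hw, hw'⟩ := hx'
    have h3 : U ⊓ Fx (Subgroup.zpowers x) = ⊥ := eq_bot_iff.2 fun v hv => by_contra fun h0 =>
      hw' ((h.four_irr ho h4 (hd i)).sr (h.Y_comm ho) (fun g hg => hi g hg i) x hx v (hU hv.1) h0
        (mem_Fx_zpowers.1 hv.2) w hw)
    rw [h3, finrank_bot, zero_add] at h1
    rw [h4, ← h1] at h2
    have h5 := Submodule.finrank_mono hU
    rw [hd i] at h5
    by_cases h0 : finrank F U = 0
    · exact Or.inl (Submodule.finrank_eq_zero.1 h0)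
    · exact Or.inr (Submodule.eq_of_le_of_finrank_eq hU (by rw [hd i]; omega))

end Cx

end Cfsg.Agent.SB.D4
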