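import Cfsg.Agent.SB.D4.Defs
import Cfsg.Agent.H749.QuadSplit
import Cfsg.Agent.H181.StdBasis

/-!
# S5765, `PΩ₈⁺(q)` with triality: linear algebra for the geometric boxes (helper52)

* `Ind`, `ND`, `Pm` : independent pairs, non-degenerate subspaces, maps permuting blocks;
* `pm_rr` : `M, cjv v u M ∈ L` and `r_u` permuting the blocks give that `r_{M v} r_v` permutes the blocks;
* `Rot` : what is used of `w = r_{v'} r_v` if `v'` is not on the line of `v`;
* `fix_planes`, `fix_two` : `M` fixes the line of `v`;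
* `hyp`, `fix_block`, `eig_comp`, `cjv_comm`.
-/

set_option autoImplicit false
set_option linter.unusedSectionVars false

namespace Cfsg.Agent.SB.D4.G

open QuadraticMap Module Cfsg.Agent.LieClassical.OrthCore
  Cfsg.Agent.ClassicalGeometry.OrthSemi Cfsg.Agent.H989.OutOrth.Basic

variable {F V : Type} [Field F] [AddCommGroup V] [Module F V] {Q : QuadraticForm F V}

/-! ### independent pairs -/

variable (F) in
/-- independent -/
def Ind (x y : V) : Prop := ∀ a b : F, a • x + b • y = 0 → a = 0 ∧ b = 0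

theorem Ind.symm {x y : V} (H : Ind F x y) : Ind F y x := fun a b hab => (H b a (by rwa [add_comm])).symm

theorem Ind.left_ne {x y : V} (H : Ind F x y) : x ≠ 0 := fun h0 =>
  one_ne_zero (H 1 0 (by rw [h0]; simp)).1

theorem Ind.right_ne {x y : V} (H : Ind F x y) : y ≠ 0 := H.symm.left_ne

theorem Ind.add_ne {x y : V} (H : Ind F x y) : x + y ≠ 0 := fun h0 =>
  one_ne_zero (H 1 1 (by simpa using h0)).1

theorem Ind.add_right {x y : V} (H : Ind F x y) (t : F) : Ind F x (y + t • x) := fun a b hab => by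
  obtain ⟨h1, h2⟩ := H (a + b * t) b (by rw [← hab]; module)
  subst h2
  exact ⟨by simpa using h1, rfl⟩

theorem ind_of_ne {x y : V} (hx : x ≠ 0) (hy : ∀ c : F, y ≠ c • x) : Ind F x y := by
  intro a b hab
  have hb : b = 0 := by
    by_contra hb
    apply hy (-(b⁻¹ * a))
    have h1 : b • y = -(a • x) := eq_neg_of_add_eq_zero_right hab
    rw [neg_smul, mul_smul, ← smul_neg, ← h1, smul_smul, inv_mul_cancel₀ hb, one_smul]
  subst hb
  rw [zero_smul, add_zero] at hab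
  exact ⟨(smul_eq_zero.1 hab).resolve_right hx, rfl⟩

theorem Ind.eig {x y : V} (H : Ind F x y) {a b c : F} (h : a • x + b • y = c • (x + y)) : a = c ∧ b = c := by
  obtain ⟨h1, h2⟩ := H (a - c) (b - c) (by rw [← sub_eq_zero] at h; rw [← h]; module)
  exact ⟨sub_eq_zero.1 h1, sub_eq_zero.1 h2⟩

/-- two independent vectors of `⟨v, v'⟩` span it -/
theorem span_of_two {v v' n n' : V} {a b c d : F} (hn : n = a • v + b • v') (hn' : n' = c • v + d • v')
    (H : Ind F n n') : ∃ s t : F, v = s • n + t • n' := by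
  have hdet : a * d - b * c ≠ 0 := by
    intro h0
    obtain ⟨h1, h2⟩ := H d (-b) (by
      rw [hn, hn']
      have e : d • (a • v + b • v') + -b • (c • v + d • v') = (a * d - b * c) • v := by module
      rw [e, h0, zero_smul])
    obtain ⟨h3, h4⟩ := H (-c) a (by
      rw [hn, hn']
      have e : -c • (a • v + b • v') + a • (c • v + d • v') = (a * d - b * c) • v' := by module
      rw [e, h0, zero_smul])
    apply H.left_ne
    rw [hn, h4, neg_eq_zero.1 h2]
    simp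
  refine ⟨(a * d - b * c)⁻¹ * d, -((a * d - b * c)⁻¹ * b), ?_⟩
  rw [hn, hn']
  have e : ((a * d - b * c)⁻¹ * d) • (a • v + b • v') + -((a * d - b * c)⁻¹ * b) • (c • v + d • v') =
    ((a * d - b * c)⁻¹ * (a * d - b * c)) • v := by module
  rw [e, inv_mul_cancel₀ hdet, one_smul]

theorem exists_ind {W : Submodule F V} (h2 : 2 ≤ finrank F W) (x : V) (hx : x ≠ 0) : ∃ y ∈ W, Ind F x y := by
  by_contra hcon
  push Not at hcon
  have h1 : W ≤ Submodule.span F {x} := by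
    intro y hy
    by_contra h3
    exact hcon y hy (ind_of_ne hx fun c hc => h3 (Submodule.mem_span_singleton.2 ⟨c, hc.symm⟩))
  have h3 := Submodule.finrank_mono h1
  rw [finrank_span_singleton hx] at h3
  omega

theorem exists_ne_zero {W : Submodule F V} (h2 : 1 ≤ finrank F W) : ∃ x ∈ W, x ≠ 0 := by
  by_contra hcon
  push Not at hcon
  have h1 : W = ⊥ := (Submodule.eq_bot_iff W).2 hcon
  rw [h1, finrank_bot] at h2
  omega

theorem span_two [Finite V] {W : Submodule F V} (h2 : finrank F W = 2) {x y : V} (hx : x ∈ W) (hy : y ∈ W)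
    (H : Ind F x y) {z : V} (hz : z ∈ W) : ∃ s t : F, z = s • x + t • y := by
  have h1 : LinearIndependent F ![x, y] := LinearIndependent.pair_iff.2 H
  have h3 : Submodule.span F (Set.range ![x, y]) = W := by
    apply Submodule.eq_of_le_of_finrank_eq
    · rw [Submodule.span_le]
      rintro _ ⟨i, rfl⟩
      fin_cases i
      exacts [hx, hy]
    · rw [finrank_span_eq_card h1, h2]
      rfl
  rw [← h3, Matrix.range_cons, Matrix.range_cons, Matrix.range_empty, Set.union_empty, Set.singleton_union,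
    Submodule.mem_span_pair] at hz
  obtain ⟨s, t, h⟩ := hz
  exact ⟨s, t, h.symm⟩

/-! ### non-degenerate subspaces -/

variable (Q) in
/-- non-degenerate -/
def ND (W : Submodule F V) : Prop := ∀ x ∈ W, (∀ y ∈ W, polar Q x y = 0) → x = 0

theorem ND.exists_ne {W : Submodule F V} (h : ND Q W) {x : V} (hx : x ∈ W) (h0 : x ≠ 0) :
    ∃ y ∈ W, polar Q x y ≠ 0 := by
  by_contra hcon
  push Not at hcon
  exact h0 (h x hx hcon)

theorem ND.exists_nonsing {W : Submodule F V} (h : ND Q W) (h1 : 1 ≤ finrank F W) : ∃ x ∈ W, Q x ≠ 0 := by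
  by_contra hcon
  push Not at hcon
  obtain ⟨x, hx, hx0⟩ := exists_ne_zero h1
  obtain ⟨y, hy, hxy⟩ := h.exists_ne hx hx0
  have h2 := Q_add (Q := Q) x y
  rw [hcon x hx, hcon y hy, hcon _ (add_mem hx hy), zero_add, zero_add] at h2
  exact hxy h2.symm

/-- binary forms are universal -/
theorem ND.exists_val [Finite F] {W : Submodule F V} (h : ND Q W) (h2 : 2 ≤ finrank F W) (c : F) :
    ∃ x ∈ W, Q x = c := by
  obtain ⟨x, hx⟩ := H749.exists_value (Q := Q.comp W.subtype)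
    (fun x hx => Subtype.ext (h x x.2 fun y hy => hx ⟨y, hy⟩)) h2 c
  exact ⟨x, x.2, hx⟩

theorem exists_sing [Finite F] [Finite V] {W : Submodule F V} (h3 : 3 ≤ finrank F W) : ∃ x ∈ W, x ≠ 0 ∧ Q x = 0 := by
  obtain ⟨x, hx0, hx⟩ := H181.StdBasis.exists_singular (Q.comp W.subtype) h3
  exact ⟨x, x.2, fun h => hx0 (Subtype.ext h), hx⟩

section dec

variable {ι : Type} {P : ι → Submodule F V}

theorem _root_.Cfsg.Agent.SB.D4.Dec.eq_zeroG (hQ : Nondeg Q) (hD : Dec Q P) {x : V} (h : ∀ i, ∀ y ∈ P i, polar Q x y = 0) : x = 0 := by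
  refine hQ x fun y => ?_
  have hy : y ∈ ⨆ i, P i := by rw [hD.span]; trivial
  induction hy using Submodule.iSup_induction' with
  | mem i y hy => exact h i y hy
  | zero => exact polar_zero_right _ _
  | add y z _ _ hy hz => rw [polar_add_right, hy, hz, add_zero]

theorem _root_.Cfsg.Agent.SB.D4.Dec.ndG (hQ : Nondeg Q) (hD : Dec Q P) (i : ι) : ND Q (P i) := fun x hx h =>
  hD.eq_zeroG hQ fun j y hy => by
    by_cases hij : i = j
    · exact h y (hij ▸ hy)
    · exact hD.orth i j hij x hx y hy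

theorem _root_.Cfsg.Agent.SB.D4.Dec.infG (hQ : Nondeg Q) (hD : Dec Q P) {i j : ι} (hij : i ≠ j) {x : V} (hi : x ∈ P i) (hj : x ∈ P j) :
    x = 0 := hD.ndG hQ i x hi fun y hy => hD.orth j i hij.symm x hj y hy

theorem _root_.Cfsg.Agent.SB.D4.Dec.indG (hQ : Nondeg Q) (hD : Dec Q P) {i j : ι} (hij : i ≠ j) {x y : V} (hi : x ∈ P i) (hj : y ∈ P j)
    (hx : x ≠ 0) (hy : y ≠ 0) : Ind F x y := by
  intro a b hab
  have h1 : a • x = 0 := hD.infG hQ hij (Submodule.smul_mem _ _ hi) (by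
    rw [eq_neg_of_add_eq_zero_left hab]
    exact neg_mem (Submodule.smul_mem _ _ hj))
  rw [h1, zero_add] at hab
  exact ⟨(smul_eq_zero.1 h1).resolve_right hx, (smul_eq_zero.1 hab).resolve_right hy⟩

theorem _root_.Cfsg.Agent.SB.D4.Dec.sum_eq_zeroG [Fintype ι] (hQ : Nondeg Q) (hD : Dec Q P) {x : ι → V} (hx : ∀ i, x i ∈ P i)
    (h : ∑ i, x i = 0) (i : ι) : x i = 0 := by
  refine hD.ndG hQ i _ (hx i) fun y hy => ?_
  have h1 : polar Q (∑ j, x j) y = polar Q (x i) y := by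
    rw [← polarBilin_apply_apply, map_sum, LinearMap.sum_apply, Finset.sum_eq_single i]
    · rfl
    · exact fun j _ hj => hD.orth j i hj _ (hx j) y hy
    · exact fun h => absurd (Finset.mem_univ i) h
  rw [← h1, h, polar_zero_left]

end dec

/-! ### semisimilitudes -/

theorem gam_mul (M N : Gam Q) (x : V) : (M * N).1 x = M.1 (N.1 x) := rfl

theorem gam_add (M : Gam Q) (x y : V) : M.1 (x + y) = M.1 x + M.1 y := add_of_mem M.2 x y

theorem gam_zero (M : Gam Q) : M.1 0 = 0 := by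
  obtain ⟨σ, c, h⟩ := M.2
  exact h.map_zero

theorem gam_ne (M : Gam Q) {x : V} (hx : x ≠ 0) : M.1 x ≠ 0 := fun h =>
  hx (M.1.injective (h.trans (gam_zero M).symm))

theorem gam_inv (M : Gam Q) (x : V) : (M⁻¹).1 (M.1 x) = x := inv_apply M.1 x

theorem gam_inv' (M : Gam Q) (x : V) : M.1 ((M⁻¹).1 x) = x := apply_inv M.1 x

theorem gam_sum {ι : Type} [Fintype ι] (M : Gam Q) (x : ι → V) : M.1 (∑ i, x i) = ∑ i, M.1 (x i) :=
  map_sum (AddMonoidHom.mk' M.1 (gam_add M)) x Finset.univ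

theorem gam_sing (M : Gam Q) {x : V} (hx : Q x = 0) : Q (M.1 x) = 0 := by
  obtain ⟨σ, c, h⟩ := M.2
  rw [h.form, hx, map_zero, mul_zero]

theorem gam_perp (M : Gam Q) {x y : V} (hx : polar Q x y = 0) : polar Q (M.1 x) (M.1 y) = 0 := by
  obtain ⟨σ, c, h⟩ := M.2
  rw [h.polar, hx, map_zero, mul_zero]

theorem eig_ne (M : Gam Q) {x : V} (hx : x ≠ 0) {c : F} (h : M.1 x = c • x) : c ≠ 0 := by
  rintro rfl
  exact gam_ne M hx (by rw [h, zero_smul])

/-- the automorphisms of a field with at most three elements -/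
theorem aut_small [Finite F] (h3 : Nat.card F ≤ 3) (σ : F ≃+* F) (a : F) : σ a = a := by
  classical
  by_contra h
  have h0 : a ≠ 0 := fun e => h (by rw [e, map_zero])
  have h1 : a ≠ 1 := fun e => h (by rw [e, map_one])
  have h2 : σ a ≠ 0 := fun e => h0 (σ.injective (by rw [e, map_zero]))
  have h4 : σ a ≠ 1 := fun e => h1 (σ.injective (by rw [e, map_one]))
  have h5 : ({σ a, a, 0, 1} : Set F).ncard = 4 := by
    rw [Set.ncard_insert_of_notMem, Set.ncard_insert_of_notMem, Set.ncard_pair zero_ne_one]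
    · simp [h0, h1]
    · simp [h, h2, h4]
  have h6 := Set.ncard_le_ncard (Set.subset_univ ({σ a, a, 0, 1} : Set F))
  rw [h5, Set.ncard_univ] at h6
  omega

theorem exists_gen (F : Type) [Field F] [Finite F] : ∃ g : F, g ≠ 0 ∧ ∀ σ : F ≃+* F, σ g = g → ∀ a, σ a = a := by
  obtain ⟨g, hg⟩ := IsCyclic.exists_generator (α := Fˣ)
  refine ⟨g, g.ne_zero, fun σ hσ a => ?_⟩
  by_cases ha : a = 0
  · rw [ha, map_zero]
  · obtain ⟨k, hk⟩ := Subgroup.mem_zpowers_iff.1 (hg (Units.mk0 a ha))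
    have h4 : a = (g : F) ^ k := by
      have := congrArg Units.val hk
      rw [Units.val_zpow_eq_zpow_val] at this
      exact this.symm
    rw [h4, map_zpow₀, hσ]

/-- the eigenspace of a linear similitude -/
def eigS (M : Gam Q) (hM : ∀ (a : F) (x : V), M.1 (a • x) = a • M.1 x) (c : F) : Submodule F V where
  carrier := {x | M.1 x = c • x}
  add_mem' {x y} hx hy := by
    show M.1 (x + y) = _
    rw [gam_add, hx, hy, smul_add]
  zero_mem' := by
    show M.1 0 = _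
    rw [gam_zero, smul_zero]
  smul_mem' a x hx := by
    show M.1 (a • x) = _
    rw [hM, hx, smul_comm]

theorem mem_eigS {M : Gam Q} {hM : ∀ (a : F) (x : V), M.1 (a • x) = a • M.1 x} {c : F} {x : V} :
    x ∈ eigS M hM c ↔ M.1 x = c • x := Iff.rfl

theorem scal_of_dec {ι : Type} {P : ι → Submodule F V} (hD : Dec Q P) {M : Gam Q}
    (hM : ∀ (a : F) (x : V), M.1 (a • x) = a • M.1 x) {c : F} (h : ∀ i, ∀ x ∈ P i, M.1 x = c • x) : IsScal M := by
  refine ⟨c, fun x => ?_⟩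
  have h1 : (⨆ i, P i) ≤ eigS M hM c := iSup_le fun i x hx => h i x hx
  exact h1 (by rw [hD.span]; trivial)

/-! ### reflections -/

theorem rr_of_perp {v x : V} (h : polar Q v x = 0) : (rr Q v).1 x = x := by
  rw [rr_apply, h, mul_zero, zero_smul, sub_zero]

theorem rr_form (v x : V) : Q ((rr Q v).1 x) = Q x := by
  by_cases h : Q v = 0
  · rw [rr_apply, h, inv_zero, zero_mul, zero_smul, sub_zero]
  · rw [rr_eq h, rf_apply]
    exact refl_mem_O h x

theorem rr_lin (v : V) (a b : F) (x y : V) : (rr Q v).1 (a • x + b • y) = a • (rr Q v).1 x + b • (rr Q v).1 y := by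
  simp only [rr_apply, polar_add_right, polar_smul_right, smul_eq_mul]
  module

theorem rr_mem {W : Submodule F V} {v x : V} (hv : v ∈ W) (hx : x ∈ W) : (rr Q v).1 x ∈ W := by
  rw [rr_apply]
  exact sub_mem hx (Submodule.smul_mem _ _ hv)

theorem rr_comm {v a : V} (h : polar Q v a = 0) : Commute (rr Q v) (rr Q a) := by
  have h' : polar Q a v = 0 := by rw [polar_comm]; exact h
  apply Subtype.ext
  ext x
  show (rr Q v).1 ((rr Q a).1 x) = (rr Q a).1 ((rr Q v).1 x)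
  simp only [rr_apply, polar_sub_right, polar_smul_right, h, h', smul_zero, sub_zero]
  abel

theorem cjv_comm {v u a b : V} (h1 : polar Q v a = 0) (h2 : polar Q v b = 0) (h3 : polar Q u a = 0)
    (h4 : polar Q u b = 0) : cjv v u (rr Q a * rr Q b) = rr Q a * rr Q b := by
  have c1 : Commute (rr Q u * rr Q v) (rr Q a * rr Q b) :=
    ((rr_comm h3).mul_right (rr_comm h4)).mul_left ((rr_comm h1).mul_right (rr_comm h2))
  rw [cjv, c1.eq, mul_assoc, mul_assoc (rr Q u), ← mul_assoc (rr Q v), rr_mul_self, one_mul, rr_mul_self, mul_one]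

theorem cjv_inv (v u : V) (M : Gam Q) : (cjv v u M)⁻¹ = cjv v u M⁻¹ := by
  simp only [cjv, mul_inv_rev, rr_inv, mul_assoc]

theorem rr_eq_cjv {v : V} (hv : Q v ≠ 0) (u : V) (M : Gam Q) :
    rr Q (M.1 v) * rr Q v = M * (rr Q u * (cjv v u M)⁻¹ * rr Q u) := by
  have e : ∀ x : V, ∀ N : Gam Q, rr Q x * (rr Q x * N) = N := fun x N => by rw [← mul_assoc, rr_mul_self, one_mul]
  rw [← conj_rr M hv, cjv_inv, cjv]
  simp only [mul_assoc, e, rr_mul_self, mul_one]

section blocks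

variable {ι : Type} {P : ι → Submodule F V}

/-- `M` maps blocks into blocks -/
def Pm (P : ι → Submodule F V) (M : Gam Q) : Prop := ∀ i, ∃ j, ∀ x ∈ P i, M.1 x ∈ P j

theorem Pm.mul {M N : Gam Q} (hM : Pm P M) (hN : Pm P N) : Pm P (M * N) := fun i => by
  obtain ⟨j, hj⟩ := hN i
  obtain ⟨k, hk⟩ := hM j
  exact ⟨k, fun x hx => hk _ (hj x hx)⟩

theorem _root_.Cfsg.Agent.SB.D4.Dec.rr_memG (hD : Dec Q P) {k : ι} {u : V} (hu : u ∈ P k) (i : ι) : ∀ x ∈ P i, (rr Q u).1 x ∈ P i := by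
  intro x hx
  by_cases h : k = i
  · exact G.rr_mem (h ▸ hu) hx
  · rw [rr_of_perp (hD.orth k i h u hu x hx)]
    exact hx

theorem _root_.Cfsg.Agent.SB.D4.Dec.pm_rrG (hD : Dec Q P) {k : ι} {u : V} (hu : u ∈ P k) : Pm P (rr Q u) := fun i => ⟨i, hD.rr_memG hu i⟩

/-- **LA**: `r_{M v} r_v` permutes the blocks -/
theorem pm_rr {L : Subgroup (Gam Q)} (hL : Prm L P) {v u : V} (hv : Q v ≠ 0) (hu : Pm P (rr Q u)) {M : Gam Q}
    (hM : M ∈ L) (hc : cjv v u M ∈ L) : Pm P (rr Q (M.1 v) * rr Q v) := by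
  rw [rr_eq_cjv hv u]
  exact Pm.mul (hL M hM) ((hu.mul (hL _ (inv_mem hc))).mul hu)

end blocks

variable (Q) in
/-- what is used of the product of two different reflections -/
structure Rot (v v' : V) (w : V → V) : Prop where
  lin : ∀ (a b : F) (x y : V), w (a • x + b • y) = a • w x + b • w y
  form : ∀ x, Q (w x) = Q x
  sub : ∀ z, ∃ a b : F, w z - z = a • v + b • v'
  ne : ∀ z, polar Q v z ≠ 0 → w z - z ≠ 0

theorem rot_of {v v' : V} (hv : Q v ≠ 0) (h : ∀ c : F, v' ≠ c • v) : Rot Q v v' (rr Q v' * rr Q v).1 := by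
  have hv0 : v ≠ 0 := fun h0 => hv (by rw [h0, map_zero])
  have e : ∀ z, (rr Q v' * rr Q v).1 z - z = (-((Q v)⁻¹ * polar Q v z)) • v +
      (-((Q v')⁻¹ * polar Q v' ((rr Q v).1 z))) • v' := by
    intro z
    rw [gam_mul, rr_apply v']
    nth_rewrite 1 [rr_apply]
    module
  refine ⟨fun a b x y => by rw [gam_mul, gam_mul, gam_mul, rr_lin, rr_lin], fun x => by rw [gam_mul, rr_form, rr_form],
    fun z => ⟨_, _, e z⟩, fun z hz h0 => ?_⟩
  rw [e] at h0
  exact mul_ne_zero (inv_ne_zero hv) hz (neg_eq_zero.1 (ind_of_ne hv0 h _ _ h0).1)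

/-- two vectors of the form `w z - z` -/
theorem Rot.span {v v' : V} {w : V → V} (R : Rot Q v v' w) {x y : V} (H : Ind F (w x - x) (w y - y)) :
    ∃ s t : F, v = s • (w x - x) + t • (w y - y) := by
  obtain ⟨a, b, h1⟩ := R.sub x
  obtain ⟨c, d, h2⟩ := R.sub y
  exact span_of_two h1 h2 H

theorem Rot.comb {v v' : V} {w : V → V} (R : Rot Q v v' w) (a b : F) (x y : V) :
    a • (w x - x) + b • (w y - y) = w (a • x + b • y) - (a • x + b • y) := by
  rw [R.lin]; module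

section blocks

variable {ι : Type} {P : ι → Submodule F V}

/-- a moved block -/
theorem Rot.moved {v v' : V} {w : V → V} (R : Rot Q v v' w) (hQ : Nondeg Q) (hD : Dec Q P) {i j : ι} (hij : i ≠ j)
    (h : ∀ x ∈ P i, w x ∈ P j) {x y : V} (hx : x ∈ P i) (hy : y ∈ P i) (H : Ind F x y) :
    Ind F (w x - x) (w y - y) := by
  intro a b hab
  rw [R.comb, sub_eq_zero] at hab
  have h1 : a • x + b • y ∈ P i := add_mem (Submodule.smul_mem _ _ hx) (Submodule.smul_mem _ _ hy)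
  exact H a b (hD.infG hQ hij h1 (hab ▸ h _ h1))

/-- **LA, blocks of dimension at least two**, `v` not orthogonal to three blocks -/
theorem la_planes (hQ : Nondeg Q) (hD : Dec Q P) (h2 : ∀ i, 2 ≤ finrank F (P i)) {v v' : V} (hv : Q v ≠ 0)
    {i₁ i₂ i₃ : ι} (h12 : i₁ ≠ i₂) (h13 : i₁ ≠ i₃) (h23 : i₂ ≠ i₃) (e1 : ∃ z ∈ P i₁, polar Q v z ≠ 0)
    (e2 : ∃ z ∈ P i₂, polar Q v z ≠ 0) (e3 : ∃ z ∈ P i₃, polar Q v z ≠ 0) (hw : Pm P (rr Q v' * rr Q v)) :
    ∃ c : F, v' = c • v := by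
  by_contra hcon
  push Not at hcon
  have R := rot_of hv hcon
  set w := (rr Q v' * rr Q v).1 with hwd
  have key : ∀ i j : ι, v ∉ P i ⊔ P j := by
    intro i j hv'
    have h1 : ∀ k, k ≠ i → k ≠ j → ¬ ∃ z ∈ P k, polar Q v z ≠ 0 := by
      rintro k hi hj ⟨z, hz, hz'⟩
      obtain ⟨a, ha, b, hb, rfl⟩ := Submodule.mem_sup.1 hv'
      rw [polar_add_left, hD.orth i k hi.symm a ha z hz, hD.orth j k hj.symm b hb z hz, add_zero] at hz'
      exact hz' rfl
    by_cases a1 : i₁ = i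
    · by_cases a2 : i₂ = j
      · exact h1 i₃ (a1 ▸ h13.symm) (a2 ▸ h23.symm) e3
      · exact h1 i₂ (a1 ▸ h12.symm) a2 e2
    by_cases a2 : i₁ = j
    · by_cases a3 : i₂ = i
      · exact h1 i₃ (a3 ▸ h23.symm) (a2 ▸ h13.symm) e3
      · exact h1 i₂ a3 (a2 ▸ h12.symm) e2
    · exact h1 i₁ a1 a2 e1
  by_cases hfix : ∀ i, ∀ x ∈ P i, w x ∈ P i
  · obtain ⟨x, hx, hx'⟩ := e1
    obtain ⟨y, hy, hy'⟩ := e2
    have m1 := sub_mem (hfix _ x hx) hx
    have m2 := sub_mem (hfix _ y hy) hy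
    obtain ⟨s, t, h⟩ := R.span (hD.indG hQ h12 m1 m2 (R.ne x hx') (R.ne y hy'))
    refine key i₁ i₂ ?_
    rw [h]
    exact Submodule.add_mem_sup (Submodule.smul_mem _ _ m1) (Submodule.smul_mem _ _ m2)
  · push Not at hfix
    obtain ⟨i, x₀, hx₀, hx₀'⟩ := hfix
    obtain ⟨j, hj⟩ := hw i
    have hij : i ≠ j := fun e => hx₀' (e ▸ hj x₀ hx₀)
    obtain ⟨x, hx, hx0⟩ := exists_ne_zero (W := P i) (by have := h2 i; omega)
    obtain ⟨y, hy, H⟩ := exists_ind (h2 i) x hx0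
    obtain ⟨s, t, h⟩ := R.span (R.moved hQ hD hij hj hx hy H)
    refine key i j ?_
    have m : ∀ z ∈ P i, w z - z ∈ P i ⊔ P j := fun z hz =>
      sub_mem (Submodule.mem_sup_right (hj z hz)) (Submodule.mem_sup_left hz)
    rw [h]
    exact add_mem (Submodule.smul_mem _ _ (m x hx)) (Submodule.smul_mem _ _ (m y hy))

theorem fix_planes (hQ : Nondeg Q) (hD : Dec Q P) (h2 : ∀ i, 2 ≤ finrank F (P i)) {L : Subgroup (Gam Q)}
    (hL : Prm L P) {v u : V} (hv : Q v ≠ 0) {k : ι} (hu : u ∈ P k)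
    {i₁ i₂ i₃ : ι} (h12 : i₁ ≠ i₂) (h13 : i₁ ≠ i₃) (h23 : i₂ ≠ i₃) (e1 : ∃ z ∈ P i₁, polar Q v z ≠ 0)
    (e2 : ∃ z ∈ P i₂, polar Q v z ≠ 0) (e3 : ∃ z ∈ P i₃, polar Q v z ≠ 0) {M : Gam Q} (hM : M ∈ L)
    (hc : cjv v u M ∈ L) : Fix M v :=
  la_planes hQ hD h2 hv h12 h13 h23 e1 e2 e3 (pm_rr hL hv (hD.pm_rrG hu) hM hc)

/-- **LA, two fixed blocks**, one component singular -/
theorem la_two_fixed (hQ : Nondeg Q) (hD : Dec Q P) {i j : ι} (hij : i ≠ j) {a b v' : V} (ha : a ∈ P i) (hb : b ∈ P j)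
    (ha0 : a ≠ 0) (hQa : Q a = 0) (hQb : Q b ≠ 0) (h1 : ∀ x ∈ P i, (rr Q v' * rr Q (a + b)).1 x ∈ P i)
    (h2 : ∀ x ∈ P j, (rr Q v' * rr Q (a + b)).1 x ∈ P j) : ∃ c : F, v' = c • (a + b) := by
  by_contra hcon
  push Not at hcon
  have hv : Q (a + b) ≠ 0 := by rwa [Q_add, hQa, hD.orth i j hij a ha b hb, zero_add, add_zero]
  have R := rot_of hv hcon
  set w := (rr Q v' * rr Q (a + b)).1 with hwd
  obtain ⟨x, hx, hx'⟩ := (hD.ndG hQ i).exists_ne ha ha0
  obtain ⟨y, hy, hy'⟩ := (hD.ndG hQ j).exists_ne hb fun h0 => hQb (by rw [h0, map_zero])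
  have m1 := sub_mem (h1 x hx) hx
  have m2 := sub_mem (h2 y hy) hy
  have n1 := R.ne x (by rwa [polar_add_left, hD.orth j i hij.symm b hb x hx, add_zero])
  have n2 := R.ne y (by rwa [polar_add_left, hD.orth i j hij a ha y hy, zero_add])
  obtain ⟨s, t, h⟩ := R.span (hD.indG hQ hij m1 m2 n1 n2)
  have h3 : a - s • (w x - x) = 0 := hD.infG hQ hij (sub_mem ha (Submodule.smul_mem _ _ m1)) (by
    have e : a - s • (w x - x) = t • (w y - y) - b := by
      rw [sub_eq_sub_iff_add_eq_add, h, add_comm]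
    rw [e]
    exact sub_mem (Submodule.smul_mem _ _ m2) hb)
  have hs : s ≠ 0 := by
    rintro rfl
    exact ha0 (by simpa using h3)
  have h4 : w x = x + s⁻¹ • a := by
    rw [sub_eq_zero.1 h3, smul_smul, inv_mul_cancel₀ hs, one_smul, add_sub_cancel]
  have h5 := R.form x
  rw [h4, Q_add, QuadraticMap.map_smul, hQa, smul_zero, add_zero, polar_smul_right, add_eq_left, smul_eq_zero,
    polar_comm] at h5
  exact h5.elim (inv_ne_zero hs) hx'

/-- no block of dimension at least three is moved -/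
theorem Rot.fixed [Finite V] {v v' : V} {w : V → V} (R : Rot Q v v' w) (hQ : Nondeg Q) (hD : Dec Q P) {i j : ι}
    (h3 : 3 ≤ finrank F (P i)) (h : ∀ x ∈ P i, w x ∈ P j) : i = j := by
  by_contra hij
  let f : P i →ₗ[F] Submodule.span F {v, v'} :=
    { toFun := fun x => ⟨w x - x, by
        obtain ⟨a, b, e⟩ := R.sub x
        exact Submodule.mem_span_pair.2 ⟨a, b, e.symm⟩⟩
      map_add' := fun x y => Subtype.ext (by
        have e := R.comb 1 1 x y
        simp only [one_smul] at e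
        exact e.symm)
      map_smul' := fun a x => Subtype.ext (by
        have e := R.comb a 0 x x
        simp only [zero_smul, add_zero] at e
        exact e.symm) }
  have hf : Function.Injective f := by
    rw [injective_iff_map_eq_zero]
    intro x hx
    have h1 : w x - x = 0 := congrArg Subtype.val hx
    exact Subtype.ext (hD.infG hQ hij x.2 (sub_eq_zero.1 h1 ▸ h x x.2))
  have h1 := LinearMap.finrank_le_finrank_of_injective hf
  have h2 : finrank F (Submodule.span F ({v, v'} : Set V)) ≤ 2 := by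
    classical
    refine (finrank_span_le_card ({v, v'} : Set V)).trans ?_
    rw [Set.toFinset_insert, Set.toFinset_singleton]
    exact Finset.card_le_two
  omega

/-- **LA, blocks of dimension at least three**, `v = a + b` with `a` singular -/
theorem fix_two [Finite V] (hQ : Nondeg Q) (hD : Dec Q P) (h3 : ∀ i, 3 ≤ finrank F (P i)) {L : Subgroup (Gam Q)}
    (hL : Prm L P) {i j : ι} (hij : i ≠ j) {a b : V} (ha : a ∈ P i) (hb : b ∈ P j)
    (ha0 : a ≠ 0) (hQa : Q a = 0) (hQb : Q b ≠ 0) {M : Gam Q} (hM : M ∈ L) (hc : cjv (a + b) b M ∈ L) :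
    Fix M (a + b) := by
  have hv : Q (a + b) ≠ 0 := by rwa [Q_add, hQa, hD.orth i j hij a ha b hb, zero_add, add_zero]
  have hw := pm_rr hL hv (hD.pm_rrG hb) hM hc
  by_contra hcon
  have R := rot_of (v' := M.1 (a + b)) hv fun c h => hcon ⟨c, h⟩
  have key : ∀ k, ∀ x ∈ P k, (rr Q (M.1 (a + b)) * rr Q (a + b)).1 x ∈ P k := by
    intro k
    obtain ⟨k', hk⟩ := hw k
    rwa [← R.fixed hQ hD (h3 k) hk] at hk
  exact hcon (la_two_fixed hQ hD hij ha hb ha0 hQa hQb (key i) (key j))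

/-- the image of a block is the whole block -/
theorem Pm.inv_mem (hQ : Nondeg Q) (hD : Dec Q P) {M : Gam Q} (hM' : Pm P M⁻¹) {i j : ι} (h0 : ∃ x ∈ P i, x ≠ 0)
    (h : ∀ x ∈ P i, M.1 x ∈ P j) : ∀ y ∈ P j, (M⁻¹).1 y ∈ P i := by
  obtain ⟨k, hk⟩ := hM' j
  obtain ⟨x, hx, hx0⟩ := h0
  have h1 := hk _ (h x hx)
  rw [gam_inv] at h1
  by_cases e : i = k
  · exact e ▸ hk
  · exact absurd (hD.infG hQ e hx h1) hx0

/-- the zero pattern of a fixed vector -/
theorem fix_block (hQ : Nondeg Q) (hD : Dec Q P) {M : Gam Q} (hM : Pm P M) (hM' : Pm P M⁻¹) {v : V} (hv : Fix M v)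
    {i : ι} (h0 : ∃ x ∈ P i, x ≠ 0) (h1 : ∀ y ∈ P i, polar Q v y = 0) (h2 : ∀ j, j ≠ i → ∃ z ∈ P j, polar Q v z ≠ 0) :
    ∀ x ∈ P i, M.1 x ∈ P i := by
  obtain ⟨j, hj⟩ := hM i
  by_cases e : j = i
  · exact e ▸ hj
  exfalso
  obtain ⟨z, hz, hz'⟩ := h2 j e
  obtain ⟨c, hc⟩ := hv
  have h3 := gam_perp M (h1 _ (hM'.inv_mem hQ hD h0 hj z hz))
  rw [gam_inv', hc, polar_smul_left, smul_eq_zero] at h3
  exact h3.elim (eig_ne M (fun h => hz' (by rw [h, polar_zero_left])) hc) hz'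

/-- components of an eigenvector -/
theorem eig_comp [Fintype ι] (hQ : Nondeg Q) (hD : Dec Q P) {M : Gam Q} (hM : ∀ i, ∀ x ∈ P i, M.1 x ∈ P i)
    {x : ι → V} (hx : ∀ i, x i ∈ P i) {c : F} (h : M.1 (∑ i, x i) = c • ∑ i, x i) (i : ι) : M.1 (x i) = c • x i := by
  rw [← sub_eq_zero]
  refine hD.sum_eq_zeroG hQ (x := fun i => M.1 (x i) - c • x i)
    (fun i => sub_mem (hM i _ (hx i)) (Submodule.smul_mem _ _ (hx i))) ?_ i
  rw [Finset.sum_sub_distrib, ← gam_sum, h, Finset.smul_sum, sub_self]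

/-- two components -/
theorem eig_two (hQ : Nondeg Q) (hD : Dec Q P) {M : Gam Q} {i j : ι} (hij : i ≠ j) (hi : ∀ x ∈ P i, M.1 x ∈ P i)
    (hj : ∀ x ∈ P j, M.1 x ∈ P j) {a b : V} (ha : a ∈ P i) (hb : b ∈ P j) {c : F} (h : M.1 (a + b) = c • (a + b)) :
    M.1 a = c • a ∧ M.1 b = c • b := by
  rw [gam_add, smul_add] at h
  have h1 : M.1 a - c • a = 0 := hD.infG hQ hij (sub_mem (hi a ha) (Submodule.smul_mem _ _ ha)) (by
    have e : M.1 a - c • a = c • b - M.1 b := by rw [sub_eq_sub_iff_add_eq_add, h, add_comm]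
    rw [e]
    exact sub_mem (Submodule.smul_mem _ _ hb) (hj b hb))
  have h2 := sub_eq_zero.1 h1
  rw [h2] at h
  exact ⟨h2, add_left_cancel h⟩

end blocks

/-- two blocks are not interchanged by a map fixing `a + b`, `a` singular, `b` nonsingular -/
theorem no_swap {P : Fin 2 → Submodule F V} (hQ : Nondeg Q) (hD : Dec Q P) {M : Gam Q} (hM : Pm P M) (hM' : Pm P M⁻¹)
    {a b : V} (ha : a ∈ P 0) (hb : b ∈ P 1) (ha0 : a ≠ 0) (hQa : Q a = 0) (hQb : Q b ≠ 0) (hv : Fix M (a + b)) :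
    ∀ i, ∀ x ∈ P i, M.1 x ∈ P i := by
  have hb0 : b ≠ 0 := fun h0 => hQb (by rw [h0, map_zero])
  have h01 : (0 : Fin 2) ≠ 1 := by decide
  obtain ⟨j, hj⟩ := hM 0
  obtain ⟨k, hk⟩ := hM 1
  have hjk : j ≠ k := by
    rintro rfl
    have h1 := hM'.inv_mem hQ hD ⟨a, ha, ha0⟩ hj _ (hk b hb)
    rw [gam_inv] at h1
    exact hb0 (hD.infG hQ h01 h1 hb)
  have key : (j = 0 ∧ k = 1) ∨ (j = 1 ∧ k = 0) := by omega
  rcases key with ⟨rfl, rfl⟩ | ⟨rfl, rfl⟩
  · intro i
    fin_cases i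
    exacts [hj, hk]
  exfalso
  obtain ⟨c, hc⟩ := hv
  rw [gam_add, smul_add] at hc
  have h1 : M.1 b - c • a = 0 := hD.infG hQ h01 (sub_mem (hk b hb) (Submodule.smul_mem _ _ ha)) (by
    have e : M.1 b - c • a = c • b - M.1 a := by rw [sub_eq_sub_iff_add_eq_add, add_comm, hc, add_comm]
    rw [e]
    exact sub_mem (Submodule.smul_mem _ _ hb) (hj a ha))
  apply Q_ne M hQb
  rw [sub_eq_zero.1 h1, QuadraticMap.map_smul, hQa, smul_zero]

/-- **HYP** -/
theorem hyp {W : Submodule F V} (hW : ND Q W) {M : Gam Q} {c : F} (hM : IsSS Q (RingEquiv.refl F) (c * c) M.1)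
    (hMW : ∀ x ∈ W, M.1 x ∈ W) {u : V} (hu : u ∈ W) (hQu : Q u = 0)
    (h : ∀ x ∈ W, polar Q u x = 0 → M.1 x = c • x) : ∀ x ∈ W, M.1 x = c • x := by
  intro z hz
  by_cases hzu : polar Q u z = 0
  · exact h z hz hzu
  have hc : c ≠ 0 := left_ne_zero_of_mul hM.ne
  have h1 : ∀ y ∈ W, polar Q u y = 0 → polar Q (M.1 z - c • z) y = 0 := by
    intro y hy hy'
    have h2 := hM.polar z y
    rw [h y hy hy', polar_smul_right, RingEquiv.refl_apply, smul_eq_mul, mul_assoc] at h2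
    rw [polar_sub_left, mul_left_cancel₀ hc h2, polar_smul_left, smul_eq_mul, sub_self]
  have hn : M.1 z - c • z ∈ W := sub_mem (hMW z hz) (Submodule.smul_mem _ _ hz)
  have h2 : M.1 z - c • z - (polar Q (M.1 z - c • z) z / polar Q u z) • u = 0 := by
    refine hW _ (sub_mem hn (Submodule.smul_mem _ _ hu)) fun y hy => ?_
    have h3 := h1 (y - (polar Q u y / polar Q u z) • z) (sub_mem hy (Submodule.smul_mem _ _ hz)) (by
      rw [polar_sub_right, polar_smul_right, smul_eq_mul, div_mul_cancel₀ _ hzu, sub_self])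
    rw [polar_sub_right, polar_smul_right, smul_eq_mul, sub_eq_zero] at h3
    rw [polar_sub_left, polar_smul_left, h3, smul_eq_mul]
    ring
  generalize polar Q (M.1 z - c • z) z / polar Q u z = κ at h2
  have h3 : M.1 z = c • z + κ • u := by rw [sub_sub, sub_eq_zero] at h2; exact h2
  have h4 := hM.form z
  rw [h3, Q_add, QuadraticMap.map_smul, QuadraticMap.map_smul, hQu, smul_zero, add_zero, polar_smul_left,
    polar_smul_right, RingEquiv.refl_apply, smul_eq_mul, add_eq_left, smul_eq_zero, smul_eq_zero, polar_comm] at h4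
  rw [h3, (h4.resolve_left hc).resolve_right hzu, zero_smul, add_zero]

/-- the multiplier of a linear similitude with a nonsingular eigenvector -/
theorem isSS_of_eig {M : Gam Q} {σ : F ≃+* F} {m : F} (hM : IsSS Q σ m M.1) (hσ : ∀ a, σ a = a) {x : V} (hx : Q x ≠ 0)
    {c : F} (h : M.1 x = c • x) : IsSS Q (RingEquiv.refl F) (c * c) M.1 := by
  have h1 := hM.form x
  rw [h, QuadraticMap.map_smul, hσ, smul_eq_mul] at h1
  obtain rfl : σ = RingEquiv.refl F := RingEquiv.ext hσ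
  rwa [mul_right_cancel₀ hx h1]

end Cfsg.Agent.SB.D4.G
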