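import Cfsg.Agent.SB.D4.Ctx

/-!
# S5765, `PΩ₈⁺(q)`: linear algebra (helper97)
-/

set_option autoImplicit false
set_option linter.unusedSectionVars false

namespace Cfsg.Agent.SB.D4

open QuadraticMap Module Cfsg.Agent.LieClassical.OrthCore Cfsg.Agent.LieClassical.OrthTrans
  Cfsg.Agent.ClassicalGeometry.OrthSemi Cfsg.Agent.H989.OutOrth.Basic

variable {F V : Type} [Field F] [AddCommGroup V] [Module F V] {Q : QuadraticForm F V}

/-! ### orthogonal complements -/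

variable (Q) in
/-- the orthogonal complement -/
def prp (W : Submodule F V) : Submodule F V := LinearMap.BilinForm.orthogonal (polarBilin Q) W

theorem mem_prp {W : Submodule F V} {x : V} : x ∈ prp Q W ↔ ∀ y ∈ W, polar Q x y = 0 :=
  ⟨fun h y hy => (polar_comm _ _ _).trans (h y hy), fun h y hy => (polar_comm _ _ _).trans (h y hy)⟩

theorem prp_anti {W W' : Submodule F V} (h : W ≤ W') : prp Q W' ≤ prp Q W :=
  fun _ hx => mem_prp.2 fun y hy => mem_prp.1 hx y (h hy)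

theorem le_prp_prp (W : Submodule F V) : W ≤ prp Q (prp Q W) :=
  fun _ hx => mem_prp.2 fun _ hy => (polar_comm _ _ _).trans (mem_prp.1 hy _ hx)

theorem Nd.inf_prp {W : Submodule F V} (h : Nd Q W) : W ⊓ prp Q W = ⊥ :=
  eq_bot_iff.2 fun x hx => h x hx.1 (mem_prp.1 hx.2)

theorem nd_top (hQ : Nondeg Q) : Nd Q ⊤ := fun x _ h => hQ x fun y => h y trivial

section fd

variable [FiniteDimensional F V]

theorem finrank_prp (hQ : Nondeg Q) (W : Submodule F V) : finrank F W + finrank F (prp Q W) = finrank F V := by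
  have h1 : (polarBilin Q).Nondegenerate := ⟨fun x h => hQ x h, fun x h => hQ x fun y => (polar_comm _ _ _).trans (h y)⟩
  have h2 := LinearMap.BilinForm.finrank_orthogonal h1 W
  have h3 := W.finrank_le
  rw [prp]
  omega

theorem prp_prp (hQ : Nondeg Q) (W : Submodule F V) : prp Q (prp Q W) = W := by
  refine (Submodule.eq_of_le_of_finrank_eq (le_prp_prp W) ?_).symm
  have h1 := finrank_prp hQ W
  have h2 := finrank_prp hQ (prp Q W)
  omega

theorem Nd.sup_prp (hQ : Nondeg Q) {W : Submodule F V} (h : Nd Q W) : W ⊔ prp Q W = ⊤ := by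
  apply Submodule.eq_top_of_finrank_eq
  have h1 := Submodule.finrank_sup_add_finrank_inf_eq W (prp Q W)
  rw [h.inf_prp, finrank_bot, finrank_prp hQ] at h1
  omega

theorem Nd.sup_inf_prp (hQ : Nondeg Q) {U W : Submodule F V} (h : Nd Q U) (hU : U ≤ W) : U ⊔ W ⊓ prp Q U = W := by
  rw [inf_comm, ← sup_inf_assoc_of_le _ hU, h.sup_prp hQ, top_inf_eq]

theorem Nd.finrank_inf_prp (hQ : Nondeg Q) {U W : Submodule F V} (h : Nd Q U) (hU : U ≤ W) :
    finrank F U + finrank F ↥(W ⊓ prp Q U) = finrank F W := by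
  have h1 := Submodule.finrank_sup_add_finrank_inf_eq U (W ⊓ prp Q U)
  rw [h.sup_inf_prp hQ hU, inf_left_comm, h.inf_prp, inf_bot_eq, finrank_bot] at h1
  omega

theorem Nd.nd_inf_prp (hQ : Nondeg Q) {U W : Submodule F V} (h : Nd Q U) (hU : U ≤ W) (hW : Nd Q W) :
    Nd Q (W ⊓ prp Q U) := by
  intro x hx h1
  refine hW x hx.1 fun y hy => ?_
  rw [← h.sup_inf_prp hQ hU] at hy
  obtain ⟨u, hu, z, hz, rfl⟩ := Submodule.mem_sup.1 hy
  rw [polar_add_right, mem_prp.1 hx.2 u hu, h1 z hz, add_zero]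

theorem Nd.nd_prp (hQ : Nondeg Q) {U : Submodule F V} (h : Nd Q U) : Nd Q (prp Q U) := by
  simpa using h.nd_inf_prp hQ le_top (nd_top hQ)

theorem exists_pre {a : V ≃ₗ[F] V} {W : Submodule F V} (hW : ∀ w ∈ W, a w ∈ W) {y : V} (hy : y ∈ W) :
    ∃ w ∈ W, a w = y := by
  have h1 : W.map a.toLinearMap = W :=
    Submodule.eq_of_le_of_finrank_eq (by rintro _ ⟨w, hw, rfl⟩; exact hW w hw) (LinearEquiv.finrank_map_eq a W)
  rw [← h1] at hy
  exact hy

theorem prp_inv {a : V ≃ₗ[F] V} (ha : a ∈ O Q) {W : Submodule F V} (hW : ∀ w ∈ W, a w ∈ W) {x : V}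
    (hx : x ∈ prp Q W) : a x ∈ prp Q W := mem_prp.2 fun y hy => by
  obtain ⟨w, hw, rfl⟩ := exists_pre hW hy
  rw [polar_map ha, mem_prp.1 hx w hw]

end fd

theorem gam_pre [Finite F] [Finite V] (M : Gam Q) {W W' : Submodule F V} (h : ∀ w ∈ W, M.1 w ∈ W')
    (hd : finrank F W' ≤ finrank F W) {y : V} (hy : y ∈ W') : ∃ w ∈ W, M.1 w = y := by
  have h1 : gmap M W = W' := by
    refine Submodule.eq_of_le_of_finrank_le (fun v hv => ?_) (by rwa [finrank_gmap])
    have h2 := h _ hv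
    rwa [show M.1 (M⁻¹.1 v) = v from apply_inv M.1 v] at h2
  rw [← h1] at hy
  exact ⟨_, hy, apply_inv M.1 y⟩

theorem gam_prp [Finite F] [Finite V] (M : Gam Q) {W W' : Submodule F V} (h : ∀ w ∈ W, M.1 w ∈ W')
    (hd : finrank F W' ≤ finrank F W) {x : V} (hx : x ∈ prp Q W) : M.1 x ∈ prp Q W' := mem_prp.2 fun y hy => by
  obtain ⟨w, hw, rfl⟩ := gam_pre M h hd hy
  obtain ⟨σ, c, hM⟩ := M.2
  rw [hM.polar, mem_prp.1 hx w hw, map_zero, mul_zero]

/-! ### totally singular planes -/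

theorem polar_of_ts {U : Submodule F V} (hs : ∀ u ∈ U, Q u = 0) {x y : V} (hx : x ∈ U) (hy : y ∈ U) :
    polar Q x y = 0 := by
  have h1 := Q_add (Q := Q) x y
  rw [hs _ (add_mem hx hy), hs x hx, hs y hy] at h1
  simpa using h1.symm

theorem exists_indep2 {U : Submodule F V} (h2 : 2 ≤ finrank F U) {e : V} : ∃ e' ∈ U, ∀ c : F, e' ≠ c • e := by
  by_contra hc
  push Not at hc
  have h1 : U ≤ Submodule.span F {e} := fun x hx => by
    obtain ⟨c, rfl⟩ := hc x hx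
    exact Submodule.smul_mem _ _ (Submodule.mem_span_singleton_self e)
  have h3 := (Submodule.finrank_mono h1).trans (finrank_span_le_card ({e} : Set V))
  simp at h3
  omega

theorem hasTS_of_le {U W : Submodule F V} (hU : U ≤ W) (hs : ∀ u ∈ U, Q u = 0) (h2 : 2 ≤ finrank F U) :
    HasTS Q W := by
  obtain ⟨e, he, he0⟩ := exists_indep2 h2 (e := 0)
  obtain ⟨e', he', h⟩ := exists_indep2 h2 (e := e)
  exact ⟨e, hU he, e', hU he', hs e he, hs e' he', polar_of_ts hs he he', by simpa using he0 0, h⟩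

theorem Nd.exists_one {W : Submodule F V} (h : Nd Q W) {e : V} (he : e ∈ W) (he0 : e ≠ 0) :
    ∃ g ∈ W, polar Q e g = 1 := by
  by_contra hc
  push Not at hc
  refine he0 (h e he fun y hy => by_contra fun h1 => hc ((polar Q e y)⁻¹ • y) (W.smul_mem _ hy) ?_)
  rw [polar_smul_right, smul_eq_mul, inv_mul_cancel₀ h1]

/-- hyperbolic completion -/
theorem opp {W : Submodule F V} (h : Nd Q W) (hT : HasTS Q W) : ∃ e ∈ W, ∃ e' ∈ W, ∃ f ∈ W, ∃ f' ∈ W,
    Q e = 0 ∧ Q e' = 0 ∧ Q f = 0 ∧ Q f' = 0 ∧ polar Q e e' = 0 ∧ polar Q f f' = 0 ∧ polar Q e f = 1 ∧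
      polar Q e' f' = 1 ∧ polar Q e f' = 0 ∧ polar Q e' f = 0 := by
  obtain ⟨e, he, e', he', h1, h2, h3, h4, h5⟩ := hT
  obtain ⟨g, hg, hg1⟩ := h.exists_one he h4
  obtain ⟨y, hy, hy1⟩ := h.exists_one (sub_mem he' (W.smul_mem (polar Q e' g) he)) (sub_ne_zero.2 (h5 _))
  rw [polar_sub_left, polar_smul_left, smul_eq_mul] at hy1
  obtain ⟨g', hg', k1, k2⟩ : ∃ g' ∈ W, polar Q e g' = 0 ∧ polar Q e' g' = 1 :=
    ⟨y - polar Q e y • g, sub_mem hy (W.smul_mem _ hg), by simp [polar_sub_right, polar_smul_right, hg1], by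
      rw [polar_sub_right, polar_smul_right, smul_eq_mul]; linear_combination hy1⟩
  obtain ⟨g, hg, k3, k4⟩ : ∃ g ∈ W, polar Q e g = 1 ∧ polar Q e' g = 0 :=
    ⟨g - polar Q e' g • g', sub_mem hg (W.smul_mem _ hg'), by simp [polar_sub_right, polar_smul_right, hg1, k1], by
      simp [polar_sub_right, polar_smul_right, k2]⟩
  have h3' : polar Q e' e = 0 := (polar_comm _ _ _).trans h3
  obtain ⟨f, hf, k5, k6, k7⟩ : ∃ f ∈ W, Q f = 0 ∧ polar Q e f = 1 ∧ polar Q e' f = 0 :=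
    ⟨g + (-Q g) • e, add_mem hg (W.smul_mem _ he), by
      rw [Q_add, QuadraticMap.map_smul, polar_smul_right, polar_comm, h1, k3]; simp, by
      simp [polar_add_right, polar_smul_right, k3, h1], by simp [polar_add_right, polar_smul_right, k4, h3']⟩
  refine ⟨e, he, e', he', f, hf, g' + (-Q g') • e' + (-polar Q f g') • e,
    add_mem (add_mem hg' (W.smul_mem _ he')) (W.smul_mem _ he), h1, h2, k5, ?_, h3, ?_, k6, ?_, ?_, k7⟩
  · rw [Q_add, Q_add, QuadraticMap.map_smul, QuadraticMap.map_smul, polar_smul_right, polar_smul_right,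
      polar_add_left, polar_smul_left, polar_comm _ g' e', polar_comm _ g' e, h1, h2, k1, k2, h3']
    simp
  · rw [polar_add_right, polar_add_right, polar_smul_right, polar_smul_right, polar_comm _ f e', polar_comm _ f e,
      k6, k7]
    simp
  · simp [polar_add_right, polar_smul_right, k2, h2, h3']
  · simp [polar_add_right, polar_smul_right, k1, h1, h3]

/-! ### rotations -/

theorem rr_smul {c : F} (hc : c ≠ 0) (v : V) : rr Q (c • v) = rr Q v := by
  refine Subtype.ext (Equiv.ext fun x => ?_)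
  rw [rr_apply, rr_apply, QuadraticMap.map_smul, polar_smul_left, smul_smul, smul_eq_mul, smul_eq_mul]
  congr 2
  by_cases h : Q v = 0
  · simp [h]
  · field_simp

theorem rr_neg (v : V) : rr Q (-v) = rr Q v := by
  rw [← neg_one_smul F, rr_smul (neg_ne_zero.2 one_ne_zero)]

theorem polar_rot {x : V ≃ₗ[F] V} (hx : x ∈ O Q) {u : V} {t : F} (h : x (x u) = t • x u - u) (ht : t ^ 2 ≠ 4) :
    polar Q u (x u) = t * Q u := by
  have h1 := mem_O.1 hx (x u)
  have h2 := polar_map hx u (x u)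
  rw [h, sub_eq_add_neg, Q_add, QuadraticMap.map_smul, QuadraticMap.map_neg, polar_neg_right, polar_smul_left,
    mem_O.1 hx, polar_comm, smul_eq_mul, smul_eq_mul] at h1
  rw [h, polar_sub_right, polar_smul_right, polar_self', mem_O.1 hx, polar_comm, smul_eq_mul] at h2
  by_contra hc
  have h3 := sub_ne_zero.2 hc
  have h4 : t = 0 := mul_right_cancel₀ h3 (by linear_combination -h1)
  have h5 : (2 : F) = 0 := mul_right_cancel₀ h3 (by linear_combination -h2)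
  exact ht (by linear_combination t * h4 - 2 * h5)

theorem rr_rot {x : V ≃ₗ[F] V} (hx : x ∈ O Q) {u : V} {t : F} (h : x (x u) = t • x u - u) (ht : t ^ 2 ≠ 4)
    (hu : Q u ≠ 0) : rr Q (x u) * rr Q (x (x u)) = rr Q u * rr Q (x u) := by
  have h1 : (rr Q (x u)).1 u = - x (x u) := by
    rw [rr_apply, mem_O.1 hx, polar_comm, polar_rot hx h ht, h, neg_sub]
    congr 2
    field_simp
  rw [← rr_neg (x (x u)), ← h1, ← conj_rr _ hu, rr_inv, ← mul_assoc, ← mul_assoc, rr_mul_self, one_mul]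

theorem pow_rel {x : V ≃ₗ[F] V} {u : V} {t : F} (h : x (x u) = t • x u - u) (j : ℕ) :
    x (x ((x ^ j) u)) = t • x ((x ^ j) u) - (x ^ j) u := by
  have h1 : ∀ v, x ((x ^ j) v) = (x ^ j) (x v) := fun v =>
    LinearEquiv.congr_fun ((pow_succ' x j).symm.trans (pow_succ x j)) v
  rw [h1, h1, h, map_sub, map_smul]

theorem rr_pow {x : V ≃ₗ[F] V} (hx : x ∈ O Q) {u : V} {t : F} (h : x (x u) = t • x u - u) (ht : t ^ 2 ≠ 4)
    (hu : Q u ≠ 0) (j : ℕ) : rr Q ((x ^ j) u) * rr Q ((x ^ j) (x u)) = rr Q u * rr Q (x u) := by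
  induction j with
  | zero => rfl
  | succ j ih =>
    have h1 : ∀ v, (x ^ j) (x v) = x ((x ^ j) v) := fun v =>
      LinearEquiv.congr_fun ((pow_succ x j).symm.trans (pow_succ' x j)) v
    rw [← ih, pow_succ', LinearEquiv.mul_apply, LinearEquiv.mul_apply, h1]
    exact rr_rot hx (pow_rel h j) ht (by rwa [mem_O.1 (pow_mem hx j)])

theorem wd_rot {e e' e'' : V} {t : F} (h : e'' = t • e' - e) : wd Q e' e'' = wd Q e e' := by
  funext v
  rw [wd, wd, h, polar_sub_left, polar_smul_left, smul_eq_mul]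
  module

theorem wd_pow {x : V ≃ₗ[F] V} {u : V} {t : F} (h : x (x u) = t • x u - u) (j : ℕ) :
    wd Q ((x ^ j) u) ((x ^ j) (x u)) = wd Q u (x u) := by
  induction j with
  | zero => rfl
  | succ j ih =>
    have h1 : ∀ v, (x ^ j) (x v) = x ((x ^ j) v) := fun v =>
      LinearEquiv.congr_fun ((pow_succ x j).symm.trans (pow_succ' x j)) v
    rw [← ih, pow_succ', LinearEquiv.mul_apply, LinearEquiv.mul_apply, h1]
    exact wd_rot (pow_rel h j)

theorem wd_smul {c : F} (hc : c * c = 1) (e e' : V) : wd Q (c • e) (c • e') = wd Q e e' := by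
  funext v
  rw [wd, wd, polar_smul_left, polar_smul_left, smul_smul, smul_smul, smul_eq_mul, smul_eq_mul, mul_right_comm, hc,
    mul_right_comm, hc, one_mul, one_mul]

/-! ### enumeration -/

theorem exists_enum {ι : Type} (s : Finset ι) {n : ℕ} (hs : s.card = n + 1) {i : ι} (hi : i ∈ s) :
    ∃ f : Fin (n + 1) → ι, Function.Injective f ∧ (∀ k, f k ∈ s) ∧ (∀ j ∈ s, ∃ k, f k = j) ∧ f (Fin.last n) = i := by
  let e := (s.equivFinOfCardEq hs).symm
  refine ⟨fun k => e (Equiv.swap (Fin.last n) (e.symm ⟨i, hi⟩) k), fun k k' h => ?_, fun k => (e _).2,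
    fun j hj => ⟨Equiv.swap (Fin.last n) (e.symm ⟨i, hi⟩) (e.symm ⟨j, hj⟩), by simp⟩, by simp⟩
  exact (Equiv.swap _ _).injective (e.injective (Subtype.ext h))

/-! ### coprime action -/

/-- fixed vectors -/
def Fx (X : Subgroup (V ≃ₗ[F] V)) : Submodule F V := ⨅ a : X, LinearMap.ker (a.1.toLinearMap - 1)

theorem mem_Fx {X : Subgroup (V ≃ₗ[F] V)} {v : V} : v ∈ Fx X ↔ ∀ a ∈ X, a v = v := by
  simp only [Fx, Submodule.mem_iInf, LinearMap.mem_ker, LinearMap.sub_apply, sub_eq_zero, Subtype.forall]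
  rfl

theorem pow_fix {x : V ≃ₗ[F] V} {v : V} (h : x v = v) (n : ℕ) : (x ^ n) v = v := by
  induction n with
  | zero => rfl
  | succ n ih => rw [pow_succ, LinearEquiv.mul_apply, h, ih]

theorem pow_inv {x : V ≃ₗ[F] V} {U : Submodule F V} (h : ∀ v ∈ U, x v ∈ U) (n : ℕ) : ∀ v ∈ U, (x ^ n) v ∈ U := by
  induction n with
  | zero => exact fun _ hv => hv
  | succ n ih => exact fun v hv => by rw [pow_succ, LinearEquiv.mul_apply]; exact ih _ (h v hv)

theorem mem_Fx_zpowers {x : V ≃ₗ[F] V} {v : V} : v ∈ Fx (Subgroup.zpowers x) ↔ x v = v := by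
  rw [mem_Fx]
  refine ⟨fun h => h x (Subgroup.mem_zpowers x), fun h a ha => ?_⟩
  exact (Subgroup.zpowers_le (H := MulAction.stabilizer (V ≃ₗ[F] V) v)).2 h ha

section cop

variable {X : Subgroup (V ≃ₗ[F] V)} {r : ℕ}

theorem pgroup_of_pow (hp : ∀ a ∈ X, a ^ r = 1) : IsPGroup r X :=
  fun a => ⟨1, Subtype.ext (by rw [pow_one]; exact hp a a.2)⟩

theorem card_congr [Finite F] [Finite V] (hr : r.Prime) (hp : ∀ a ∈ X, a ^ r = 1) {U : Submodule F V}
    (hU : ∀ a ∈ X, ∀ v ∈ U, a v ∈ U) :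
    Nat.card F ^ finrank F U ≡ Nat.card F ^ finrank F ↥(U ⊓ Fx X) [MOD r] := by
  have : Fact r.Prime := ⟨hr⟩
  let T : SubMulAction X V := ⟨U, fun a v hv => hU a a.2 v hv⟩
  have h1 := (pgroup_of_pow hp).card_modEq_card_fixedPoints T
  have h2 : Nat.card T = Nat.card U := rfl
  have h3 : Nat.card (MulAction.fixedPoints X T) = Nat.card ↥(U ⊓ Fx X) :=
    Nat.card_congr ⟨fun v => ⟨v.1.1, v.1.2, mem_Fx.2 fun a ha => congrArg Subtype.val (v.2 ⟨a, ha⟩)⟩,
      fun v => ⟨⟨v.1, v.2.1⟩, fun a => Subtype.ext (mem_Fx.1 v.2.2 a a.2)⟩, fun _ => rfl, fun _ => rfl⟩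
  rwa [h2, h3, Module.natCard_eq_pow_finrank (K := F) (V := U),
    Module.natCard_eq_pow_finrank (K := F) (V := ↥(U ⊓ Fx X))] at h1

theorem card_ne_zero_zmod [Finite F] (hr : r.Prime) (hc : (r : F) ≠ 0) : (Nat.card F : ZMod r) ≠ 0 := by
  have := Fintype.ofFinite F
  obtain ⟨p, hp⟩ := CharP.exists F
  obtain ⟨n, hp', hn⟩ := FiniteField.card F p
  rw [Nat.card_eq_fintype_card, hn, Ne, ZMod.natCast_eq_zero_iff]
  intro h
  rw [(Nat.prime_dvd_prime_iff_eq hr hp').1 (hr.dvd_of_dvd_pow h)] at hc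
  exact hc (CharP.cast_eq_zero F p)

theorem order_dvd [Finite F] [Finite V] (hr : r.Prime) (hc : (r : F) ≠ 0) (hp : ∀ a ∈ X, a ^ r = 1)
    {U : Submodule F V} (hU : ∀ a ∈ X, ∀ v ∈ U, a v ∈ U) :
    ∃ m, finrank F U = finrank F ↥(U ⊓ Fx X) + m ∧ orderOf (Nat.card F : ZMod r) ∣ m := by
  have : Fact r.Prime := ⟨hr⟩
  obtain ⟨m, hm⟩ := Nat.exists_eq_add_of_le (Submodule.finrank_mono (inf_le_left : U ⊓ Fx X ≤ U))
  refine ⟨m, hm, orderOf_dvd_of_pow_eq_one ?_⟩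
  have h1 := (ZMod.natCast_eq_natCast_iff _ _ _).2 (card_congr hr hp hU)
  rw [hm, pow_add, Nat.cast_mul, Nat.cast_pow, Nat.cast_pow] at h1
  exact mul_left_cancel₀ (pow_ne_zero _ (card_ne_zero_zmod hr hc)) (h1.trans (mul_one _).symm)

theorem order_dvd_one [Finite F] [Finite V] (hr : r.Prime) (hc : (r : F) ≠ 0) {x : V ≃ₗ[F] V} (hx : x ^ r = 1)
    {U : Submodule F V} (hU : ∀ v ∈ U, x v ∈ U) :
    ∃ m, finrank F U = finrank F ↥(U ⊓ Fx (Subgroup.zpowers x)) + m ∧ orderOf (Nat.card F : ZMod r) ∣ m := by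
  have hf : IsOfFinOrder x := isOfFinOrder_iff_pow_eq_one.2 ⟨r, hr.pos, hx⟩
  refine order_dvd hr hc (fun a ha => ?_) fun a ha => ?_
  · obtain ⟨n, rfl⟩ := hf.mem_powers_iff_mem_zpowers.2 ha
    rw [← pow_mul, mul_comm, pow_mul, hx, one_pow]
  · obtain ⟨n, rfl⟩ := hf.mem_powers_iff_mem_zpowers.2 ha
    exact pow_inv hU n

theorem perp_of_fx [Finite X] (hr : r.Prime) (hc : (r : F) ≠ 0) (hO : X ≤ O Q) (hp : ∀ a ∈ X, a ^ r = 1)
    {U : Submodule F V} (hU : ∀ a ∈ X, ∀ v ∈ U, a v ∈ U) {c : V} (hc' : c ∈ Fx X)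
    (h : ∀ w ∈ U ⊓ Fx X, polar Q c w = 0) {v : V} (hv : v ∈ U) : polar Q c v = 0 := by
  have : Fact r.Prime := ⟨hr⟩
  have := Fintype.ofFinite X
  obtain ⟨n, hn⟩ := IsPGroup.iff_card.1 (pgroup_of_pow hp)
  have h1 := h (∑ a : X, a.1 v) ⟨U.sum_mem fun a _ => hU a a.2 v hv, mem_Fx.2 fun b hb => by
    rw [map_sum]
    exact Fintype.sum_equiv (Equiv.mulLeft ⟨b, hb⟩) _ _ fun _ => rfl⟩
  have h2 : ∀ a : X, polarBilin Q c (a.1 v) = polar Q c v := fun a => by
    rw [← polar_map (hO a.2) c v, mem_Fx.1 hc' a a.2]; rfl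
  have h3 : polarBilin Q c (∑ a : X, a.1 v) = 0 := h1
  rw [map_sum, Finset.sum_congr rfl fun a _ => h2 a, Finset.sum_const, Finset.card_univ, ← Nat.card_eq_fintype_card,
    hn, nsmul_eq_mul, Nat.cast_pow] at h3
  exact (mul_eq_zero.1 h3).resolve_left (pow_ne_zero _ hc)

theorem nd_Fx [Finite X] (hQ : Nondeg Q) (hr : r.Prime) (hc : (r : F) ≠ 0) (hO : X ≤ O Q) (hp : ∀ a ∈ X, a ^ r = 1) :
    Nd Q (Fx X) := fun c hc' h =>
  hQ c fun _ => perp_of_fx hr hc hO hp (U := ⊤) (fun _ _ _ _ => trivial) hc' (fun w hw => h w hw.2) trivial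

theorem norm_fix {g : V ≃ₗ[F] V} (hg : g ^ r = 1) (v : V) :
    g (∑ j ∈ Finset.range r, (g ^ j) v) = ∑ j ∈ Finset.range r, (g ^ j) v := by
  have h1 := Finset.sum_range_succ (fun j => (g ^ j) v) r
  rw [Finset.sum_range_succ', hg, pow_zero, add_left_inj] at h1
  rw [map_sum]
  refine Eq.trans (Finset.sum_congr rfl fun j _ => ?_) h1
  rw [pow_succ', LinearEquiv.mul_apply]

theorem fix_of_pow (hr : r.Prime) {g : V ≃ₗ[F] V} (hg : g ^ r = 1) {j : ℕ} (hj : ¬ r ∣ j) {v : V}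
    (h : (g ^ j) v = v) : g v = v := by
  obtain ⟨m, hm⟩ := Nat.exists_mul_mod_eq_one_of_coprime ((Nat.Prime.coprime_iff_not_dvd hr).2 hj).symm hr.one_lt
  have h1 := pow_fix h m
  rwa [← pow_mul, ← Nat.div_add_mod (j * m) r, hm.2, pow_add, pow_mul, hg, one_pow, one_mul, pow_one] at h1

/-- if `a` is fixed point free on `U` then some `a ^ i * b` is not -/
theorem cyc (hr : r.Prime) (hc : (r : F) ≠ 0) {a b : V ≃ₗ[F] V} (hab : a * b = b * a) (ha : a ^ r = 1)
    (hb : b ^ r = 1) {U : Submodule F V} (h0 : U ≠ ⊥) (haU : ∀ v ∈ U, a v ∈ U) (hbU : ∀ v ∈ U, b v ∈ U)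
    (hf : ∀ v ∈ U, a v = v → v = 0) : ∃ i : ℕ, ∃ w ∈ U, w ≠ 0 ∧ (a ^ i * b) w = w := by
  by_contra hcon
  push Not at hcon
  obtain ⟨v, hv, hv0⟩ := (Submodule.ne_bot_iff U).1 h0
  have hC : Commute a b := hab
  have h1 : ∀ i ∈ Finset.range r, ∑ j ∈ Finset.range r, ((a ^ i * b) ^ j) v = 0 := fun i _ => by
    by_contra h2
    refine hcon i _ (U.sum_mem fun j _ => pow_inv (x := a ^ i * b) (fun w hw => pow_inv haU i (b w) (hbU w hw)) j v hv) h2 (norm_fix ?_ v)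
    rw [(hC.pow_left i).mul_pow, ← pow_mul, mul_comm i, pow_mul, ha, hb, one_pow, one_mul]
  have h2 := Finset.sum_eq_zero h1
  rw [Finset.sum_comm, Finset.sum_eq_single 0] at h2
  · simp only [pow_zero, LinearEquiv.coe_one, id_eq, Finset.sum_const, Finset.card_range] at h2
    rw [← Nat.cast_smul_eq_nsmul F] at h2
    exact hv0 ((smul_eq_zero.1 h2).resolve_left hc)
  · intro j hj hj0
    have h3 : ∀ i, ((a ^ i * b) ^ j) v = ((a ^ j) ^ i) ((b ^ j) v) := fun i => by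
      rw [(hC.pow_left i).mul_pow, ← pow_mul, mul_comm i, pow_mul, LinearEquiv.mul_apply]
    rw [Finset.sum_congr rfl fun i _ => h3 i]
    refine hf _ (U.sum_mem fun i _ => pow_inv (pow_inv haU j) i _ (pow_inv hbU j v hv)) (fix_of_pow hr ha
      (Nat.not_dvd_of_pos_of_lt (Nat.pos_of_ne_zero hj0) (Finset.mem_range.1 hj)) (norm_fix ?_ _))
    rw [← pow_mul, mul_comm, pow_mul, ha, one_pow]
  · exact fun h => (h (Finset.mem_range.2 hr.pos)).elim

end cop

end Cfsg.Agent.SB.D4
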