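import Cfsg.Agent.SB.D4.K2
import Cfsg.Agent.SB.D4.RA2
import Cfsg.Agent.SB.D4.RB2
import Cfsg.Agent.SB.D4.GC
import Cfsg.Agent.SB.D4.GF
import Cfsg.Agent.SB.D4.GS
import Cfsg.Agent.SB.Br.Main

/-!
# S5765, `PΩ₈⁺(q)` with triality (helper97)
-/

set_option autoImplicit false

namespace Cfsg.Agent.SB.D4

open Cfsg.Agent.ClassicalGeometry.OrthSemi Cfsg.Agent.H786.FC

theorem geo : Geo := ⟨G.boxA, boxFr, G.boxC, G.boxD2, G.boxD3, G.boxB, boxSL2, boxU2⟩

theorem four_of_cx {F : Type} [Field F] [Fintype F] {S : Subgroup (MulAut (G8 F))} {X : Subgroup (G8 F)} {r : ℕ}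
    (h : Cx S X r) : Four (InnG (G8 F)) S := by
  rcases h.prime.eq_two_or_odd' with rfl | ho
  · by_cases hx : ∀ a : E8 F, (a : G8 F) ∈ X → a * a = 1
    · exact four_of_kill3 (case_two_I geo h hx)
    · push Not at hx
      exact four_of_kill3 (case_two_II geo h hx)
  · exact case_odd geo h ho

theorem boxD4 : Cl.BoxD4 := by
  intro p F _ _ _ hO
  have h1 : RowN p (G8 F) := by
    intro S hS hm hn
    have := simple8 (F := F)
    rcases dichotomy S with ⟨β, hβ⟩ | ⟨h1, h2⟩
    · refine Good.of_conj (innG_normal _) β (Br.good_O hO p F _ good8 (by simp) noncomm8 card8 hβ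
        (Group.isSolvable_of_surjective (f := (MulAut.conj β).toMonoidHom.subgroupMap S)
          ((MulAut.conj β).toMonoidHom.subgroupMap_surjective S)) (hm.conj (innG_normal _) β) ?_)
      have h3 := hn.map (MulAut.conj β).toMonoidHom (MulAut.conj β).injective
      rwa [map_conj_normal' (innG_normal _)] at h3
    · obtain ⟨X, r, h⟩ := exists_cx hS hm hn h1 h2
      exact good_of_four hS (four_of_cx h)
  have h2 := h1.of_equiv (ClassicalGeometry.OrthSemiForms.pomegaEquiv good8)
  rwa [LieClassical.QuadForms.coe_plusForm] at h2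

end Cfsg.Agent.SB.D4
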