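import Cfsg.Agent.SB.D4.Lin

/-!
# S5765, `PΩ₈⁺(q)`, `r = 2`: eigenspaces of triality triples of involutions (helper61)
-/

set_option autoImplicit false
set_option linter.unusedSectionVars false

namespace Cfsg.Agent.SB.D4.RB

open QuadraticMap Module Cfsg.Agent.LieClassical.QuadForms Cfsg.Agent.LieClassical.OrthCore
  Cfsg.Agent.LieClassical.OrthTrans Cfsg.Agent.ClassicalGeometry.OrthSemi Cfsg.Agent.ClassicalGeometry.OrthAut1
  Cfsg.Agent.ClassicalGeometry.TrialityOct Cfsg.Agent.ClassicalGeometry.Triality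
  Cfsg.Agent.H989.OutOrth.Basic Cfsg.Agent.H989.OutOrth.Tri Cfsg.Agent.H786.FC

variable {F : Type} [Field F]

theorem sq_of_eig {a : E8 F} {z : V8 F} (hz : Q8 F z ≠ 0) {x : F} (h : a.1 z = x • z) : x * x = 1 := by
  have h1 := mem_O.1 (E_le_O a.2) z
  rw [h, QuadraticMap.map_smul, smul_eq_mul] at h1
  exact mul_right_cancel₀ hz (by rw [h1, one_mul])

/-- **EQ** -/
theorem eq_le {ι : Type} {a b c : ι → E8 F} (ht : ∀ i, T3 (a i) (b i) (c i)) {z z' u : V8 F} (hz : Q8 F z ≠ 0)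
    (hz' : Q8 F z' ≠ 0) (hu : Q8 F u ≠ 0) {x x' y : ι → F} (h1 : ∀ i, (a i).1 z = x i • z)
    (h2 : ∀ i, (a i).1 z' = x' i • z') (h3 : ∀ i, (b i).1 u = y i • u) {U U' : Submodule F (V8 F)}
    (hU : ∀ w ∈ U, ∀ i, (a i).1 w = x i • w) (hU' : ∀ w, (∀ i, (a i).1 w = x' i • w) → w ∈ U') :
    finrank F U ≤ finrank F U' := by
  let φ : V8 F →ₗ[F] V8 F := pl u ∘ₗ pl z' ∘ₗ pr z ∘ₗ pr u
  have hφ : Function.Injective φ :=
    (pl_injective hu).comp ((pl_injective hz').comp ((pr_injective hz).comp (pr_injective hu)))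
  have hm : ∀ w ∈ U, φ w ∈ U' := fun w hw => hU' _ fun i => by
    have e1 : (c i).1 (pm w u) = (x i * y i) • pm w u := by
      rw [(ht i).rot.rot, hU w hw, h3, smul_pm, pm_smul, smul_smul]
    have e2 : (b i).1 (pm (pm w u) z) = y i • pm (pm w u) z := by
      rw [(ht i).rot, e1, h1, smul_pm, pm_smul, smul_smul, mul_right_comm, sq_of_eig hz (h1 i), one_mul]
    have e3 : (c i).1 (pm z' (pm (pm w u) z)) = (x' i * y i) • pm z' (pm (pm w u) z) := by
      rw [(ht i).rot.rot, h2, e2, smul_pm, pm_smul, smul_smul]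
    show (a i).1 (pm u (pm z' (pm (pm w u) z))) = x' i • pm u (pm z' (pm (pm w u) z))
    rw [ht i, h3, e3, smul_pm, pm_smul, smul_smul, mul_left_comm, sq_of_eig hu (h3 i), mul_one]
  exact LinearMap.finrank_le_finrank_of_injective (f := φ.restrict hm) fun v w e =>
    Subtype.ext (hφ (congrArg Subtype.val e))

/-- eigenspaces -/
def Eg (a : E8 F) (e : F) : Submodule F (V8 F) := LinearMap.ker (a.1.toLinearMap - e • 1)

theorem mem_Eg {a : E8 F} {e : F} {v : V8 F} : v ∈ Eg a e ↔ a.1 v = e • v := by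
  rw [Eg, LinearMap.mem_ker, LinearMap.sub_apply, sub_eq_zero]
  rfl

theorem aa {a : E8 F} (ha : a * a = 1) (v : V8 F) : a.1 (a.1 v) = v :=
  LinearEquiv.congr_fun (congrArg Subtype.val ha) v

theorem add_mem_Eg {a : E8 F} (ha : a * a = 1) {e : F} (he : e * e = 1) (v : V8 F) : v + e • a.1 v ∈ Eg a e := by
  rw [mem_Eg, map_add, map_smul, aa ha, smul_add, smul_smul, he, one_smul, add_comm]

theorem dec_Eg (h2 : (2 : F) ≠ 0) {a : E8 F} (ha : a * a = 1) {e : F} (he : e * e = 1) :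
    Dec (Q8 F) ![Eg a e, Eg a (-e)] := by
  have key : ∀ x ∈ Eg a e, ∀ y ∈ Eg a (-e), polar (Q8 F) x y = 0 := fun x hx y hy => by
    have h1 := polar_map (E_le_O a.2) x y
    rw [mem_Eg.1 hx, mem_Eg.1 hy, polar_smul_left, polar_smul_right, smul_eq_mul, smul_eq_mul] at h1
    apply mul_left_cancel₀ h2
    linear_combination -h1 - polar (Q8 F) x y * he
  refine ⟨fun i j hij x hx y hy => ?_, eq_top_iff.2 fun v _ => ?_⟩
  · fin_cases i <;> fin_cases j
    · exact absurd rfl hij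
    · exact key x hx y hy
    · exact (polar_comm _ _ _).trans (key y hy x hx)
    · exact absurd rfl hij
  · have h1 : v = (2 : F)⁻¹ • (v + e • a.1 v) + (2 : F)⁻¹ • (v + (-e) • a.1 v) := by
      rw [← smul_add, show v + e • a.1 v + (v + (-e) • a.1 v) = (2 : F) • v by module, smul_smul, inv_mul_cancel₀ h2,
        one_smul]
    rw [h1]
    exact add_mem (Submodule.mem_iSup_of_mem 0 (Submodule.smul_mem _ _ (add_mem_Eg ha he v)))
      (Submodule.mem_iSup_of_mem 1 (Submodule.smul_mem _ _ (add_mem_Eg ha (by rw [neg_mul_neg, he]) v)))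

variable [Fintype F]

theorem nd_Eg (h2 : (2 : F) ≠ 0) {a : E8 F} (ha : a * a = 1) {e : F} (he : e * e = 1) : Nd (Q8 F) (Eg a e) :=
  (dec_Eg h2 ha he).nd nondeg8' 0

theorem sum_Eg (h2 : (2 : F) ≠ 0) {a : E8 F} (ha : a * a = 1) {e : F} (he : e * e = 1) :
    finrank F (Eg a e) + finrank F (Eg a (-e)) = 8 := by
  have h1 := (dec_Eg h2 ha he).sum_finrank nondeg8'
  rwa [Fin.sum_univ_two, finrank8] at h1

theorem ne_bot_Eg (h2 : (2 : F) ≠ 0) {a : E8 F} (ha : a * a = 1) (hn : ∀ e, ¬ Sc a e) {e : F} (he : e * e = 1) :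
    Eg a e ≠ ⊥ := by
  intro h0
  have h1 := sum_Eg h2 ha he
  rw [h0, finrank_bot, zero_add] at h1
  have h3 : Eg a (-e) = ⊤ := Submodule.eq_top_of_finrank_eq (by rw [h1, finrank8])
  exact hn (-e) fun x => mem_Eg.1 (h3 ▸ Submodule.mem_top)

theorem exists_eig (h2 : (2 : F) ≠ 0) {b : E8 F} (hb : b * b = 1) : ∃ (u : V8 F) (y : F), Q8 F u ≠ 0 ∧ b.1 u = y • u := by
  by_cases h0 : Eg b 1 = ⊥
  · have h1 := sum_Eg h2 hb (one_mul (1 : F))
    rw [h0, finrank_bot, zero_add] at h1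
    obtain ⟨u, hu, hu'⟩ := (nd_Eg h2 hb (e := -1) (by ring)).exists_nonsing fun h3 => by
      rw [h3, finrank_bot] at h1
      omega
    exact ⟨u, -1, hu', mem_Eg.1 hu⟩
  · obtain ⟨u, hu, hu'⟩ := (nd_Eg h2 hb (one_mul (1 : F))).exists_nonsing h0
    exact ⟨u, 1, hu', mem_Eg.1 hu⟩

theorem four_Eg (h2 : (2 : F) ≠ 0) {a b c : E8 F} (ht : T3 a b c) (ha : a * a = 1) (hb : b * b = 1)
    (hn : ∀ e, ¬ Sc a e) {e : F} (he : e * e = 1) : finrank F (Eg a e) = 4 := by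
  obtain ⟨u, y, hu, hy⟩ := exists_eig h2 hb
  have key : ∀ e : F, e * e = 1 → finrank F (Eg a e) ≤ finrank F (Eg a (-e)) := fun e he => by
    have he' : -e * -e = 1 := by rw [neg_mul_neg, he]
    obtain ⟨z, hz, hz'⟩ := (nd_Eg h2 ha he).exists_nonsing (ne_bot_Eg h2 ha hn he)
    obtain ⟨w, hw, hw'⟩ := (nd_Eg h2 ha he').exists_nonsing (ne_bot_Eg h2 ha hn he')
    exact eq_le (ι := Unit) (fun _ => ht) hz' hw' hu (x := fun _ => e) (x' := fun _ => -e) (y := fun _ => y)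
      (fun _ => mem_Eg.1 hz) (fun _ => mem_Eg.1 hw) (fun _ => hy) (fun _ h _ => mem_Eg.1 h) fun _ h => mem_Eg.2 (h ())
  have h1 := key e he
  have h3 := key (-e) (by rw [neg_mul_neg, he])
  have h4 := sum_Eg h2 ha he
  rw [neg_neg] at h3
  omega

/-- **Z1** -/
theorem hasTS_Eg (h2 : (2 : F) ≠ 0) {a b c : E8 F} (ht : T3 a b c) (ha : a * a = 1) (hb : b * b = 1) (hc : c * c = 1)
    (hn : ∀ e, ¬ Sc a e) {e : F} (he : e * e = 1) : HasTS (Q8 F) (Eg a e) := by
  have nb : ∀ e, ¬ Sc b e := fun e h => by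
    obtain ⟨_, d, -, h1, -⟩ := ht.rot.sc h
    exact hn d h1
  have nc : ∀ e, ¬ Sc c e := fun e h => by
    obtain ⟨d, _, h1, -, -⟩ := ht.rot.rot.sc h
    exact hn d h1
  have h4b := four_Eg h2 ht.rot hb hc nb (one_mul (1 : F))
  have h4c := four_Eg h2 ht.rot.rot hc ha nc he
  obtain ⟨x, hx, hx0, hxs⟩ := LieClassical.OrthFinite.exists_sing_mem (Q := Q8 F) (Eg b 1) (by omega)
  refine hasTS_of_le (U := (Eg c e).map (pl x)) ?_ ?_ ?_
  · rintro _ ⟨w, hw, rfl⟩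
    rw [mem_Eg, pl_apply, ht, mem_Eg.1 hx, mem_Eg.1 hw, one_smul, pm_smul]
  · rintro _ ⟨w, -, rfl⟩
    rw [pl_apply, norm_pm, hxs, zero_mul]
  · have h1 := ((pl x).domRestrict (Eg c e)).finrank_range_add_finrank_ker
    rw [LinearMap.range_domRestrict, h4c] at h1
    have hs : ∀ u ∈ (LinearMap.ker ((pl x).domRestrict (Eg c e))).map (Eg c e).subtype, Q8 F u = 0 := by
      rintro _ ⟨u, hu, rfl⟩
      have h3 : pm x u = 0 := hu
      have h4 := pm_pm_right (u : V8 F) x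
      rw [h3, pm_zero] at h4
      exact (smul_eq_zero.1 h4.symm).resolve_right hx0
    have h3 := (nd_Eg h2 hc he).two_mul_le (Submodule.map_subtype_le _ _) fun u hu v hv => polar_of_ts hs hu hv
    rw [Submodule.finrank_map_subtype_eq, h4c] at h3
    omega

end Cfsg.Agent.SB.D4.RB
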