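import Cfsg.Agent.SB.D4.Defs
import Cfsg.Agent.H989.OutOrth.Four
import Cfsg.Agent.ClassicalGeometry.TrialityFinal

/-!
# S5765, `PΩ₈⁺(q)`: symmetric form of triality (helper97)
-/

set_option autoImplicit false

namespace Cfsg.Agent.SB.D4

open QuadraticMap Module Cfsg.Agent.LieClassical.QuadForms Cfsg.Agent.LieClassical.OrthCore
  Cfsg.Agent.LieClassical.OrthTrans Cfsg.Agent.ClassicalGeometry.OrthSemi Cfsg.Agent.ClassicalGeometry.OrthAut1
  Cfsg.Agent.ClassicalGeometry.TrialityOct Cfsg.Agent.ClassicalGeometry.Triality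
  Cfsg.Agent.H989.OutOrth.Basic Cfsg.Agent.H989.OutOrth.Tri

/-- the form -/
abbrev Q8 (F : Type) [Field F] : QuadraticForm F (V8 F) := plusForm 4 F
/-- `Ω₈⁺` -/
abbrev E8 (F : Type) [Field F] : Type := ↥(E (Q8 F))
/-- `PΩ₈⁺` -/
abbrev G8 (F : Type) [Field F] : Type := P (Q8 F)
/-- `GL₈` -/
abbrev GL8 (F : Type) [Field F] : Type := V8 F ≃ₗ[F] V8 F

variable {F : Type} [Field F]

/-- the para-octonion product -/
def pm (x y : V8 F) : V8 F := omul (oconj x) (oconj y)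

theorem oconj_add (x y : V8 F) : oconj (x + y) = oconj x + oconj y := (kap F).map_add x y
theorem oconj_smul (c : F) (x : V8 F) : oconj (c • x) = c • oconj x := (kap F).map_smul c x

theorem add_pm (x x' y : V8 F) : pm (x + x') y = pm x y + pm x' y := by rw [pm, oconj_add, add_omul]; rfl
theorem pm_add (x y y' : V8 F) : pm x (y + y') = pm x y + pm x y' := by rw [pm, oconj_add, omul_add]; rfl
theorem smul_pm (c : F) (x y : V8 F) : pm (c • x) y = c • pm x y := by rw [pm, oconj_smul, smul_omul]; rfl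
theorem pm_smul (c : F) (x y : V8 F) : pm x (c • y) = c • pm x y := by rw [pm, oconj_smul, omul_smul]; rfl

/-- left multiplication -/
def pl (x : V8 F) : V8 F →ₗ[F] V8 F where
  toFun := pm x
  map_add' := pm_add x
  map_smul' c y := pm_smul c x y

/-- right multiplication -/
def pr (y : V8 F) : V8 F →ₗ[F] V8 F where
  toFun x := pm x y
  map_add' x x' := add_pm x x' y
  map_smul' c x := smul_pm c x y

theorem pl_apply (x y : V8 F) : pl x y = pm x y := rfl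
theorem pr_apply (x y : V8 F) : pr y x = pm x y := rfl
theorem pm_zero (x : V8 F) : pm x 0 = 0 := (pl x).map_zero
theorem zero_pm (x : V8 F) : pm 0 x = 0 := (pr x).map_zero
theorem pm_neg (x y : V8 F) : pm x (-y) = - pm x y := (pl x).map_neg y
theorem neg_pm (x y : V8 F) : pm (-x) y = - pm x y := (pr y).map_neg x
theorem pm_sub (x y y' : V8 F) : pm x (y - y') = pm x y - pm x y' := (pl x).map_sub y y'
theorem sub_pm (x x' y : V8 F) : pm (x - x') y = pm x y - pm x' y := (pr y).map_sub x x'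

theorem norm_pm (x y : V8 F) : Q8 F (pm x y) = Q8 F x * Q8 F y := by
  rw [pm, norm_omul, norm_oconj, norm_oconj]

theorem pm_pm_left (x y : V8 F) : pm (pm x y) x = Q8 F x • y := by
  rw [pm, pm, oconj_omul, oconj_oconj, oconj_oconj, omul_omul_oconj]

theorem pm_pm_right (x y : V8 F) : pm x (pm y x) = Q8 F x • y := by
  rw [pm, pm, oconj_omul, oconj_oconj, oconj_oconj, oconj_omul_omul]

theorem pm_lin_left (x z y : V8 F) : pm (pm x y) z + pm (pm z y) x = polar (Q8 F) x z • y := by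
  have h := pm_pm_left (x + z) y
  rw [add_pm, add_pm, pm_add, pm_add, pm_pm_left, pm_pm_left, Q_add, add_smul, add_smul] at h
  linear_combination (exp := 1) h

theorem pm_lin_right (x z y : V8 F) : pm x (pm y z) + pm z (pm y x) = polar (Q8 F) x z • y := by
  have h := pm_pm_right (x + z) y
  rw [pm_add, add_pm, pm_add, pm_add, pm_pm_right, pm_pm_right, Q_add, add_smul, add_smul] at h
  linear_combination (exp := 1) h

theorem polar_pm (x y z : V8 F) : polar (Q8 F) (pm x y) z = polar (Q8 F) x (pm y z) := by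
  have h : ∀ u v : V8 F, polar (Q8 F) (oconj u) (oconj v) = polar (Q8 F) u v := fun u v => polar_map kap_mem u v
  rw [pm, polar_omul, oconj_oconj, pm, ← oconj_omul, ← h x, oconj_oconj]

theorem pl_injective {a : V8 F} (ha : Q8 F a ≠ 0) : Function.Injective (pl a) := by
  intro x y h
  have h1 := congrArg (fun z => pm z a) h
  simp only [pl_apply, pm_pm_left] at h1
  exact smul_right_injective _ ha h1

theorem pr_injective {a : V8 F} (ha : Q8 F a ≠ 0) : Function.Injective (pr a) := by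
  intro x y h
  have h1 := congrArg (fun z => pm a z) h
  simp only [pr_apply, pm_pm_right] at h1
  exact smul_right_injective _ ha h1

/-- triples of linear maps -/
def Tr (a b c : GL8 F) : Prop := ∀ x y, a (pm x y) = pm (b x) (c y)

theorem tr_iff {a b c : GL8 F} : Tr a b c ↔ Tri a (kap F * b * kap F) (kap F * c * kap F) := by
  constructor
  · intro h x y
    have h1 := h (oconj x) (oconj y)
    rw [pm, oconj_oconj, oconj_oconj] at h1
    exact h1
  · intro h x y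
    have h1 : a (omul (oconj x) (oconj y)) = omul (oconj (b (oconj (oconj x)))) (oconj (c (oconj (oconj y)))) :=
      h (oconj x) (oconj y)
    rw [oconj_oconj, oconj_oconj] at h1
    exact h1

theorem Tr.mul {a b c a' b' c' : GL8 F} (h : Tr a b c) (h' : Tr a' b' c') : Tr (a * a') (b * b') (c * c') := by
  intro x y
  show a (a' (pm x y)) = pm (b (b' x)) (c (c' y))
  rw [h', h]

theorem Tr.one : Tr (1 : GL8 F) 1 1 := fun _ _ => rfl

theorem Tr.inv {a b c : GL8 F} (h : Tr a b c) : Tr a⁻¹ b⁻¹ c⁻¹ := by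
  intro x y
  obtain ⟨x, rfl⟩ := b.surjective x
  obtain ⟨y, rfl⟩ := c.surjective y
  rw [← h]
  show a.symm (a _) = pm (b.symm (b x)) (c.symm (c y))
  rw [LinearEquiv.symm_apply_apply, LinearEquiv.symm_apply_apply, LinearEquiv.symm_apply_apply]

theorem Tr.unique {a b c b' c' : GL8 F} (h : Tr a b c) (h' : Tr a b' c') :
    ∃ e : F, e ≠ 0 ∧ (∀ x, b' x = e • b x) ∧ ∀ x, c' x = e⁻¹ • c x := by
  obtain ⟨e, he, h1, h2⟩ := (tr_iff.1 h).unique (tr_iff.1 h')
  refine ⟨e, he, fun x => ?_, fun x => ?_⟩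
  · have h3 : oconj (b' (oconj (oconj x))) = e • oconj (b (oconj (oconj x))) := h1 (oconj x)
    rw [oconj_oconj, ← oconj_smul] at h3
    exact (kap F).injective h3
  · have h3 : oconj (c' (oconj (oconj x))) = e⁻¹ • oconj (c (oconj (oconj x))) := h2 (oconj x)
    rw [oconj_oconj, ← oconj_smul] at h3
    exact (kap F).injective h3

/-- triples in `Ω` -/
def T3 (a b c : E8 F) : Prop := Tr a.1 b.1 c.1

theorem t3_iff {a b c : E8 F} : T3 a b c ↔ TriE a.1 (kap F * b.1 * kap F) (kap F * c.1 * kap F) :=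
  ⟨fun h => ⟨⟨a.2, kap_conj_mem b.2, kap_conj_mem c.2⟩, tr_iff.1 h⟩, fun h => tr_iff.2 h.2⟩

theorem T3.rot {a b c : E8 F} (h : T3 a b c) : T3 b c a := by
  have h1 := (t3_iff.1 h).rot
  rw [kap_conj_conj] at h1
  exact t3_iff.2 h1

theorem T3.mul {a b c a' b' c' : E8 F} (h : T3 a b c) (h' : T3 a' b' c') : T3 (a * a') (b * b') (c * c') :=
  Tr.mul h h'

theorem T3.one : T3 (1 : E8 F) 1 1 := Tr.one

theorem T3.inv {a b c : E8 F} (h : T3 a b c) : T3 a⁻¹ b⁻¹ c⁻¹ := Tr.inv h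

theorem T3.pow {a b c : E8 F} (h : T3 a b c) (n : ℕ) : T3 (a ^ n) (b ^ n) (c ^ n) := by
  induction n with
  | zero => simpa using T3.one
  | succ n ih => rw [pow_succ, pow_succ, pow_succ]; exact ih.mul h

theorem sq_one_of_smul {a b : E8 F} {e : F} (h : ∀ x, b.1 x = e • a.1 x) : e * e = 1 := by
  have h1 := mem_O.1 (E_le_O b.2) (one8 F)
  rw [h, QuadraticMap.map_smul, mem_O.1 (E_le_O a.2), norm_one8] at h1
  simpa using h1

theorem T3.unique {a b c b' c' : E8 F} (h : T3 a b c) (h' : T3 a b' c') :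
    ∃ e : F, e * e = 1 ∧ (∀ x, b'.1 x = e • b.1 x) ∧ ∀ x, c'.1 x = e • c.1 x := by
  obtain ⟨e, -, h1, h2⟩ := Tr.unique h h'
  have he := sq_one_of_smul h1
  exact ⟨e, he, h1, fun x => by rw [h2, inv_eq_of_mul_eq_one_left he]⟩

/-- scalar elements -/
def Sc (a : E8 F) (e : F) : Prop := ∀ x, a.1 x = e • x

theorem Sc.sq {a : E8 F} {e : F} (h : Sc a e) : e * e = 1 := sq_one_of_smul (a := 1) h

theorem Sc.one : Sc (1 : E8 F) 1 := fun x => (one_smul F x).symm

theorem Sc.eq_one {a : E8 F} (h : Sc a 1) : a = 1 :=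
  Subtype.ext (LinearEquiv.ext fun x => (h x).trans (one_smul F x))

theorem Sc.unique {a : E8 F} {e e' : F} (h : Sc a e) (h' : Sc a e') : e = e' :=
  smul_left_injective F (e8_ne (F := F)) ((h _).symm.trans (h' _))

theorem Sc.mul {a b : E8 F} {e e' : F} (h : Sc a e) (h' : Sc b e') : Sc (a * b) (e * e') := fun x => by
  show a.1 (b.1 x) = _
  rw [h', h, smul_smul]

theorem T3.sc {a b c : E8 F} (h : T3 a b c) {e : F} (ha : Sc a e) : ∃ d d', Sc b d ∧ Sc c d' ∧ e = d * d' := by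
  have he : e ≠ 0 := left_ne_zero_of_mul_eq_one ha.sq
  have h' : Tr a.1 (LinearEquiv.smulOfNeZero F (V8 F) e he) 1 := fun x y => by
    rw [ha]; exact (smul_pm e x y).symm
  obtain ⟨d, hd, h1, h2⟩ := Tr.unique h' h
  refine ⟨d * e, d⁻¹, fun x => ?_, h2, by field_simp⟩
  rw [h1, mul_smul]; rfl

theorem T3.sc_mul {a b c : E8 F} (h : T3 a b c) {e d d' : F} (ha : Sc a e) (hb : Sc b d) (hc : Sc c d') :
    e = d * d' := by
  obtain ⟨_, _, h1, h2, rfl⟩ := h.sc ha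
  rw [h1.unique hb, h2.unique hc]

section fin

variable [Fintype F]

theorem good8 : Good (Q8 F) := Cfsg.Agent.H989.OutOrth.Four.good4

theorem exists_T3 (a : E8 F) : ∃ b c, T3 a b c := by
  obtain ⟨g₁, g₂, h⟩ := exists_triple good8 a.2
  refine ⟨⟨_, kap_conj_mem h.1.2.1⟩, ⟨_, kap_conj_mem h.1.2.2⟩, t3_iff.2 ?_⟩
  show TriE a.1 (kap F * (kap F * g₁ * kap F) * kap F) (kap F * (kap F * g₂ * kap F) * kap F)
  rwa [kap_conj_conj, kap_conj_conj]

theorem exists_T3₁ (b : E8 F) : ∃ a c, T3 a b c := by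
  obtain ⟨c, a, h⟩ := exists_T3 b
  exact ⟨a, c, h.rot.rot⟩

theorem exists_T3₂ (c : E8 F) : ∃ a b, T3 a b c := by
  obtain ⟨a, b, h⟩ := exists_T3 c
  exact ⟨a, b, h.rot⟩

theorem mk_eq_one_iff {a : E8 F} : (a : G8 F) = 1 ↔ ∃ e, Sc a e := by
  rw [QuotientGroup.eq_one_iff]
  exact ⟨center_scalar good8, fun ⟨_, h⟩ => mem_center_of_scalar h⟩

theorem mk_eq_iff {a b : E8 F} : (a : G8 F) = b ↔ ∃ e : F, e * e = 1 ∧ ∀ x, b.1 x = e • a.1 x := by
  rw [QuotientGroup.eq, ← QuotientGroup.eq_one_iff, mk_eq_one_iff]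
  constructor
  · rintro ⟨e, he⟩
    refine ⟨e, he.sq, fun x => ?_⟩
    have h1 : a.1.symm (b.1 x) = e • x := he x
    rw [← a.1.apply_symm_apply (b.1 x), h1, map_smul]
  · rintro ⟨e, -, he⟩
    refine ⟨e, fun x => ?_⟩
    show a.1.symm (b.1 x) = e • x
    rw [he, map_smul, LinearEquiv.symm_apply_apply]

omit [Fintype F] in
theorem rho_T3 {ρ : MulAut (G8 F)} (hρ : IsRho ρ) {a b c : E8 F} (h : T3 a b c) : ρ (a : G8 F) = b :=
  hρ a b _ _ (t3_iff.1 h) (kap_conj_conj _).symm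

/-- `α` is `M` composed with triality -/
def Ty1 (α : MulAut (G8 F)) (M : Gam (Q8 F)) : Prop :=
  ∀ a b c : E8 F, T3 a b c → α (a : G8 F) = (conjE (Q8 F) M b : E8 F)

/-- `α` is `M` composed with the inverse of triality -/
def Ty2 (α : MulAut (G8 F)) (M : Gam (Q8 F)) : Prop :=
  ∀ a b c : E8 F, T3 a b c → α (a : G8 F) = (conjE (Q8 F) M c : E8 F)

theorem index_three : (Psi (Q8 F)).range.index = 3 := by
  have h2 := Cfsg.Agent.AutOrth.Final.index_plus_four (F := F)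
  rwa [Cfsg.Agent.AutOrth.Main.plusForm_eq] at h2

theorem three_cosets {A : Type*} [Group A] {N : Subgroup A} (hN : N.index = 3) {ρ : A} (h3 : ρ ^ 3 = 1) (hρ : ρ ∉ N)
    (α : A) : α ∈ N ∨ ρ⁻¹ * α ∈ N ∨ (ρ * ρ)⁻¹ * α ∈ N := by
  classical
  have h4 : ρ * ρ ∉ N := fun h => hρ (by
    have : ρ = (ρ * ρ) * (ρ * ρ) := by
      calc ρ = ρ ^ 3 * ρ := by rw [h3, one_mul]
        _ = _ := by rw [pow_succ, pow_two]; group
    rw [this]; exact mul_mem h h)
  have hfin : Finite (A ⧸ N) := Nat.finite_of_card_ne_zero (by rw [← Subgroup.index, hN]; norm_num)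
  have := Fintype.ofFinite (A ⧸ N)
  by_contra hc
  push Not at hc
  obtain ⟨h0, h1, h2⟩ := hc
  have h5 : ({((1 : A) : A ⧸ N), (ρ : A ⧸ N), ((ρ * ρ : A) : A ⧸ N), (α : A ⧸ N)} : Finset (A ⧸ N)).card = 4 := by
    rw [Finset.card_eq_four]
    refine ⟨_, _, _, _, ?_, ?_, ?_, ?_, ?_, ?_, rfl⟩ <;> rw [Ne, QuotientGroup.eq]
    · simpa using hρ
    · simpa using h4
    · simpa using h0
    · simpa using hρ
    · exact h1
    · exact h2
  have h6 := Finset.card_le_univ ({((1 : A) : A ⧸ N), (ρ : A ⧸ N), ((ρ * ρ : A) : A ⧸ N), (α : A ⧸ N)} : Finset (A ⧸ N))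
  rw [h5, ← Nat.card_eq_fintype_card, ← Subgroup.index, hN] at h6
  omega

theorem three_cosets' {A : Type*} [Group A] {N : Subgroup A} (hN : N.index = 3) {ρ : A} (h3 : ρ ^ 3 = 1) (hρ : ρ ∉ N)
    (α : A) : α ∈ N ∨ α * ρ⁻¹ ∈ N ∨ α * (ρ * ρ)⁻¹ ∈ N := by
  have h4 : ρ⁻¹ ^ 3 = 1 := by rw [inv_pow, h3, inv_one]
  rcases three_cosets hN h4 (fun h => hρ (by simpa using h)) α⁻¹ with h | h | h
  · exact Or.inl (by simpa using h)
  · exact Or.inr (Or.inl (by simpa using inv_mem h))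
  · exact Or.inr (Or.inr (by simpa [mul_assoc] using inv_mem h))

omit [Fintype F] in
theorem ty1_of {ρ α : MulAut (G8 F)} (hρ : IsRho ρ) (h : α * ρ⁻¹ ∈ (Psi (Q8 F)).range) : ∃ M, Ty1 α M := by
  obtain ⟨M, hM⟩ := h
  refine ⟨M, fun a b c ht => ?_⟩
  rw [← Psi_mk, hM, ← rho_T3 hρ ht]
  simp

omit [Fintype F] in
theorem ty2_of {ρ α : MulAut (G8 F)} (hρ : IsRho ρ) (h : α * (ρ * ρ)⁻¹ ∈ (Psi (Q8 F)).range) : ∃ M, Ty2 α M := by
  obtain ⟨M, hM⟩ := h
  refine ⟨M, fun a b c ht => ?_⟩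
  rw [← Psi_mk, hM, ← rho_T3 hρ ht.rot, ← rho_T3 hρ ht]
  simp

/-- the three cosets -/
theorem cosets (α : MulAut (G8 F)) : ∃ M, Psi (Q8 F) M = α ∨ Ty1 α M ∨ Ty2 α M := by
  obtain ⟨ρ, hρ⟩ := exists_rho (good8 (F := F))
  rcases three_cosets' index_three (hρ.cube good8) (hρ.not_mem_range good8) α with ⟨M, h⟩ | h | h
  · exact ⟨M, Or.inl h⟩
  · obtain ⟨M, h⟩ := ty1_of hρ h
    exact ⟨M, Or.inr (Or.inl h)⟩
  · obtain ⟨M, h⟩ := ty2_of hρ h
    exact ⟨M, Or.inr (Or.inr h)⟩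

/-- either `S` is conjugate to a group of semisimilitudes or it meets both non-trivial cosets -/
theorem dichotomy (S : Subgroup (MulAut (G8 F))) :
    (∃ β : MulAut (G8 F), S.map (MulAut.conj β).toMonoidHom ≤ (Psi (Q8 F)).range) ∨
      ((∃ α ∈ S, ∃ M, Ty1 α M) ∧ ∃ α ∈ S, ∃ M, Ty2 α M) := by
  obtain ⟨ρ, hρ⟩ := exists_rho (good8 (F := F))
  have h3 := hρ.cube good8
  have hc := three_cosets' index_three h3 (hρ.not_mem_range good8)
  set N := (Psi (Q8 F)).range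
  have key : ∀ σ τ : MulAut (G8 F), (∀ α, α ∈ N ∨ α * σ⁻¹ ∈ N ∨ α * τ⁻¹ ∈ N) → (∀ α ∈ S, α * σ⁻¹ ∉ N) →
      ∃ β : MulAut (G8 F), S.map (MulAut.conj β).toMonoidHom ≤ N := by
    intro σ τ hc h1
    by_cases h0 : ∀ α ∈ S, α ∈ N
    · refine ⟨1, ?_⟩
      rintro _ ⟨s, hs, rfl⟩
      simpa using h0 s hs
    push Not at h0
    obtain ⟨s₀, hs₀, h0⟩ := h0
    have h2 : s₀ * τ⁻¹ ∈ N := ((hc s₀).resolve_left h0).resolve_left (h1 s₀ hs₀)
    refine ⟨σ, ?_⟩
    rintro _ ⟨s, hs, rfl⟩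
    rcases hc (σ * s) with h | h | h
    · exfalso
      apply h1 s⁻¹ (inv_mem hs)
      simpa using inv_mem h
    · exact h
    · exfalso
      apply h1 (s₀ * s⁻¹) (mul_mem hs₀ (inv_mem hs))
      have h5 := mul_mem h2 (inv_mem h)
      simpa [mul_assoc] using h5
  by_cases h1 : ∀ α ∈ S, α * ρ⁻¹ ∉ N
  · exact Or.inl (key ρ (ρ * ρ) hc h1)
  by_cases h2 : ∀ α ∈ S, α * (ρ * ρ)⁻¹ ∉ N
  · exact Or.inl (key (ρ * ρ) ρ (fun α => by have := hc α; tauto) h2)
  push Not at h1 h2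
  obtain ⟨α, hα, h1⟩ := h1
  obtain ⟨β, hβ, h2⟩ := h2
  exact Or.inr ⟨⟨α, hα, ty1_of hρ h1⟩, ⟨β, hβ, ty2_of hρ h2⟩⟩

end fin

end Cfsg.Agent.SB.D4
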